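import Mathlib

set_option autoImplicit false

namespace Cfsg.Agent.Lib.Helper41

/-- two classes, one self-normalizing (`g = n₁ m₁`), one with normalizer index 2 (`g = 2 n₂ m₂`) -/
theorem ar2_core (g n₁ m₁ n₂ m₂ : ℕ) (h1 : g = n₁ * m₁) (h2 : g = 2 * n₂ * m₂) (hm₁ : 2 ≤ m₁)
    (hm₂ : 2 ≤ m₂) (hn₂ : 1 ≤ n₂) (heq : g + 2 = 2 * n₁ + 2 * n₂) :
    (m₁ = 2 ∧ n₂ = 1) ∨ (g = 12 ∧ n₁ = 4 ∧ n₂ = 3 ∧ m₁ = 3 ∧ m₂ = 2) := by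
  rcases Nat.lt_or_ge m₁ 4 with h | h
  · interval_cases m₁
    · left
      refine ⟨rfl, ?_⟩
      omega
    · right
      have h3 : n₁ + 2 = 2 * n₂ := by omega
      rcases Nat.lt_or_ge m₂ 3 with h' | h'
      · have hm : m₂ = 2 := by omega
        subst hm
        refine ⟨?_, ?_, ?_, rfl, rfl⟩ <;> omega
      · exfalso
        have h5 : 2 * n₂ * 3 ≤ 2 * n₂ * m₂ := Nat.mul_le_mul_left _ h'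
        omega
  · exfalso
    have h5 : n₁ * 4 ≤ n₁ * m₁ := Nat.mul_le_mul_left _ h
    have h6 : 2 * n₂ * 2 ≤ 2 * n₂ * m₂ := Nat.mul_le_mul_left _ hm₂
    omega

/-- the symmetric conclusion for three classes with normalizer index 2 -/
def Out3 (g n₁ m₁ n₂ m₂ n₃ m₃ : ℕ) : Prop :=
  (n₁ = 1 ∨ n₂ = 1 ∨ n₃ = 1) ∨ (g = 12 ∧ 2 ≤ n₁ ∧ 2 ≤ n₂ ∧ 2 ≤ n₃) ∨
    (g = 24 ∧ m₁ ≤ 4 ∧ m₂ ≤ 4 ∧ m₃ ≤ 4) ∨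
    (g = 60 ∧ m₁.Prime ∧ m₂.Prime ∧ m₃.Prime ∧
      (n₁ * (m₁ - 1) = 15 ∨ n₁ * (m₁ - 1) = 20 ∨ n₁ * (m₁ - 1) = 24) ∧
      (n₂ * (m₂ - 1) = 15 ∨ n₂ * (m₂ - 1) = 20 ∨ n₂ * (m₂ - 1) = 24) ∧
      (n₃ * (m₃ - 1) = 15 ∨ n₃ * (m₃ - 1) = 20 ∨ n₃ * (m₃ - 1) = 24))

theorem Out3.swap12 {g n₁ m₁ n₂ m₂ n₃ m₃ : ℕ} (h : Out3 g n₁ m₁ n₂ m₂ n₃ m₃) :
    Out3 g n₂ m₂ n₁ m₁ n₃ m₃ := by
  unfold Out3 at h ⊢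
  tauto

theorem Out3.swap23 {g n₁ m₁ n₂ m₂ n₃ m₃ : ℕ} (h : Out3 g n₁ m₁ n₂ m₂ n₃ m₃) :
    Out3 g n₁ m₁ n₃ m₃ n₂ m₂ := by
  unfold Out3 at h ⊢
  tauto

theorem ar3_core (g n₁ m₁ n₂ m₂ n₃ m₃ : ℕ) (h1 : g = 2 * n₁ * m₁) (h2 : g = 2 * n₂ * m₂)
    (h3 : g = 2 * n₃ * m₃) (hn₃ : 1 ≤ n₃) (hm₃ : 2 ≤ m₃)
    (heq : 2 * (n₁ + n₂ + n₃) = g + 2) (hm₁ : m₁ = 2) (hm₂ : m₂ = 2 ∨ m₂ = 3) :
    Out3 g n₁ m₁ n₂ m₂ n₃ m₃ := by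
  subst hm₁
  rcases hm₂ with hm₂ | hm₂
  · subst hm₂
    left
    right; right
    omega
  · subst hm₂
    have h4 : g + 12 = 12 * n₃ := by omega
    have hm3 : m₃ < 6 := by
      by_contra hcon
      have h5 : 2 * n₃ * 6 ≤ 2 * n₃ * m₃ := Nat.mul_le_mul_left _ (by omega)
      omega
    interval_cases m₃
    · exfalso; omega
    · right; left
      refine ⟨?_, ?_, ?_, ?_⟩ <;> omega
    · right; right; left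
      refine ⟨?_, ?_, ?_, ?_⟩ <;> omega
    · right; right; right
      have hn3 : n₃ = 6 := by omega
      have hg : g = 60 := by omega
      have hn1 : n₁ = 15 := by omega
      have hn2 : n₂ = 10 := by omega
      subst hn3 hn1 hn2
      refine ⟨hg, Nat.prime_two, Nat.prime_three, Nat.prime_five, ?_, ?_, ?_⟩ <;> norm_num

theorem ar3 (g n₁ m₁ n₂ m₂ n₃ m₃ : ℕ) (h1 : g = 2 * n₁ * m₁) (h2 : g = 2 * n₂ * m₂)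
    (h3 : g = 2 * n₃ * m₃) (hn₁ : 1 ≤ n₁) (hn₂ : 1 ≤ n₂) (hn₃ : 1 ≤ n₃)
    (hm₁ : 2 ≤ m₁) (hm₂ : 2 ≤ m₂) (hm₃ : 2 ≤ m₃)
    (heq : 2 * (n₁ + n₂ + n₃) = g + 2) :
    Out3 g n₁ m₁ n₂ m₂ n₃ m₃ := by
  -- a lemma: from `m = 2` for one class, one of the other two has `m ≤ 3`
  have key : ∀ (a b c na nb nc : ℕ), g = 2 * na * a → g = 2 * nb * b → g = 2 * nc * c →
      2 * (na + nb + nc) = g + 2 → a = 2 → 2 ≤ b → 2 ≤ c → 1 ≤ nb → 1 ≤ nc →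
      ((b = 2 ∨ b = 3) ∨ (c = 2 ∨ c = 3)) := by
    intro a b c na nb nc ha hb hc hs ha2 hb2 hc2 hnb hnc
    subst ha2
    by_contra hcon
    push Not at hcon
    have hb4 : 4 ≤ b := by omega
    have hc4 : 4 ≤ c := by omega
    have h5 : 2 * nb * 4 ≤ 2 * nb * b := Nat.mul_le_mul_left _ hb4
    have h6 : 2 * nc * 4 ≤ 2 * nc * c := Nat.mul_le_mul_left _ hc4
    omega
  have hex : m₁ = 2 ∨ m₂ = 2 ∨ m₃ = 2 := by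
    by_contra hcon
    push Not at hcon
    have h5 : 2 * n₁ * 3 ≤ 2 * n₁ * m₁ := Nat.mul_le_mul_left _ (by omega)
    have h6 : 2 * n₂ * 3 ≤ 2 * n₂ * m₂ := Nat.mul_le_mul_left _ (by omega)
    have h7 : 2 * n₃ * 3 ≤ 2 * n₃ * m₃ := Nat.mul_le_mul_left _ (by omega)
    omega
  rcases hex with hm | hm | hm
  · rcases key m₁ m₂ m₃ n₁ n₂ n₃ h1 h2 h3 heq hm hm₂ hm₃ hn₂ hn₃ with h | h
    · exact ar3_core g n₁ m₁ n₂ m₂ n₃ m₃ h1 h2 h3 hn₃ hm₃ heq hm h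
    · exact (ar3_core g n₁ m₁ n₃ m₃ n₂ m₂ h1 h3 h2 hn₂ hm₂ (by omega) hm h).swap23
  · rcases key m₂ m₁ m₃ n₂ n₁ n₃ h2 h1 h3 (by omega) hm hm₁ hm₃ hn₁ hn₃ with h | h
    · exact (ar3_core g n₂ m₂ n₁ m₁ n₃ m₃ h2 h1 h3 hn₃ hm₃ (by omega) hm h).swap12
    · exact ((ar3_core g n₂ m₂ n₃ m₃ n₁ m₁ h2 h3 h1 hn₁ hm₁ (by omega) hm h).swap23).swap12
  · rcases key m₃ m₁ m₂ n₃ n₁ n₂ h3 h1 h2 (by omega) hm hm₁ hm₂ hn₁ hn₂ with h | h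
    · exact ((ar3_core g n₃ m₃ n₁ m₁ n₂ m₂ h3 h1 h2 hn₂ hm₂ (by omega) hm h).swap12).swap23
    · exact (((ar3_core g n₃ m₃ n₂ m₂ n₁ m₁ h3 h2 h1 hn₁ hm₁ (by omega) hm h).swap23).swap12).swap23

end Cfsg.Agent.Lib.Helper41
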