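import Mathlib

set_option autoImplicit false

namespace Cfsg.Agent.Lib.Helper41

/-- the main Diophantine step in the unipotent case -/
theorem arU2_core (g n q k n₂ m₂ : ℕ) (hg : g = n * q * k) (hg2 : g = 2 * n₂ * m₂)
    (hk : 2 ≤ k) (hkq : k + 1 ≤ q) (hn : q ∣ n - 1) (hn1 : 1 ≤ n)
    (heq : 2 * n₂ + 2 * n = n * q + 2) :
    n = 1 ∨ (k + 1 = q ∧ g = q * (q ^ 2 - 1)) ∨ (2 * k + 1 = q ∧ 2 * g = q * (q ^ 2 - 1)) ∨
      (g = 60 ∧ q = 3 ∧ k = 2 ∧ m₂ = 5 ∧ n = 10 ∧ n₂ = 6) := by
  by_cases hn' : n = 1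
  · exact Or.inl hn'
  right
  obtain ⟨t, ht⟩ := hn
  have ht1 : 1 ≤ t := by
    rcases Nat.eq_zero_or_pos t with h | h
    · subst h
      omega
    · exact h
  have hn2 : n = 1 + q * t := by omega
  obtain ⟨r, hr⟩ : ∃ r, q = r + 2 := ⟨q - 2, by omega⟩
  have hr1 : 1 ≤ r := by omega
  subst hr
  subst hn2
  have hsq : (r + 2) ^ 2 - 1 = (r + 1) * (r + 3) := by
    have h : (r + 2) ^ 2 = (r + 1) * (r + 3) + 1 := by ring
    omega
  have h2n₂ : 2 * n₂ = (r + 2) * (1 + r * t) := by
    have h : 2 * n₂ + 2 * (1 + (r + 2) * t) = (r + 2) * (1 + r * t) + 2 * (1 + (r + 2) * t) := by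
      rw [heq]; ring
    exact Nat.add_right_cancel h
  have hum : (1 + r * t) * m₂ = (1 + (r + 2) * t) * k := by
    have h1 : (r + 2) * ((1 + r * t) * m₂) = (r + 2) * ((1 + (r + 2) * t) * k) := by
      calc (r + 2) * ((1 + r * t) * m₂) = 2 * n₂ * m₂ := by rw [h2n₂]; ring
        _ = g := hg2.symm
        _ = (1 + (r + 2) * t) * (r + 2) * k := hg
        _ = (r + 2) * ((1 + (r + 2) * t) * k) := by ring
    exact Nat.eq_of_mul_eq_mul_left (by omega) h1
  have hum2 : (1 + r * t) * m₂ = (1 + r * t) * k + 2 * t * k := by rw [hum]; ring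
  have hmk : k < m₂ := by
    by_contra hcon
    push Not at hcon
    have h5 : (1 + r * t) * m₂ ≤ (1 + r * t) * k := Nat.mul_le_mul_left _ hcon
    have h6 : 0 < 2 * t * k := by positivity
    omega
  obtain ⟨δ, hδ⟩ : ∃ δ, m₂ = k + δ := ⟨m₂ - k, by omega⟩
  have hδ1 : 1 ≤ δ := by omega
  subst hδ
  have hud : (1 + r * t) * δ = 2 * t * k := by
    have h : (1 + r * t) * k + (1 + r * t) * δ = (1 + r * t) * k + 2 * t * k := by
      rw [← hum2]; ring
    exact Nat.add_left_cancel h
  have htd : t ∣ δ := by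
    have h1 : t ∣ δ + t * (r * δ) := by
      have h : δ + t * (r * δ) = t * (2 * k) := by
        have e : t * (2 * k) = 2 * t * k := by ring
        rw [e, ← hud]; ring
      rw [h]
      exact dvd_mul_right _ _
    exact (Nat.dvd_add_left (dvd_mul_right t (r * δ))).mp h1
  obtain ⟨j, hj⟩ := htd
  subst hj
  have hj1 : 1 ≤ j := by
    rcases Nat.eq_zero_or_pos j with h | h
    · subst h
      simp at hδ1
    · exact h
  have hju : j * (1 + r * t) = 2 * k := by
    have h1 : t * (j * (1 + r * t)) = t * (2 * k) := by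
      have e : t * (2 * k) = 2 * t * k := by ring
      rw [e, ← hud]; ring
    exact Nat.eq_of_mul_eq_mul_left (by omega) h1
  obtain ⟨u, hu⟩ : ∃ u, u = 1 + r * t := ⟨_, rfl⟩
  rw [← hu] at hju
  have hrt : r ≤ r * t := Nat.le_mul_of_pos_right r (by omega)
  have hj3 : j ≤ 2 := by
    by_contra hcon
    push Not at hcon
    have h5 : 3 * u ≤ j * u := Nat.mul_le_mul_right _ (by omega)
    omega
  have hg' : g = (1 + (r + 2) * t) * (r + 2) * k := hg
  interval_cases j
  · -- j = 1 : u = 2k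
    rcases Nat.lt_or_ge t 3 with h3 | h3
    · interval_cases t
      · right; left
        refine ⟨by omega, ?_⟩
        rw [hsq, hg']
        have hk2 : 2 * k = r + 1 := by omega
        calc 2 * ((1 + (r + 2) * 1) * (r + 2) * k) = (r + 2) * ((2 * k) * (r + 3)) := by ring
          _ = (r + 2) * ((r + 1) * (r + 3)) := by rw [hk2]
      · exfalso
        omega
    · have h5 : r * 3 ≤ r * t := Nat.mul_le_mul_left _ h3
      have hr' : r = 1 := by omega
      subst hr'
      have ht' : t = 3 := by omega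
      subst ht'
      have hk' : k = 2 := by omega
      subst hk'
      right; right
      refine ⟨by rw [hg'], rfl, rfl, by omega, by omega, by omega⟩
  · -- j = 2 : u = k
    have ht' : t = 1 := by
      by_contra hcon
      have h5 : r * 2 ≤ r * t := Nat.mul_le_mul_left _ (by omega)
      omega
    subst ht'
    left
    refine ⟨by omega, ?_⟩
    rw [hsq, hg']
    have hk2 : k = r + 1 := by omega
    rw [hk2]
    ring

end Cfsg.Agent.Lib.Helper41
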