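import Mathlib

set_option autoImplicit false

namespace Cfsg.Agent.Lib.Helper41

/-- Abstract data for Dickson's counting argument: a conjugation-invariant partition of a group
into subgroups `M a`, with a distinguished "unipotent" type. -/
structure DPart (G : Type*) [Group G] where
  M : G → Subgroup G
  isU : G → Prop
  mem_self : ∀ a, a ∈ M a
  eq_of_mem : ∀ a b, a ≠ 1 → b ≠ 1 → b ∈ M a → M b = M a
  conj : ∀ g a, M (g * a * g⁻¹) = (M a).map (MulAut.conj g).toMonoidHom
  isU_conj : ∀ g a, isU a → isU (g * a * g⁻¹)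
  isU_of_mem : ∀ a b, a ≠ 1 → b ≠ 1 → b ∈ M a → isU a → isU b
  torus_index : ∀ a, a ≠ 1 → ¬ isU a →
    Nat.card (Subgroup.normalizer ((M a : Subgroup G) : Set G)) ≤ 2 * Nat.card (M a)
  U_conj : ∀ a b, a ≠ 1 → b ≠ 1 → isU a → isU b → ∃ g, g * b * g⁻¹ ∈ M a
  U_comm : ∀ a b, a ≠ 1 → isU a → b ≠ 1 → a * b = b * a → b ∈ M a
  U_compl : ∀ a, a ≠ 1 → isU a →
    Nat.card (M a) < Nat.card (Subgroup.normalizer ((M a : Subgroup G) : Set G)) →
    ∃ b, b ≠ 1 ∧ ¬ isU b ∧ M b ≤ Subgroup.normalizer ((M a : Subgroup G) : Set G) ∧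
      Nat.card (M b) * Nat.card (M a) =
        Nat.card (Subgroup.normalizer ((M a : Subgroup G) : Set G))

namespace DPart

variable {G : Type*} [Group G] (P : DPart G)

theorem conj_ne_one {g b : G} (hb : b ≠ 1) : g * b * g⁻¹ ≠ 1 := by
  intro h
  apply hb
  have h2 : b = g⁻¹ * (g * b * g⁻¹) * g := by group
  rw [h2, h]
  group

theorem conj_mem_iff (g a x : G) : g * x * g⁻¹ ∈ P.M (g * a * g⁻¹) ↔ x ∈ P.M a := by
  rw [P.conj]
  constructor
  · rintro ⟨y, hy, hyx⟩
    have h : g * y * g⁻¹ = g * x * g⁻¹ := hyx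
    have h2 : y = x := mul_left_cancel (mul_right_cancel h)
    exact h2 ▸ hy
  · intro hx
    exact ⟨x, hx, rfl⟩

theorem M_conj_eq {a b g : G} (ha : a ≠ 1) (hb : b ≠ 1) (h : g * b * g⁻¹ ∈ P.M a) :
    P.M (g * b * g⁻¹) = P.M a :=
  P.eq_of_mem a _ ha (conj_ne_one hb) h

theorem mem_normalizer_iff {a g : G} (ha : a ≠ 1) :
    g ∈ Subgroup.normalizer ((P.M a : Subgroup G) : Set G) ↔ g * a * g⁻¹ ∈ P.M a := by
  rw [Subgroup.mem_normalizer_iff_map_conj_eq]
  constructor
  · intro h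
    have h2 : P.M (g * a * g⁻¹) = P.M a := by rw [P.conj]; exact h
    rw [← h2]
    exact P.mem_self _
  · intro h
    have h2 : P.M (g * a * g⁻¹) = P.M a := P.M_conj_eq ha ha h
    rw [P.conj] at h2
    exact h2

theorem card_M_conj (g a : G) : Nat.card (P.M (g * a * g⁻¹)) = Nat.card (P.M a) := by
  rw [P.conj]
  exact Nat.card_congr
    (Subgroup.equivMapOfInjective _ _ (MulAut.conj g).injective).symm.toEquiv

theorem card_normalizer_conj (g a : G) :
    Nat.card (Subgroup.normalizer ((P.M (g * a * g⁻¹) : Subgroup G) : Set G)) =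
      Nat.card (Subgroup.normalizer ((P.M a : Subgroup G) : Set G)) := by
  rw [P.conj]
  have h := Subgroup.map_equiv_normalizer_eq (P.M a) (MulAut.conj g)
  rw [← h]
  exact Nat.card_congr
    (Subgroup.equivMapOfInjective _ _ (MulAut.conj g).injective).symm.toEquiv

theorem isU_conj_iff (g a : G) : P.isU (g * a * g⁻¹) ↔ P.isU a := by
  constructor
  · intro h
    have h2 := P.isU_conj g⁻¹ _ h
    have h3 : g⁻¹ * (g * a * g⁻¹) * g⁻¹⁻¹ = a := by group
    rw [h3] at h2
    exact h2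
  · exact P.isU_conj g a

theorem one_lt_card_M {a : G} [Finite G] (ha : a ≠ 1) : 2 ≤ Nat.card (P.M a) := by
  have h : 1 < Nat.card (P.M a) := by
    rw [Subgroup.one_lt_card_iff_ne_bot]
    intro hb
    have := P.mem_self a
    rw [hb, Subgroup.mem_bot] at this
    exact ha this
  omega

theorem card_M_dvd_card_normalizer (a : G) :
    Nat.card (P.M a) ∣ Nat.card (Subgroup.normalizer ((P.M a : Subgroup G) : Set G)) :=
  Subgroup.card_dvd_of_le Subgroup.le_normalizer

end DPart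

end Cfsg.Agent.Lib.Helper41
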