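import Mathlib
import Cfsg.Agent.Lib.Helper41.DicksonPart

set_option autoImplicit false

namespace Cfsg.Agent.Lib.Helper41

namespace DPart

variable {G : Type*} [Group G] [Fintype G] (P : DPart G)

open Classical in
/-- the class of `a`: nonidentity elements having a conjugate in `M a` -/
noncomputable def cls (a : G) : Finset G :=
  Finset.univ.filter (fun b => b ≠ 1 ∧ ∃ g, g * b * g⁻¹ ∈ P.M a)

open Classical in
theorem mem_cls {a b : G} : b ∈ P.cls a ↔ b ≠ 1 ∧ ∃ g, g * b * g⁻¹ ∈ P.M a := by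
  unfold cls
  rw [Finset.mem_filter]
  exact ⟨fun h => h.2, fun h => ⟨Finset.mem_univ _, h⟩⟩

theorem self_mem_cls {a : G} (ha : a ≠ 1) : a ∈ P.cls a :=
  P.mem_cls.mpr ⟨ha, 1, by simpa using P.mem_self a⟩

theorem ne_one_of_mem_cls {a b : G} (hb : b ∈ P.cls a) : b ≠ 1 := (P.mem_cls.mp hb).1

theorem cls_eq_of_mem {a b : G} (ha : a ≠ 1) (hb : b ∈ P.cls a) : P.cls b = P.cls a := by
  obtain ⟨hb1, g, hg⟩ := P.mem_cls.mp hb
  have hM : P.M (g * b * g⁻¹) = P.M a := P.M_conj_eq ha hb1 hg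
  ext c
  rw [mem_cls, mem_cls]
  constructor
  · rintro ⟨hc, h, hh⟩
    refine ⟨hc, g * h, ?_⟩
    rw [← hM]
    have e : g * h * c * (g * h)⁻¹ = g * (h * c * h⁻¹) * g⁻¹ := by group
    rw [e, P.conj_mem_iff]
    exact hh
  · rintro ⟨hc, h, hh⟩
    refine ⟨hc, g⁻¹ * h, ?_⟩
    rw [← hM] at hh
    have e : h * c * h⁻¹ = g * (g⁻¹ * h * c * (g⁻¹ * h)⁻¹) * g⁻¹ := by group
    rw [e, P.conj_mem_iff] at hh
    exact hh

theorem card_M_of_mem_cls {a b : G} (ha : a ≠ 1) (hb : b ∈ P.cls a) :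
    Nat.card (P.M b) = Nat.card (P.M a) := by
  obtain ⟨hb1, g, hg⟩ := P.mem_cls.mp hb
  rw [← P.M_conj_eq ha hb1 hg, P.card_M_conj]

theorem card_normalizer_of_mem_cls {a b : G} (ha : a ≠ 1) (hb : b ∈ P.cls a) :
    Nat.card (Subgroup.normalizer ((P.M b : Subgroup G) : Set G)) =
      Nat.card (Subgroup.normalizer ((P.M a : Subgroup G) : Set G)) := by
  obtain ⟨hb1, g, hg⟩ := P.mem_cls.mp hb
  rw [← P.M_conj_eq ha hb1 hg, P.card_normalizer_conj]

theorem isU_of_mem_cls {a b : G} (ha : a ≠ 1) (hb : b ∈ P.cls a) : P.isU b ↔ P.isU a := by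
  obtain ⟨hb1, g, hg⟩ := P.mem_cls.mp hb
  rw [← P.isU_conj_iff g b]
  constructor
  · intro h
    have hM := P.M_conj_eq ha hb1 hg
    have ha' : a ∈ P.M (g * b * g⁻¹) := by rw [hM]; exact P.mem_self a
    exact P.isU_of_mem _ a (conj_ne_one hb1) ha ha' h
  · intro h
    exact P.isU_of_mem a _ ha (conj_ne_one hb1) hg h

open Classical in
theorem card_filter_mem_subgroup (N : Subgroup G) :
    (Finset.univ.filter (fun g => g ∈ N)).card = Nat.card N := by
  rw [Nat.card_eq_fintype_card, Fintype.card_subtype]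

open Classical in
/-- the main count: `|cls a| * |N(M a)| = |G| * (|M a| - 1)` -/
theorem card_cls_mul {a : G} (ha : a ≠ 1) :
    (P.cls a).card * Nat.card (Subgroup.normalizer ((P.M a : Subgroup G) : Set G)) =
      Fintype.card G * (Nat.card (P.M a) - 1) := by
  have key := Finset.sum_card_bipartiteAbove_eq_sum_card_bipartiteBelow (s := P.cls a)
    (t := (Finset.univ : Finset G)) (r := fun b g => g * b * g⁻¹ ∈ P.M a)
  have hL : ∀ b ∈ P.cls a, ((Finset.univ : Finset G).bipartiteAbove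
      (fun b g => g * b * g⁻¹ ∈ P.M a) b).card =
      Nat.card (Subgroup.normalizer ((P.M a : Subgroup G) : Set G)) := by
    intro b hb
    obtain ⟨hb1, g₀, hg₀⟩ := P.mem_cls.mp hb
    have hM : P.M (g₀ * b * g₀⁻¹) = P.M a := P.M_conj_eq ha hb1 hg₀
    have ha' : g₀ * b * g₀⁻¹ ≠ 1 := conj_ne_one hb1
    rw [← card_filter_mem_subgroup]
    apply Finset.card_nbij' (fun g => g * g₀⁻¹) (fun n => n * g₀)
    · intro g hg
      have hg' : g * b * g⁻¹ ∈ P.M a := by
        have := Finset.mem_coe.mp hg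
        rw [Finset.mem_bipartiteAbove] at this
        exact this.2
      show g * g₀⁻¹ ∈ ((Finset.univ.filter (fun g => g ∈
        Subgroup.normalizer ((P.M a : Subgroup G) : Set G)) : Finset G) : Set G)
      rw [Finset.mem_coe, Finset.mem_filter]
      refine ⟨Finset.mem_univ _, ?_⟩
      rw [← hM, P.mem_normalizer_iff ha', hM]
      have e : g * g₀⁻¹ * (g₀ * b * g₀⁻¹) * (g * g₀⁻¹)⁻¹ = g * b * g⁻¹ := by group
      rw [e]
      exact hg'
    · intro n hn
      have hn' : n ∈ Subgroup.normalizer ((P.M a : Subgroup G) : Set G) := by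
        have := Finset.mem_coe.mp hn
        rw [Finset.mem_filter] at this
        exact this.2
      rw [← hM, P.mem_normalizer_iff ha', hM] at hn'
      show n * g₀ ∈ (((Finset.univ : Finset G).bipartiteAbove
        (fun b g => g * b * g⁻¹ ∈ P.M a) b : Finset G) : Set G)
      rw [Finset.mem_coe, Finset.mem_bipartiteAbove]
      refine ⟨Finset.mem_univ _, ?_⟩
      have e : n * g₀ * b * (n * g₀)⁻¹ = n * (g₀ * b * g₀⁻¹) * n⁻¹ := by group
      rw [e]
      exact hn'
    · intro g _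
      group
    · intro n _
      group
  have hR : ∀ g ∈ (Finset.univ : Finset G), ((P.cls a).bipartiteBelow
      (fun b g => g * b * g⁻¹ ∈ P.M a) g).card = Nat.card (P.M a) - 1 := by
    intro g _
    have h1 : ((Finset.univ.filter (fun x => x ∈ P.M a)).erase 1).card = Nat.card (P.M a) - 1 := by
      rw [Finset.card_erase_of_mem, card_filter_mem_subgroup]
      rw [Finset.mem_filter]
      exact ⟨Finset.mem_univ _, one_mem _⟩
    rw [← h1]
    apply Finset.card_nbij' (fun b => g * b * g⁻¹) (fun x => g⁻¹ * x * g)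
    · intro b hb
      have hb' := Finset.mem_coe.mp hb
      rw [Finset.mem_bipartiteBelow] at hb'
      show g * b * g⁻¹ ∈ (((Finset.univ.filter (fun x => x ∈ P.M a)).erase 1 : Finset G) : Set G)
      rw [Finset.mem_coe, Finset.mem_erase, Finset.mem_filter]
      exact ⟨conj_ne_one (P.ne_one_of_mem_cls hb'.1), Finset.mem_univ _, hb'.2⟩
    · intro x hx
      have hx' := Finset.mem_coe.mp hx
      rw [Finset.mem_erase, Finset.mem_filter] at hx'
      show g⁻¹ * x * g ∈ (((P.cls a).bipartiteBelow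
        (fun b g => g * b * g⁻¹ ∈ P.M a) g : Finset G) : Set G)
      rw [Finset.mem_coe, Finset.mem_bipartiteBelow]
      have e : g * (g⁻¹ * x * g) * g⁻¹ = x := by group
      have hne : g⁻¹ * x * g ≠ 1 := by
        intro h
        apply hx'.1
        have e2 : x = g * (g⁻¹ * x * g) * g⁻¹ := by group
        rw [e2, h]
        group
      refine ⟨P.mem_cls.mpr ⟨hne, g, ?_⟩, ?_⟩
      · rw [e]; exact hx'.2.2
      · show g * (g⁻¹ * x * g) * g⁻¹ ∈ P.M a
        rw [e]; exact hx'.2.2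
    · intro b _
      group
    · intro x _
      group
  rw [Finset.sum_congr rfl hL, Finset.sum_congr rfl hR, Finset.sum_const, Finset.sum_const,
    smul_eq_mul, smul_eq_mul, Finset.card_univ] at key
  exact key

end DPart

end Cfsg.Agent.Lib.Helper41
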