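import Mathlib
import Cfsg.Agent.Lib.Helper41.DicksonClass

set_option autoImplicit false

namespace Cfsg.Agent.Lib.Helper41

/-- a subgroup acting freely by conjugation on a finset: its order divides the cardinality -/
theorem card_dvd_of_free_conj {G : Type*} [Group G] [Finite G] (Q : Subgroup G) (Y : Finset G)
    (hstab : ∀ x ∈ Q, ∀ y ∈ Y, x * y * x⁻¹ ∈ Y)
    (hfree : ∀ x ∈ Q, ∀ y ∈ Y, x * y * x⁻¹ = y → x = 1) : Nat.card Q ∣ Y.card := by
  classical
  letI : MulAction Q {y : G // y ∈ Y} :=
    { smul := fun x y => ⟨(x : G) * y.1 * (x : G)⁻¹, hstab x.1 x.2 y.1 y.2⟩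
      one_smul := by
        intro y
        apply Subtype.ext
        show ((1 : Q) : G) * y.1 * ((1 : Q) : G)⁻¹ = y.1
        simp
      mul_smul := by
        intro x x' y
        apply Subtype.ext
        show ((x * x' : Q) : G) * y.1 * ((x * x' : Q) : G)⁻¹ =
          (x : G) * ((x' : G) * y.1 * (x' : G)⁻¹) * (x : G)⁻¹
        rw [Subgroup.coe_mul]
        group }
  have hst : ∀ y : {y : G // y ∈ Y}, MulAction.stabilizer Q y = ⊥ := by
    intro y
    rw [Subgroup.eq_bot_iff_forall]
    intro x hx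
    rw [MulAction.mem_stabilizer_iff] at hx
    have h1 : (x : G) * y.1 * (x : G)⁻¹ = y.1 := congrArg Subtype.val hx
    exact Subtype.ext (hfree x.1 x.2 y.1 y.2 h1)
  have e := MulAction.selfEquivOrbitsQuotientProd hst
  have h2 : Nat.card {y : G // y ∈ Y} = Y.card := by
    rw [Nat.card_eq_fintype_card, Fintype.card_coe]
  rw [← h2, Nat.card_congr e, Nat.card_prod]
  exact dvd_mul_left _ _

namespace DPart

variable {G : Type*} [Group G] [Fintype G] (P : DPart G)

theorem not_mem_cls_symm {b c : G} (hb : b ≠ 1) (hc : c ≠ 1) (h : c ∉ P.cls b) : b ∉ P.cls c := by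
  intro hbc
  apply h
  rw [P.cls_eq_of_mem hc hbc]
  exact P.self_mem_cls hc

theorem conj_mem_cls {a x : G} (g : G) (hx : x ∈ P.cls a) : g * x * g⁻¹ ∈ P.cls a := by
  obtain ⟨hx1, h, hh⟩ := P.mem_cls.mp hx
  refine P.mem_cls.mpr ⟨conj_ne_one hx1, h * g⁻¹, ?_⟩
  have e : h * g⁻¹ * (g * x * g⁻¹) * (h * g⁻¹)⁻¹ = h * x * h⁻¹ := by group
  rw [e]
  exact hh

open Classical in
/-- union of the classes of a list of representatives -/
noncomputable def cover (P : DPart G) : List G → Finset G
  | [] => ∅
  | a :: L => P.cls a ∪ cover P L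

open Classical in
theorem mem_cover {L : List G} {c : G} : c ∈ P.cover L ↔ ∃ a ∈ L, c ∈ P.cls a := by
  induction L with
  | nil => simp [cover]
  | cons a L ih => simp [cover, ih]

open Classical in
theorem card_cover {L : List G} (hne : ∀ a ∈ L, a ≠ 1)
    (hp : L.Pairwise (fun a b => b ∉ P.cls a)) :
    (P.cover L).card = (L.map (fun a => (P.cls a).card)).sum := by
  induction L with
  | nil => simp [cover]
  | cons a L ih =>
    rw [List.pairwise_cons] at hp
    have hdisj : Disjoint (P.cls a) (P.cover L) := by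
      rw [Finset.disjoint_left]
      intro x hxa hxL
      obtain ⟨b, hbL, hxb⟩ := P.mem_cover.mp hxL
      have ha1 := hne a List.mem_cons_self
      have hb1 := hne b (List.mem_cons_of_mem _ hbL)
      have e1 := P.cls_eq_of_mem ha1 hxa
      have e2 := P.cls_eq_of_mem hb1 hxb
      have hb : b ∈ P.cls a := by
        rw [← e1, e2]
        exact P.self_mem_cls hb1
      exact hp.1 b hbL hb
    simp only [cover, List.map_cons, List.sum_cons]
    rw [Finset.card_union_of_disjoint hdisj,
      ih (fun b hb => hne b (List.mem_cons_of_mem _ hb)) hp.2]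

open Classical in
theorem cover_subset (L : List G) : P.cover L ⊆ (Finset.univ : Finset G).erase 1 := by
  intro x hx
  obtain ⟨a, _, hxa⟩ := P.mem_cover.mp hx
  rw [Finset.mem_erase]
  exact ⟨P.ne_one_of_mem_cls hxa, Finset.mem_univ _⟩

open Classical in
theorem card_cover_le (L : List G) : (P.cover L).card ≤ Fintype.card G - 1 := by
  have h := Finset.card_le_card (P.cover_subset L)
  rw [Finset.card_erase_of_mem (Finset.mem_univ _), Finset.card_univ] at h
  exact h

open Classical in
theorem card_cover_of_full {L : List G} (hfull : ∀ c, c ≠ 1 → c ∈ P.cover L) :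
    (P.cover L).card = Fintype.card G - 1 := by
  have h : P.cover L = (Finset.univ : Finset G).erase 1 := by
    apply Finset.Subset.antisymm (P.cover_subset L)
    intro x hx
    rw [Finset.mem_erase] at hx
    exact hfull x hx.1
  rw [h, Finset.card_erase_of_mem (Finset.mem_univ _), Finset.card_univ]

/-! ### numerical data of a class -/

theorem idx_mul_card (c : G) :
    (Subgroup.normalizer ((P.M c : Subgroup G) : Set G)).index *
      Nat.card (Subgroup.normalizer ((P.M c : Subgroup G) : Set G)) = Fintype.card G := by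
  rw [Subgroup.index_mul_card, Nat.card_eq_fintype_card]

theorem idx_pos (c : G) : 1 ≤ (Subgroup.normalizer ((P.M c : Subgroup G) : Set G)).index := by
  have h := P.idx_mul_card c
  have hG : 0 < Fintype.card G := Fintype.card_pos
  rcases Nat.eq_zero_or_pos (Subgroup.normalizer ((P.M c : Subgroup G) : Set G)).index with h0 | h0
  · rw [h0, zero_mul] at h
    omega
  · exact h0

theorem card_cls_eq {c : G} (hc : c ≠ 1) :
    (P.cls c).card = (Subgroup.normalizer ((P.M c : Subgroup G) : Set G)).index *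
      (Nat.card (P.M c) - 1) := by
  have h1 := P.card_cls_mul hc
  rw [← P.idx_mul_card c] at h1
  have hpos : 0 < Nat.card (Subgroup.normalizer ((P.M c : Subgroup G) : Set G)) := Nat.card_pos
  have h2 : (P.cls c).card * Nat.card (Subgroup.normalizer ((P.M c : Subgroup G) : Set G)) =
      (Subgroup.normalizer ((P.M c : Subgroup G) : Set G)).index * (Nat.card (P.M c) - 1) *
        Nat.card (Subgroup.normalizer ((P.M c : Subgroup G) : Set G)) := by
    rw [h1]; ring
  exact Nat.eq_of_mul_eq_mul_right hpos h2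

/-- a self-normalizing class -/
theorem lin_of_eq {c : G} (hc : c ≠ 1)
    (h : Nat.card (Subgroup.normalizer ((P.M c : Subgroup G) : Set G)) = Nat.card (P.M c)) :
    (P.cls c).card + (Subgroup.normalizer ((P.M c : Subgroup G) : Set G)).index = Fintype.card G ∧
      2 * (Subgroup.normalizer ((P.M c : Subgroup G) : Set G)).index ≤ Fintype.card G ∧
      Fintype.card G = (Subgroup.normalizer ((P.M c : Subgroup G) : Set G)).index *
        Nat.card (P.M c) := by
  have h1 := P.idx_mul_card c
  have h2 := P.card_cls_eq hc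
  have h3 := P.one_lt_card_M hc
  rw [h] at h1
  obtain ⟨n, hn⟩ : ∃ n, n = (Subgroup.normalizer ((P.M c : Subgroup G) : Set G)).index := ⟨_, rfl⟩
  obtain ⟨m, hm⟩ : ∃ m, m = Nat.card (P.M c) := ⟨_, rfl⟩
  rw [← hn, ← hm] at h1 h2 ⊢
  rw [← hm] at h3
  obtain ⟨m', rfl⟩ : ∃ m', m = m' + 1 := ⟨m - 1, by omega⟩
  have h4 : n * (m' + 1) = n * m' + n := by ring
  have h5 : n * 1 ≤ n * m' := Nat.mul_le_mul_left _ (by omega)
  rw [Nat.add_sub_cancel] at h2
  refine ⟨?_, ?_, ?_⟩ <;> omega

/-- a class whose normalizer has index 2 over `M` -/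
theorem lin_of_two {c : G} (hc : c ≠ 1)
    (h : Nat.card (Subgroup.normalizer ((P.M c : Subgroup G) : Set G)) = 2 * Nat.card (P.M c)) :
    2 * (P.cls c).card + 2 * (Subgroup.normalizer ((P.M c : Subgroup G) : Set G)).index =
        Fintype.card G ∧
      4 * (Subgroup.normalizer ((P.M c : Subgroup G) : Set G)).index ≤ Fintype.card G ∧
      Fintype.card G = 2 * (Subgroup.normalizer ((P.M c : Subgroup G) : Set G)).index *
        Nat.card (P.M c) := by
  have h1 := P.idx_mul_card c
  have h2 := P.card_cls_eq hc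
  have h3 := P.one_lt_card_M hc
  rw [h] at h1
  obtain ⟨n, hn⟩ : ∃ n, n = (Subgroup.normalizer ((P.M c : Subgroup G) : Set G)).index := ⟨_, rfl⟩
  obtain ⟨m, hm⟩ : ∃ m, m = Nat.card (P.M c) := ⟨_, rfl⟩
  rw [← hn, ← hm] at h1 h2 ⊢
  rw [← hm] at h3
  obtain ⟨m', rfl⟩ : ∃ m', m = m' + 1 := ⟨m - 1, by omega⟩
  have h4 : n * (2 * (m' + 1)) = 2 * (n * m') + 2 * n := by ring
  have h4' : 2 * n * (m' + 1) = 2 * (n * m') + 2 * n := by ring
  have h5 : n * 1 ≤ n * m' := Nat.mul_le_mul_left _ (by omega)
  rw [Nat.add_sub_cancel] at h2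
  refine ⟨?_, ?_, ?_⟩ <;> omega

theorem torus_cases {c : G} (hc : c ≠ 1) (hcU : ¬ P.isU c) :
    Nat.card (Subgroup.normalizer ((P.M c : Subgroup G) : Set G)) = Nat.card (P.M c) ∨
      Nat.card (Subgroup.normalizer ((P.M c : Subgroup G) : Set G)) = 2 * Nat.card (P.M c) := by
  have h1 := P.torus_index c hc hcU
  obtain ⟨d, hd⟩ := P.card_M_dvd_card_normalizer c
  have h3 := P.one_lt_card_M hc
  have hpos : 0 < Nat.card (Subgroup.normalizer ((P.M c : Subgroup G) : Set G)) := Nat.card_pos
  rw [hd] at h1 hpos ⊢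
  have hd2 : d ≤ 2 := by
    by_contra hcon
    push Not at hcon
    have : Nat.card (P.M c) * 3 ≤ Nat.card (P.M c) * d := Nat.mul_le_mul_left _ hcon
    omega
  interval_cases d
  · simp at hpos
  · left; ring
  · right; ring

/-- a torus class has at least a quarter of the elements -/
theorem torus_quarter {c : G} (hc : c ≠ 1) (hcU : ¬ P.isU c) :
    Fintype.card G ≤ 4 * (P.cls c).card := by
  rcases P.torus_cases hc hcU with h | h
  · have := P.lin_of_eq hc h
    omega
  · have := P.lin_of_two hc h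
    omega

end DPart

end Cfsg.Agent.Lib.Helper41
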