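import Mathlib
import Cfsg.Agent.Lib.Helper41.DicksonCover

set_option autoImplicit false

namespace Cfsg.Agent.Lib.Helper41

namespace DPart

variable {G : Type*} [Group G] [Fintype G] (P : DPart G)

theorem comm_of_conj_eq {x y : G} (h : x * y * x⁻¹ = y) : y * x = x * y := by
  have h2 : x * y = y * x := by
    calc x * y = x * y * x⁻¹ * x := by group
      _ = y * x := by rw [h]
  exact h2.symm

open Classical in
theorem card_M_erase (a : G) :
    ((Finset.univ.filter (fun y => y ∈ P.M a)).erase 1).card = Nat.card (P.M a) - 1 := by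
  rw [Finset.card_erase_of_mem, card_filter_mem_subgroup]
  rw [Finset.mem_filter]
  exact ⟨Finset.mem_univ _, one_mem _⟩

/-- the number of conjugates of a unipotent `M a` is `≡ 1` modulo `|M a|` -/
theorem U_index_dvd {a : G} (ha : a ≠ 1) (haU : P.isU a) :
    Nat.card (P.M a) ∣ (Subgroup.normalizer ((P.M a : Subgroup G) : Set G)).index - 1 := by
  classical
  obtain ⟨Y, hY⟩ : ∃ Y : Finset G, Y = (P.cls a).filter (fun y => y ∉ P.M a) := ⟨_, rfl⟩
  have hdvd : Nat.card (P.M a) ∣ Y.card := by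
    apply card_dvd_of_free_conj (P.M a) Y
    · intro x hx y hy
      rw [hY, Finset.mem_filter] at hy ⊢
      refine ⟨P.conj_mem_cls x hy.1, fun h => hy.2 ?_⟩
      have e : y = x⁻¹ * (x * y * x⁻¹) * x := by group
      rw [e]
      exact mul_mem (mul_mem (inv_mem hx) h) hx
    · intro x hx y hy hxy
      by_contra hx1
      rw [hY, Finset.mem_filter] at hy
      have hy1 : y ≠ 1 := P.ne_one_of_mem_cls hy.1
      have hyU : P.isU y := (P.isU_of_mem_cls ha hy.1).mpr haU
      have hxy' : x ∈ P.M y := P.U_comm y x hy1 hyU hx1 (comm_of_conj_eq hxy)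
      have e1 : P.M x = P.M y := P.eq_of_mem y x hy1 hx1 hxy'
      have e2 : P.M x = P.M a := P.eq_of_mem a x ha hx1 hx
      apply hy.2
      rw [← e2, e1]
      exact P.mem_self y
  have hYc : (Nat.card (P.M a) - 1) + Y.card = (P.cls a).card := by
    have h1 : (P.cls a).filter (fun y => y ∈ P.M a) =
        (Finset.univ.filter (fun y => y ∈ P.M a)).erase 1 := by
      ext y
      rw [Finset.mem_filter, Finset.mem_erase, Finset.mem_filter, P.mem_cls]
      constructor
      · rintro ⟨⟨h1, _⟩, h2⟩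
        exact ⟨h1, Finset.mem_univ _, h2⟩
      · rintro ⟨h1, _, h2⟩
        exact ⟨⟨h1, 1, by simpa using h2⟩, h2⟩
    rw [← P.card_M_erase a, ← h1, hY]
    exact Finset.card_filter_add_card_filter_not (s := P.cls a) (fun y => y ∈ P.M a)
  rw [P.card_cls_eq ha] at hYc
  have hq := P.one_lt_card_M ha
  have hn1 := P.idx_pos a
  obtain ⟨n, hn⟩ : ∃ n, n = (Subgroup.normalizer ((P.M a : Subgroup G) : Set G)).index - 1 :=
    ⟨_, rfl⟩
  obtain ⟨q, hq'⟩ : ∃ q, q = Nat.card (P.M a) - 1 := ⟨_, rfl⟩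
  have e1 : (Subgroup.normalizer ((P.M a : Subgroup G) : Set G)).index = n + 1 := by omega
  have e2 : Nat.card (P.M a) = q + 1 := by omega
  rw [e1, e2, Nat.add_sub_cancel] at hYc
  have hY2 : Y.card = n * q := by
    have : (n + 1) * q = n * q + q := by ring
    omega
  rw [hY2, e2] at hdvd
  rw [← hn, e2]
  have hcop : Nat.Coprime (q + 1) q := by
    rw [Nat.coprime_self_add_left]
    exact Nat.coprime_one_left q
  exact (Nat.Coprime.dvd_mul_right hcop).mp hdvd

/-- a torus normalizing a unipotent `M a` acts freely on it -/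
theorem compl_dvd {a b : G} (ha : a ≠ 1) (haU : P.isU a) (hb : b ≠ 1) (hbU : ¬ P.isU b)
    (hle : P.M b ≤ Subgroup.normalizer ((P.M a : Subgroup G) : Set G)) :
    Nat.card (P.M b) ∣ Nat.card (P.M a) - 1 := by
  classical
  rw [← P.card_M_erase a]
  apply card_dvd_of_free_conj
  · intro x hx y hy
    rw [Finset.mem_erase, Finset.mem_filter] at hy ⊢
    refine ⟨conj_ne_one hy.1, Finset.mem_univ _, ?_⟩
    exact (Subgroup.mem_normalizer_iff.mp (hle hx) y).mp hy.2.2
  · intro x hx y hy hxy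
    by_contra hx1
    rw [Finset.mem_erase, Finset.mem_filter] at hy
    have hyU : P.isU y := P.isU_of_mem a y ha hy.1 hy.2.2 haU
    have hxy' : x ∈ P.M y := P.U_comm y x hy.1 hyU hx1 (comm_of_conj_eq hxy)
    have e1 : P.M x = P.M y := P.eq_of_mem y x hy.1 hx1 hxy'
    have e2 : P.M y = P.M a := P.eq_of_mem a y ha hy.1 hy.2.2
    have e3 : P.M x = P.M b := P.eq_of_mem b x hb hx1 hx
    have hbM : b ∈ P.M a := by
      rw [← e2, ← e1, e3]
      exact P.mem_self b
    exact hbU (P.isU_of_mem a b ha hb hbM haU)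

theorem not_isU_of_not_mem_cls {a c : G} (ha : a ≠ 1) (haU : P.isU a) (hc : c ≠ 1)
    (h : c ∉ P.cls a) : ¬ P.isU c := by
  intro hcU
  obtain ⟨g, hg⟩ := P.U_conj a c ha hc haU hcU
  exact h (P.mem_cls.mpr ⟨hc, g, hg⟩)

theorem next_class {L : List G} (h : ¬ ∀ c : G, c ≠ 1 → c ∈ P.cover L) :
    ∃ c, c ≠ 1 ∧ ∀ a ∈ L, c ∉ P.cls a := by
  push Not at h
  obtain ⟨c, hc1, hc⟩ := h
  refine ⟨c, hc1, fun a ha hca => hc ?_⟩
  exact P.mem_cover.mpr ⟨a, ha, hca⟩

theorem M_eq_top {c : G}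
    (hε : Nat.card (Subgroup.normalizer ((P.M c : Subgroup G) : Set G)) = Nat.card (P.M c))
    (hn : (Subgroup.normalizer ((P.M c : Subgroup G) : Set G)).index = 1) : P.M c = ⊤ := by
  rw [Subgroup.index_eq_one] at hn
  rw [← hn]
  exact Subgroup.eq_of_le_of_card_ge Subgroup.le_normalizer (le_of_eq hε)

theorem normalizer_ne_top_of_mem_cls {b c : G} (hc : c ≠ 1) (hb : b ∈ P.cls c)
    (hidx : 2 ≤ (Subgroup.normalizer ((P.M c : Subgroup G) : Set G)).index) :
    Subgroup.normalizer ((P.M b : Subgroup G) : Set G) ≠ ⊤ := by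
  intro h
  have h1 := P.card_normalizer_of_mem_cls hc hb
  rw [h, Subgroup.card_top] at h1
  have h2 := P.idx_mul_card c
  rw [← h1, Nat.card_eq_fintype_card] at h2
  have hG : 0 < Fintype.card G := Fintype.card_pos
  have h3 : 2 * Fintype.card G ≤
      (Subgroup.normalizer ((P.M c : Subgroup G) : Set G)).index * Fintype.card G :=
    Nat.mul_le_mul_right _ hidx
  omega

/-- numerical data of a torus class -/
theorem torus_data {c : G} (hc : c ≠ 1) (hcU : ¬ P.isU c) :
    ∃ n m x : ℕ, n = (Subgroup.normalizer ((P.M c : Subgroup G) : Set G)).index ∧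
      m = Nat.card (P.M c) ∧ x = (P.cls c).card ∧ 1 ≤ n ∧ 2 ≤ m ∧ Fintype.card G ≤ 4 * x ∧
      ((Nat.card (Subgroup.normalizer ((P.M c : Subgroup G) : Set G)) = m ∧
          x + n = Fintype.card G ∧ 2 * n ≤ Fintype.card G ∧ Fintype.card G = n * m) ∨
        (Nat.card (Subgroup.normalizer ((P.M c : Subgroup G) : Set G)) = 2 * m ∧
          2 * x + 2 * n = Fintype.card G ∧ 4 * n ≤ Fintype.card G ∧
          Fintype.card G = 2 * n * m)) := by
  refine ⟨_, _, _, rfl, rfl, rfl, P.idx_pos c, P.one_lt_card_M hc, P.torus_quarter hc hcU, ?_⟩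
  rcases P.torus_cases hc hcU with h | h
  · left
    exact ⟨h, P.lin_of_eq hc h⟩
  · right
    exact ⟨h, P.lin_of_two hc h⟩

end DPart

end Cfsg.Agent.Lib.Helper41
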