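import Mathlib
import Cfsg.Agent.Lib.Helper41.DicksonFree

set_option autoImplicit false

namespace Cfsg.Agent.Lib.Helper41

theorem arith_simple (x₁ x₂ x₃ d₁ d₂ d₃ : ℕ)
    (hx₁ : x₁ = 15 ∨ x₁ = 20 ∨ x₁ = 24) (hx₂ : x₂ = 15 ∨ x₂ = 20 ∨ x₂ = 24)
    (hx₃ : x₃ = 15 ∨ x₃ = 20 ∨ x₃ = 24) (hs : x₁ + x₂ + x₃ = 59)
    (hd₁ : d₁ = 0 ∨ d₁ = x₁) (hd₂ : d₂ = 0 ∨ d₂ = x₂) (hd₃ : d₃ = 0 ∨ d₃ = x₃)
    (hdvd : (1 + d₁ + d₂ + d₃) ∣ 60) :
    (d₁ = 0 ∧ d₂ = 0 ∧ d₃ = 0) ∨ (d₁ = x₁ ∧ d₂ = x₂ ∧ d₃ = x₃) := by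
  rcases hx₁ with rfl | rfl | rfl <;> rcases hx₂ with rfl | rfl | rfl <;>
    rcases hx₃ with rfl | rfl | rfl <;>
    first
    | omega
    | (rcases hd₁ with rfl | rfl <;> rcases hd₂ with rfl | rfl <;> rcases hd₃ with rfl | rfl <;>
        first
        | (left; exact ⟨rfl, rfl, rfl⟩)
        | (right; exact ⟨rfl, rfl, rfl⟩)
        | (exfalso; revert hdvd; decide))

namespace DPart

variable {G : Type*} [Group G] [Fintype G] (P : DPart G)

open Classical in
theorem card_filter_cover {L : List G} (hne : ∀ a ∈ L, a ≠ 1)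
    (hp : L.Pairwise (fun a b => b ∉ P.cls a)) (p : G → Prop) :
    ((P.cover L).filter p).card = (L.map (fun a => ((P.cls a).filter p).card)).sum := by
  induction L with
  | nil => simp [cover]
  | cons a L ih =>
    rw [List.pairwise_cons] at hp
    have hdisj : Disjoint (P.cls a) (P.cover L) := by
      rw [Finset.disjoint_left]
      intro x hxa hxL
      obtain ⟨b, hbL, hxb⟩ := P.mem_cover.mp hxL
      have ha1 := hne a List.mem_cons_self
      have hb1 := hne b (List.mem_cons_of_mem _ hbL)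
      have e1 := P.cls_eq_of_mem ha1 hxa
      have e2 := P.cls_eq_of_mem hb1 hxb
      have hb : b ∈ P.cls a := by
        rw [← e1, e2]
        exact P.self_mem_cls hb1
      exact hp.1 b hbL hb
    simp only [cover, List.map_cons, List.sum_cons]
    rw [Finset.filter_union, Finset.card_union_of_disjoint (Finset.disjoint_filter_filter hdisj),
      ih (fun b hb => hne b (List.mem_cons_of_mem _ hb)) hp.2]

/-- three classes with `M` of prime order and sizes 15, 20, 24 covering a group of order 60: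
the group is simple -/
theorem simple_of_classes (c₁ c₂ c₃ : G) (h1 : c₁ ≠ 1) (h2 : c₂ ≠ 1) (h3 : c₃ ≠ 1)
    (hfull : ∀ c : G, c ≠ 1 → c ∈ P.cover [c₁, c₂, c₃])
    (hpair : [c₁, c₂, c₃].Pairwise (fun a b => b ∉ P.cls a))
    (hp₁ : (Nat.card (P.M c₁)).Prime) (hp₂ : (Nat.card (P.M c₂)).Prime)
    (hp₃ : (Nat.card (P.M c₃)).Prime)
    (hx₁ : (P.cls c₁).card = 15 ∨ (P.cls c₁).card = 20 ∨ (P.cls c₁).card = 24)
    (hx₂ : (P.cls c₂).card = 15 ∨ (P.cls c₂).card = 20 ∨ (P.cls c₂).card = 24)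
    (hx₃ : (P.cls c₃).card = 15 ∨ (P.cls c₃).card = 20 ∨ (P.cls c₃).card = 24)
    (hg : Fintype.card G = 60) : IsSimpleGroup G := by
  classical
  haveI : Nontrivial G := Fintype.one_lt_card_iff_nontrivial.mp (by omega)
  have hne : ∀ a ∈ [c₁, c₂, c₃], a ≠ 1 := by
    intro a ha
    simp only [List.mem_cons, List.not_mem_nil, or_false] at ha
    rcases ha with rfl | rfl | rfl <;> assumption
  have hsum : (P.cls c₁).card + (P.cls c₂).card + (P.cls c₃).card = 59 := by
    have h := P.card_cover_of_full hfull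
    rw [P.card_cover hne hpair] at h
    simp only [List.map_cons, List.map_nil, List.sum_cons, List.sum_nil] at h
    omega
  refine ⟨fun N hN => ?_⟩
  have key : ∀ c : G, c ≠ 1 → (Nat.card (P.M c)).Prime →
      ((P.cls c).filter (fun x => x ∈ N)).card = 0 ∨
        ((P.cls c).filter (fun x => x ∈ N)).card = (P.cls c).card := by
    intro c hc hp
    by_cases hcN : ∃ x ∈ P.cls c, x ∈ N
    · right
      obtain ⟨x, hx, hxN⟩ := hcN
      obtain ⟨hx1, g, hg⟩ := P.mem_cls.mp hx
      have hMN : P.M c ≤ N := by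
        haveI : Fact (Nat.card (P.M c)).Prime := ⟨hp⟩
        rcases Subgroup.eq_bot_or_eq_top_of_prime_card (N.subgroupOf (P.M c)) with h | h
        · exfalso
          have hmem : (⟨g * x * g⁻¹, hg⟩ : P.M c) ∈ N.subgroupOf (P.M c) := by
            rw [Subgroup.mem_subgroupOf]
            exact hN.conj_mem x hxN g
          rw [h, Subgroup.mem_bot] at hmem
          exact conj_ne_one hx1 (congrArg Subtype.val hmem)
        · rw [Subgroup.subgroupOf_eq_top] at h
          exact h
      rw [Finset.filter_true_of_mem]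
      intro y hy
      obtain ⟨_, g', hg'⟩ := P.mem_cls.mp hy
      have hyN : g' * y * g'⁻¹ ∈ N := hMN hg'
      have e : y = g'⁻¹ * (g' * y * g'⁻¹) * g'⁻¹⁻¹ := by group
      rw [e]
      exact hN.conj_mem _ hyN _
    · left
      rw [Finset.card_eq_zero, Finset.filter_eq_empty_iff]
      intro y hy hyN
      exact hcN ⟨y, hy, hyN⟩
  have hNcard : Nat.card N = 1 + ((P.cls c₁).filter (fun x => x ∈ N)).card +
      ((P.cls c₂).filter (fun x => x ∈ N)).card + ((P.cls c₃).filter (fun x => x ∈ N)).card := by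
    rw [← card_filter_mem_subgroup]
    have huniv : (Finset.univ : Finset G) = insert 1 (P.cover [c₁, c₂, c₃]) := by
      ext y
      simp only [Finset.mem_univ, Finset.mem_insert, true_iff]
      by_cases hy : y = 1
      · left; exact hy
      · right; exact hfull y hy
    have h1not : (1 : G) ∉ (P.cover [c₁, c₂, c₃]).filter (fun x => x ∈ N) := by
      intro h
      rw [Finset.mem_filter] at h
      have := P.cover_subset _ h.1
      rw [Finset.mem_erase] at this
      exact this.1 rfl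
    rw [huniv, Finset.filter_insert, if_pos (one_mem N), Finset.card_insert_of_notMem h1not,
      P.card_filter_cover hne hpair]
    simp only [List.map_cons, List.map_nil, List.sum_cons, List.sum_nil]
    ring
  have hdvd : Nat.card N ∣ 60 := by
    have := Subgroup.card_subgroup_dvd_card N
    rw [Nat.card_eq_fintype_card (α := G), hg] at this
    exact this
  rw [hNcard] at hdvd
  rcases arith_simple _ _ _ _ _ _ hx₁ hx₂ hx₃ hsum (key c₁ h1 hp₁) (key c₂ h2 hp₂) (key c₃ h3 hp₃)
    hdvd with ⟨e1, e2, e3⟩ | ⟨e1, e2, e3⟩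
  · left
    rw [e1, e2, e3] at hNcard
    exact Subgroup.card_eq_one.mp hNcard
  · right
    rw [e1, e2, e3] at hNcard
    apply (Subgroup.card_eq_iff_eq_top N).mp
    rw [hNcard, Nat.card_eq_fintype_card, hg]
    omega

end DPart

end Cfsg.Agent.Lib.Helper41
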