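import Mathlib
import Cfsg.Agent.Lib.Helper41.DicksonSimple
import Cfsg.Agent.Lib.Helper41.DicksonArith
import Cfsg.Agent.Lib.Helper41.DicksonArithU

set_option autoImplicit false

namespace Cfsg.Agent.Lib.Helper41

namespace DPart

variable {G : Type*} [Group G] [Fintype G] (P : DPart G)

/-- the possible outcomes of the counting argument -/
def Shape : Prop :=
  Fintype.card G = 1 ∨
  (∃ a, a ≠ 1 ∧ ¬ P.isU a ∧ P.M a = ⊤) ∨
  (∃ a, a ≠ 1 ∧ ¬ P.isU a ∧ 2 * Nat.card (P.M a) = Fintype.card G) ∨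
  (∃ a, a ≠ 1 ∧ P.isU a ∧ Subgroup.normalizer ((P.M a : Subgroup G) : Set G) = ⊤) ∨
  (Fintype.card G = 12 ∧
    ∀ b : G, b ≠ 1 → Subgroup.normalizer ((P.M b : Subgroup G) : Set G) ≠ ⊤) ∨
  (Fintype.card G = 24 ∧ ∀ b : G, b ≠ 1 → Nat.card (P.M b) ≤ 4) ∨
  (Fintype.card G = 60 ∧ IsSimpleGroup G) ∨
  (∃ a b e, a ≠ 1 ∧ P.isU a ∧ b ≠ 1 ∧ ¬ P.isU b ∧
    P.M b ≤ Subgroup.normalizer ((P.M a : Subgroup G) : Set G) ∧
    Nat.card (P.M b) * Nat.card (P.M a) =
      Nat.card (Subgroup.normalizer ((P.M a : Subgroup G) : Set G)) ∧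
    Nat.card (P.M b) < Nat.card (Subgroup.normalizer ((P.M b : Subgroup G) : Set G)) ∧
    (e = 1 ∨ e = 2) ∧ e * Fintype.card G = Nat.card (P.M a) * (Nat.card (P.M a) ^ 2 - 1) ∧
    e * Nat.card (P.M b) + 1 = Nat.card (P.M a))

theorem two_mul_card_of_two {c : G} {n m : ℕ}
    (hn : n = (Subgroup.normalizer ((P.M c : Subgroup G) : Set G)).index)
    (hm : m = Nat.card (P.M c)) (h1 : n = 1) (hg : Fintype.card G = 2 * n * m) :
    2 * Nat.card (P.M c) = Fintype.card G := by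
  rw [hg, h1, ← hm]

/-- the case without unipotent elements -/
theorem shape_of_no_U (hnoU : ∀ a : G, a ≠ 1 → ¬ P.isU a) : P.Shape := by
  classical
  have hG : 1 ≤ Fintype.card G := Fintype.card_pos
  by_cases hf0 : ∀ c : G, c ≠ 1 → c ∈ P.cover []
  · left
    have h := P.card_cover_of_full hf0
    simp only [cover, Finset.card_empty] at h
    omega
  obtain ⟨c₁, h1, -⟩ := P.next_class hf0
  have hU1 := hnoU c₁ h1
  obtain ⟨n₁, m₁, x₁, hn₁, hm₁, hx₁, hn₁p, hm₁2, hq₁, hcase₁⟩ := P.torus_data h1 hU1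
  by_cases hf1 : ∀ c : G, c ≠ 1 → c ∈ P.cover [c₁]
  · have hcard := P.card_cover_of_full hf1
    rw [P.card_cover (by simp [h1]) (by simp)] at hcard
    simp only [List.map_cons, List.map_nil, List.sum_cons, List.sum_nil, add_zero] at hcard
    rw [← hx₁] at hcard
    rcases hcase₁ with ⟨hε, e1, e2, e3⟩ | ⟨hε, e1, e2, e3⟩
    · right; left
      refine ⟨c₁, h1, hU1, P.M_eq_top (by rw [hε, hm₁]) ?_⟩
      rw [← hn₁]
      omega
    · exfalso
      omega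
  obtain ⟨c₂, h2, hc2⟩ := P.next_class hf1
  have hc21 : c₂ ∉ P.cls c₁ := hc2 c₁ (by simp)
  have hU2 := hnoU c₂ h2
  obtain ⟨n₂, m₂, x₂, hn₂, hm₂, hx₂, hn₂p, hm₂2, hq₂, hcase₂⟩ := P.torus_data h2 hU2
  have hne2 : ∀ a ∈ [c₁, c₂], a ≠ 1 := by
    intro a ha
    simp only [List.mem_cons, List.not_mem_nil, or_false] at ha
    rcases ha with rfl | rfl <;> assumption
  have hp2 : [c₁, c₂].Pairwise (fun a b => b ∉ P.cls a) := by
    simp [hc21]
  by_cases hf2 : ∀ c : G, c ≠ 1 → c ∈ P.cover [c₁, c₂]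
  · have hcard := P.card_cover_of_full hf2
    rw [P.card_cover hne2 hp2] at hcard
    simp only [List.map_cons, List.map_nil, List.sum_cons, List.sum_nil, add_zero] at hcard
    rw [← hx₁, ← hx₂] at hcard
    -- every nonidentity element lies in one of the two classes
    have hmem : ∀ b : G, b ≠ 1 → b ∈ P.cls c₁ ∨ b ∈ P.cls c₂ := by
      intro b hb
      obtain ⟨a, ha, hba⟩ := P.mem_cover.mp (hf2 b hb)
      simp only [List.mem_cons, List.not_mem_nil, or_false] at ha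
      rcases ha with rfl | rfl
      · exact Or.inl hba
      · exact Or.inr hba
    have hA4 : Fintype.card G = 12 → 2 ≤ n₁ → 2 ≤ n₂ → P.Shape := by
      intro hg12 hn1 hn2
      right; right; right; right; left
      refine ⟨hg12, fun b hb => ?_⟩
      rcases hmem b hb with hb' | hb'
      · exact P.normalizer_ne_top_of_mem_cls h1 hb' (by rw [← hn₁]; exact hn1)
      · exact P.normalizer_ne_top_of_mem_cls h2 hb' (by rw [← hn₂]; exact hn2)
    rcases hcase₁ with ⟨hε₁, e1, e2, e3⟩ | ⟨hε₁, e1, e2, e3⟩ <;>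
      rcases hcase₂ with ⟨hε₂, f1, f2, f3⟩ | ⟨hε₂, f1, f2, f3⟩
    · exfalso; omega
    · rcases ar2_core _ n₁ m₁ n₂ m₂ e3 f3 hm₁2 hm₂2 hn₂p (by omega) with ⟨-, hn⟩ | ⟨hg, hn1, hn2, -, -⟩
      · right; right; left
        exact ⟨c₂, h2, hU2, P.two_mul_card_of_two hn₂ hm₂ hn f3⟩
      · exact hA4 hg (by omega) (by omega)
    · rcases ar2_core _ n₂ m₂ n₁ m₁ f3 e3 hm₂2 hm₁2 hn₁p (by omega) with ⟨-, hn⟩ | ⟨hg, hn1, hn2, -, -⟩
      · right; right; left
        exact ⟨c₁, h1, hU1, P.two_mul_card_of_two hn₁ hm₁ hn e3⟩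
      · exact hA4 hg (by omega) (by omega)
    · exfalso; omega
  obtain ⟨c₃, h3, hc3⟩ := P.next_class hf2
  have hc31 : c₃ ∉ P.cls c₁ := hc3 c₁ (by simp)
  have hc32 : c₃ ∉ P.cls c₂ := hc3 c₂ (by simp)
  have hU3 := hnoU c₃ h3
  obtain ⟨n₃, m₃, x₃, hn₃, hm₃, hx₃, hn₃p, hm₃2, hq₃, hcase₃⟩ := P.torus_data h3 hU3
  have hne3 : ∀ a ∈ [c₁, c₂, c₃], a ≠ 1 := by
    intro a ha
    simp only [List.mem_cons, List.not_mem_nil, or_false] at ha
    rcases ha with rfl | rfl | rfl <;> assumption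
  have hp3 : [c₁, c₂, c₃].Pairwise (fun a b => b ∉ P.cls a) := by
    simp [hc21, hc31, hc32]
  by_cases hf3 : ∀ c : G, c ≠ 1 → c ∈ P.cover [c₁, c₂, c₃]
  · have hcard := P.card_cover_of_full hf3
    rw [P.card_cover hne3 hp3] at hcard
    simp only [List.map_cons, List.map_nil, List.sum_cons, List.sum_nil, add_zero] at hcard
    rw [← hx₁, ← hx₂, ← hx₃] at hcard
    have hmem : ∀ b : G, b ≠ 1 → b ∈ P.cls c₁ ∨ b ∈ P.cls c₂ ∨ b ∈ P.cls c₃ := by
      intro b hb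
      obtain ⟨a, ha, hba⟩ := P.mem_cover.mp (hf3 b hb)
      simp only [List.mem_cons, List.not_mem_nil, or_false] at ha
      rcases ha with rfl | rfl | rfl
      · exact Or.inl hba
      · exact Or.inr (Or.inl hba)
      · exact Or.inr (Or.inr hba)
    rcases hcase₁ with ⟨hε₁, e1, e2, e3⟩ | ⟨hε₁, e1, e2, e3⟩
    · exfalso; omega
    rcases hcase₂ with ⟨hε₂, f1, f2, f3⟩ | ⟨hε₂, f1, f2, f3⟩
    · exfalso; omega
    rcases hcase₃ with ⟨hε₃, g1, g2, g3⟩ | ⟨hε₃, g1, g2, g3⟩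
    · exfalso; omega
    have hout := ar3 _ n₁ m₁ n₂ m₂ n₃ m₃ e3 f3 g3 hn₁p hn₂p hn₃p hm₁2 hm₂2 hm₃2 (by omega)
    unfold Out3 at hout
    rcases hout with (hn | hn | hn) | ⟨hg, k1, k2, k3⟩ | ⟨hg, k1, k2, k3⟩ |
      ⟨hg, p1, p2, p3, y1, y2, y3⟩
    · right; right; left
      exact ⟨c₁, h1, hU1, P.two_mul_card_of_two hn₁ hm₁ hn e3⟩
    · right; right; left
      exact ⟨c₂, h2, hU2, P.two_mul_card_of_two hn₂ hm₂ hn f3⟩
    · right; right; left
      exact ⟨c₃, h3, hU3, P.two_mul_card_of_two hn₃ hm₃ hn g3⟩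
    · right; right; right; right; left
      refine ⟨hg, fun b hb => ?_⟩
      rcases hmem b hb with hb' | hb' | hb'
      · exact P.normalizer_ne_top_of_mem_cls h1 hb' (by rw [← hn₁]; exact k1)
      · exact P.normalizer_ne_top_of_mem_cls h2 hb' (by rw [← hn₂]; exact k2)
      · exact P.normalizer_ne_top_of_mem_cls h3 hb' (by rw [← hn₃]; exact k3)
    · right; right; right; right; right; left
      refine ⟨hg, fun b hb => ?_⟩
      rcases hmem b hb with hb' | hb' | hb'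
      · rw [P.card_M_of_mem_cls h1 hb', ← hm₁]; exact k1
      · rw [P.card_M_of_mem_cls h2 hb', ← hm₂]; exact k2
      · rw [P.card_M_of_mem_cls h3 hb', ← hm₃]; exact k3
    · right; right; right; right; right; right; left
      refine ⟨hg, P.simple_of_classes c₁ c₂ c₃ h1 h2 h3 hf3 hp3 (by rw [← hm₁]; exact p1)
        (by rw [← hm₂]; exact p2) (by rw [← hm₃]; exact p3) ?_ ?_ ?_ hg⟩
      · rw [P.card_cls_eq h1, ← hn₁, ← hm₁]; exact y1
      · rw [P.card_cls_eq h2, ← hn₂, ← hm₂]; exact y2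
      · rw [P.card_cls_eq h3, ← hn₃, ← hm₃]; exact y3
  obtain ⟨c₄, h4, hc4⟩ := P.next_class hf3
  have hc41 : c₄ ∉ P.cls c₁ := hc4 c₁ (by simp)
  have hc42 : c₄ ∉ P.cls c₂ := hc4 c₂ (by simp)
  have hc43 : c₄ ∉ P.cls c₃ := hc4 c₃ (by simp)
  have hU4 := hnoU c₄ h4
  have hq₄ := P.torus_quarter h4 hU4
  have hne4 : ∀ a ∈ [c₁, c₂, c₃, c₄], a ≠ 1 := by
    intro a ha
    simp only [List.mem_cons, List.not_mem_nil, or_false] at ha
    rcases ha with rfl | rfl | rfl | rfl <;> assumption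
  have hp4 : [c₁, c₂, c₃, c₄].Pairwise (fun a b => b ∉ P.cls a) := by
    simp [hc21, hc31, hc32, hc41, hc42, hc43]
  have hcard := P.card_cover_le [c₁, c₂, c₃, c₄]
  rw [P.card_cover hne4 hp4] at hcard
  simp only [List.map_cons, List.map_nil, List.sum_cons, List.sum_nil, add_zero] at hcard
  rw [← hx₁, ← hx₂, ← hx₃] at hcard
  exfalso
  omega

end DPart

end Cfsg.Agent.Lib.Helper41
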