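import Mathlib
import Cfsg.Agent.Lib.Helper41.DicksonShape

set_option autoImplicit false

namespace Cfsg.Agent.Lib.Helper41

namespace DPart

variable {G : Type*} [Group G] [Fintype G] (P : DPart G)

/-- the case with unipotent elements -/
theorem shape_of_U {a : G} (ha : a ≠ 1) (haU : P.isU a) : P.Shape := by
  classical
  have hG : 1 ≤ Fintype.card G := Fintype.card_pos
  have hq2 := P.one_lt_card_M ha
  have hnp := P.idx_pos a
  have hF1 := P.U_index_dvd ha haU
  have hcls := P.card_cls_eq ha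
  have himc := P.idx_mul_card a
  obtain ⟨n, hn⟩ : ∃ n, n = (Subgroup.normalizer ((P.M a : Subgroup G) : Set G)).index :=
    ⟨_, rfl⟩
  obtain ⟨q, hq⟩ : ∃ q, q = Nat.card (P.M a) := ⟨_, rfl⟩
  obtain ⟨xa, hxa⟩ : ∃ x, x = (P.cls a).card := ⟨_, rfl⟩
  rw [← hn, ← hq] at hF1 hcls
  rw [← hn] at himc
  rw [← hn] at hnp
  rw [← hq] at hq2
  rw [← hxa] at hcls
  have hB : n = 1 → P.Shape := by
    intro h
    right; right; right; left
    exact ⟨a, ha, haU, Subgroup.index_eq_one.mp (by rw [← hn]; exact h)⟩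
  have htorus : ∀ c : G, c ≠ 1 → c ∉ P.cls a → ¬ P.isU c :=
    fun c hc h => P.not_isU_of_not_mem_cls ha haU hc h
  have hxa' : xa + n = n * q := by
    obtain ⟨q', rfl⟩ : ∃ q', q = q' + 1 := ⟨q - 1, by omega⟩
    rw [hcls, Nat.add_sub_cancel]
    ring
  rcases Nat.lt_or_ge (Nat.card (P.M a))
    (Nat.card (Subgroup.normalizer ((P.M a : Subgroup G) : Set G))) with hk | hk
  swap
  · -- the self-normalizing case
    have hε : Nat.card (Subgroup.normalizer ((P.M a : Subgroup G) : Set G)) =
        Nat.card (P.M a) := le_antisymm hk (Subgroup.card_le_of_le Subgroup.le_normalizer)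
    obtain ⟨e1, e2, e3⟩ := P.lin_of_eq ha hε
    rw [← hn, ← hxa] at e1
    rw [← hn] at e2
    rw [← hn, ← hq] at e3
    by_cases hf1 : ∀ c : G, c ≠ 1 → c ∈ P.cover [a]
    · have hcard := P.card_cover_of_full hf1
      rw [P.card_cover (by simp [ha]) (by simp)] at hcard
      simp only [List.map_cons, List.map_nil, List.sum_cons, List.sum_nil, add_zero] at hcard
      rw [← hxa] at hcard
      exact hB (by omega)
    obtain ⟨c₁, h1, hc1⟩ := P.next_class hf1
    have hc1a : c₁ ∉ P.cls a := hc1 a (by simp)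
    have hU1 := htorus c₁ h1 hc1a
    obtain ⟨n₁, m₁, x₁, hn₁, hm₁, hx₁, hn₁p, hm₁2, hq₁, hcase₁⟩ := P.torus_data h1 hU1
    have hne2 : ∀ y ∈ [a, c₁], y ≠ 1 := by
      intro y hy
      simp only [List.mem_cons, List.not_mem_nil, or_false] at hy
      rcases hy with rfl | rfl <;> assumption
    have hp2 : [a, c₁].Pairwise (fun a b => b ∉ P.cls a) := by
      simp [hc1a]
    by_cases hf2 : ∀ c : G, c ≠ 1 → c ∈ P.cover [a, c₁]
    · have hcard := P.card_cover_of_full hf2
      rw [P.card_cover hne2 hp2] at hcard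
      simp only [List.map_cons, List.map_nil, List.sum_cons, List.sum_nil, add_zero] at hcard
      rw [← hxa, ← hx₁] at hcard
      have hmem : ∀ b : G, b ≠ 1 → b ∈ P.cls a ∨ b ∈ P.cls c₁ := by
        intro b hb
        obtain ⟨y, hy, hby⟩ := P.mem_cover.mp (hf2 b hb)
        simp only [List.mem_cons, List.not_mem_nil, or_false] at hy
        rcases hy with rfl | rfl
        · exact Or.inl hby
        · exact Or.inr hby
      rcases hcase₁ with ⟨hε₁, f1, f2, f3⟩ | ⟨hε₁, f1, f2, f3⟩
      · exfalso; omega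
      · rcases ar2_core _ n q n₁ m₁ e3 f3 hq2 hm₁2 hn₁p (by omega) with
          ⟨-, hn1⟩ | ⟨hg, hna, hn1, -, -⟩
        · right; right; left
          exact ⟨c₁, h1, hU1, P.two_mul_card_of_two hn₁ hm₁ hn1 f3⟩
        · right; right; right; right; left
          refine ⟨hg, fun b hb => ?_⟩
          rcases hmem b hb with hb' | hb'
          · exact P.normalizer_ne_top_of_mem_cls ha hb' (by rw [← hn]; omega)
          · exact P.normalizer_ne_top_of_mem_cls h1 hb' (by rw [← hn₁]; omega)
    obtain ⟨c₂, h2, hc2⟩ := P.next_class hf2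
    have hc2a : c₂ ∉ P.cls a := hc2 a (by simp)
    have hc21 : c₂ ∉ P.cls c₁ := hc2 c₁ (by simp)
    have hU2 := htorus c₂ h2 hc2a
    have hq₂ := P.torus_quarter h2 hU2
    have hne3 : ∀ y ∈ [a, c₁, c₂], y ≠ 1 := by
      intro y hy
      simp only [List.mem_cons, List.not_mem_nil, or_false] at hy
      rcases hy with rfl | rfl | rfl <;> assumption
    have hp3 : [a, c₁, c₂].Pairwise (fun a b => b ∉ P.cls a) := by
      simp [hc1a, hc2a, hc21]
    have hcard := P.card_cover_le [a, c₁, c₂]
    rw [P.card_cover hne3 hp3] at hcard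
    simp only [List.map_cons, List.map_nil, List.sum_cons, List.sum_nil, add_zero] at hcard
    rw [← hxa, ← hx₁] at hcard
    exfalso
    omega
  · -- the case with a complement
    obtain ⟨b, hb1, hbU, hble, hbcard⟩ := P.U_compl a ha haU hk
    obtain ⟨k, hk'⟩ : ∃ k, k = Nat.card (P.M b) := ⟨_, rfl⟩
    have hk2 : 2 ≤ k := by
      rw [hk']
      exact P.one_lt_card_M hb1
    have hF2 := P.compl_dvd ha haU hb1 hbU hble
    rw [← hk', ← hq] at hF2
    have hkq : k + 1 ≤ q := by
      have := Nat.le_of_dvd (by omega) hF2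
      omega
    have hba : b ∉ P.cls a := fun h => hbU ((P.isU_of_mem_cls ha h).mpr haU)
    rw [← hk', ← hq] at hbcard
    have hg : Fintype.card G = n * q * k := by
      rw [← himc, ← hbcard]
      ring
    obtain ⟨Pq, hPq⟩ : ∃ Pq, Pq = n * q := ⟨_, rfl⟩
    rw [← hPq] at hxa'
    have hgP : Fintype.card G = Pq * k := by rw [hg, hPq]
    have hP2 : Pq * 2 ≤ Fintype.card G := by
      rw [hgP]
      exact Nat.mul_le_mul_left _ hk2
    have hPn : n * 2 ≤ Pq := by
      rw [hPq]
      exact Nat.mul_le_mul_left n hq2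
    obtain ⟨nb, mb, xb, hnb, hmb, hxb, hnbp, hmb2, hqb, hcaseb⟩ := P.torus_data hb1 hbU
    have hmbk : mb = k := by rw [hmb, hk']
    have hKfacts : (xb + Pq = Fintype.card G) ∨
        (Nat.card (Subgroup.normalizer ((P.M b : Subgroup G) : Set G)) = 2 * mb ∧
          2 * xb + Pq = Fintype.card G) := by
      rcases hcaseb with ⟨hε, f1, f2, f3⟩ | ⟨hε, f1, f2, f3⟩
      · left
        have h5 : nb = Pq := by
          rw [hmbk, hgP] at f3
          exact (Nat.eq_of_mul_eq_mul_right (by omega) f3).symm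
        omega
      · right
        have h5 : 2 * nb = Pq := by
          rw [hmbk, hgP] at f3
          exact (Nat.eq_of_mul_eq_mul_right (by omega) f3).symm
        exact ⟨hε, by omega⟩
    have hne2 : ∀ y ∈ [a, b], y ≠ 1 := by
      intro y hy
      simp only [List.mem_cons, List.not_mem_nil, or_false] at hy
      rcases hy with rfl | rfl <;> assumption
    have hp2 : [a, b].Pairwise (fun a b => b ∉ P.cls a) := by
      simp [hba]
    by_cases hf2 : ∀ c : G, c ≠ 1 → c ∈ P.cover [a, b]
    · have hcard := P.card_cover_of_full hf2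
      rw [P.card_cover hne2 hp2] at hcard
      simp only [List.map_cons, List.map_nil, List.sum_cons, List.sum_nil, add_zero] at hcard
      rw [← hxa, ← hxb] at hcard
      rcases hKfacts with f | ⟨-, f⟩
      · exact hB (by omega)
      · exfalso; omega
    obtain ⟨c₂, h2, hc2⟩ := P.next_class hf2
    have hc2a : c₂ ∉ P.cls a := hc2 a (by simp)
    have hc2b : c₂ ∉ P.cls b := hc2 b (by simp)
    have hU2 := htorus c₂ h2 hc2a
    obtain ⟨n₂, m₂, x₂, hn₂, hm₂, hx₂, hn₂p, hm₂2, hq₂, hcase₂⟩ := P.torus_data h2 hU2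
    have hne3 : ∀ y ∈ [a, b, c₂], y ≠ 1 := by
      intro y hy
      simp only [List.mem_cons, List.not_mem_nil, or_false] at hy
      rcases hy with rfl | rfl | rfl <;> assumption
    have hp3 : [a, b, c₂].Pairwise (fun a b => b ∉ P.cls a) := by
      simp [hba, hc2a, hc2b]
    by_cases hf3 : ∀ c : G, c ≠ 1 → c ∈ P.cover [a, b, c₂]
    · have hcard := P.card_cover_of_full hf3
      rw [P.card_cover hne3 hp3] at hcard
      simp only [List.map_cons, List.map_nil, List.sum_cons, List.sum_nil, add_zero] at hcard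
      rw [← hxa, ← hxb, ← hx₂] at hcard
      rcases hKfacts with f | ⟨hεb, f⟩
      · exfalso; omega
      rcases hcase₂ with ⟨hε₂, f1, f2, f3⟩ | ⟨hε₂, f1, f2, f3⟩
      · exfalso; omega
      have heq : 2 * n₂ + 2 * n = n * q + 2 := by
        rw [← hPq]
        omega
      rcases arU2_core _ n q k n₂ m₂ hg f3 hk2 hkq hF1 hnp heq with
        h | ⟨h1', h2'⟩ | ⟨h1', h2'⟩ | ⟨hg60, hq3, hk2', hm5, hn10, hn6⟩
      · exact hB h
      · right; right; right; right; right; right; right
        refine ⟨a, b, 1, ha, haU, hb1, hbU, hble, ?_, ?_, Or.inl rfl, ?_, ?_⟩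
        · rw [← hk', ← hq]; exact hbcard
        · rw [hεb, ← hmb]; omega
        · rw [← hq, one_mul]; exact h2'
        · rw [← hq, ← hk', one_mul]; exact h1'
      · right; right; right; right; right; right; right
        refine ⟨a, b, 2, ha, haU, hb1, hbU, hble, ?_, ?_, Or.inr rfl, ?_, ?_⟩
        · rw [← hk', ← hq]; exact hbcard
        · rw [hεb, ← hmb]; omega
        · rw [← hq]; exact h2'
        · rw [← hq, ← hk']; exact h1'
      · right; right; right; right; right; right; left
        have hPq30 : Pq = 30 := by rw [hPq, hn10, hq3]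
        refine ⟨hg60, P.simple_of_classes a b c₂ ha hb1 h2 hf3 hp3 ?_ ?_ ?_ ?_ ?_ ?_ hg60⟩
        · rw [← hq, hq3]; exact Nat.prime_three
        · rw [← hk', hk2']; exact Nat.prime_two
        · rw [← hm₂, hm5]; exact Nat.prime_five
        · rw [← hxa]; right; left; omega
        · rw [← hxb]; left; omega
        · rw [← hx₂]; right; right; omega
    obtain ⟨c₃, h3, hc3⟩ := P.next_class hf3
    have hc3a : c₃ ∉ P.cls a := hc3 a (by simp)
    have hc3b : c₃ ∉ P.cls b := hc3 b (by simp)
    have hc32 : c₃ ∉ P.cls c₂ := hc3 c₂ (by simp)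
    have hU3 := htorus c₃ h3 hc3a
    have hq₃ := P.torus_quarter h3 hU3
    have hne4 : ∀ y ∈ [a, b, c₂, c₃], y ≠ 1 := by
      intro y hy
      simp only [List.mem_cons, List.not_mem_nil, or_false] at hy
      rcases hy with rfl | rfl | rfl | rfl <;> assumption
    have hp4 : [a, b, c₂, c₃].Pairwise (fun a b => b ∉ P.cls a) := by
      simp [hba, hc2a, hc2b, hc3a, hc3b, hc32]
    have hcard := P.card_cover_le [a, b, c₂, c₃]
    rw [P.card_cover hne4 hp4] at hcard
    simp only [List.map_cons, List.map_nil, List.sum_cons, List.sum_nil, add_zero] at hcard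
    rw [← hxa, ← hxb, ← hx₂] at hcard
    exfalso
    rcases hKfacts with f | ⟨-, f⟩ <;> omega

/-- the counting theorem -/
theorem shape : P.Shape := by
  by_cases h : ∃ a : G, a ≠ 1 ∧ P.isU a
  · obtain ⟨a, ha, haU⟩ := h
    exact P.shape_of_U ha haU
  · push Not at h
    exact P.shape_of_no_U h

end DPart

end Cfsg.Agent.Lib.Helper41
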