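import Cfsg.Agent.Lib.Helper41.KleinNormalizer

set_option autoImplicit false

namespace Cfsg.Agent.Lib.Helper41

variable {G : Type*} [Group G]

/-- a four-subgroup is of the form `kleinOf` -/
theorem exists_kleinOf_eq [Finite G] (V : Subgroup G) (hV : IsKleinFour V) :
    ∃ (x y : G) (hx : x * x = 1) (hy : y * y = 1) (hyx : y * x = x * y),
      x ≠ 1 ∧ y ≠ 1 ∧ x ≠ y ∧ V = kleinOf x y hx hy hyx := by
  classical
  haveI := Fintype.ofFinite G
  obtain ⟨sV, hsV⟩ : ∃ sV : Finset G, sV = Finset.univ.filter (fun a : G => a ∈ V) := ⟨_, rfl⟩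
  have hsVmem : ∀ a : G, a ∈ sV ↔ a ∈ V := by
    intro a
    rw [hsV]
    simp
  have hcardV : sV.card = 4 := by
    rw [← hV.card_four]
    exact (Nat.subtype_card sV hsVmem).symm
  have h1 : (sV.erase 1).card = 3 := by
    rw [Finset.card_erase_of_mem ((hsVmem 1).mpr V.one_mem), hcardV]
  obtain ⟨x, hxm⟩ : (sV.erase 1).Nonempty := by
    rw [← Finset.card_pos, h1]
    norm_num
  have h2 : ((sV.erase 1).erase x).card = 2 := by
    rw [Finset.card_erase_of_mem hxm, h1]
  obtain ⟨y, hym⟩ : ((sV.erase 1).erase x).Nonempty := by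
    rw [← Finset.card_pos, h2]
    norm_num
  rw [Finset.mem_erase, hsVmem] at hxm
  rw [Finset.mem_erase, Finset.mem_erase, hsVmem] at hym
  obtain ⟨hx1, hxV⟩ := hxm
  obtain ⟨hyx', hy1, hyV⟩ := hym
  have hsq : ∀ a : G, a ∈ V → a * a = 1 := by
    intro a ha
    have := IsKleinFour.mul_self (⟨a, ha⟩ : V)
    exact congrArg Subtype.val this
  have hcm : ∀ a b : G, a ∈ V → b ∈ V → a * b = b * a := by
    intro a b ha hb
    have := mul_comm_of_exponent_two hV.exponent_two (⟨a, ha⟩ : V) ⟨b, hb⟩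
    exact congrArg Subtype.val this
  refine ⟨x, y, hsq x hxV, hsq y hyV, hcm y x hyV hxV, hx1, hy1, fun h => hyx' h.symm, ?_⟩
  symm
  apply Subgroup.eq_of_le_of_card_ge
  · intro a ha
    rw [mem_kleinOf] at ha
    rcases ha with rfl | rfl | rfl | rfl
    · exact V.one_mem
    · exact hxV
    · exact hyV
    · exact V.mul_mem hxV hyV
  · rw [card_kleinOf x y _ _ _ hx1 hy1 (fun h => hyx' h.symm), hV.card_four]

/-- the normalizer of a four-group with self-centralizing property and enough automorphisms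
induced has order `24` -/
theorem card_normalizer_klein [Finite G] (x y u r : G)
    (hx : x * x = 1) (hy : y * y = 1) (hyx : y * x = x * y) (hx1 : x ≠ 1) (hy1 : y ≠ 1)
    (hxy : x ≠ y)
    (hC : ∀ g : G, g * x = x * g → g * y = y * g → g = 1 ∨ g = x ∨ g = y ∨ g = x * y)
    (hu1 : u * x * u⁻¹ = x * y) (hu2 : u * y * u⁻¹ = x)
    (hr1 : r * x * r⁻¹ = x) (hr2 : r * y * r⁻¹ = x * y) :
    Nat.card (Subgroup.normalizer ((kleinOf x y hx hy hyx : Subgroup G) : Set G)) = 24 := by
  classical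
  obtain ⟨V, hV⟩ : ∃ V : Subgroup G, V = kleinOf x y hx hy hyx := ⟨_, rfl⟩
  rw [← hV]
  have hVmem : ∀ a, a ∈ V ↔ a = 1 ∨ a = x ∨ a = y ∨ a = x * y := by
    intro a
    rw [hV]
    exact mem_kleinOf x y hx hy hyx a
  have hVcard : Nat.card V = 4 := by
    rw [hV]
    exact card_kleinOf x y hx hy hyx hx1 hy1 hxy
  obtain ⟨N, hN⟩ : ∃ N : Subgroup G, N = Subgroup.normalizer (V : Set G) := ⟨_, rfl⟩
  rw [← hN]
  have hxV : x ∈ V := (hVmem x).mpr (Or.inr (Or.inl rfl))
  have hyV : y ∈ V := (hVmem y).mpr (Or.inr (Or.inr (Or.inl rfl)))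
  have hxyV : x * y ∈ V := (hVmem (x * y)).mpr (Or.inr (Or.inr (Or.inr rfl)))
  have hNconj : ∀ k ∈ N, ∀ v ∈ V, k * v * k⁻¹ ∈ V := by
    intro k hk v hv
    rw [hN] at hk
    exact (Subgroup.mem_normalizer_iff.mp hk v).mp hv
  have hmemN : ∀ k : G, k * x * k⁻¹ ∈ V → k * y * k⁻¹ ∈ V → k ∈ N := by
    intro k h1 h2
    rw [hN]
    apply Subgroup.mem_normalizer_fintype
    intro n hn
    rw [SetLike.mem_coe] at hn ⊢
    rcases (hVmem n).mp hn with rfl | rfl | rfl | rfl
    · rw [mul_one, mul_inv_cancel]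
      exact V.one_mem
    · exact h1
    · exact h2
    · have e : k * (x * y) * k⁻¹ = (k * x * k⁻¹) * (k * y * k⁻¹) := by group
      rw [e]
      exact V.mul_mem h1 h2
  have huxy : u * (x * y) * u⁻¹ = y := by
    have e : u * (x * y) * u⁻¹ = (u * x * u⁻¹) * (u * y * u⁻¹) := by group
    rw [e, hu1, hu2, mul_assoc, hyx, ← mul_assoc, hx, one_mul]
  have huN : u ∈ N := hmemN u (by rw [hu1]; exact hxyV) (by rw [hu2]; exact hxV)
  have hrN : r ∈ N := hmemN r (by rw [hr1]; exact hxV) (by rw [hr2]; exact hxyV)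
  have hxyx : x * y ≠ x := by
    intro h
    apply hy1
    have e : x * y = x * 1 := by rw [h, mul_one]
    exact mul_left_cancel e
  have hxyy : x * y ≠ y := by
    intro h
    apply hx1
    have e : x * y = 1 * y := by rw [h, one_mul]
    exact mul_right_cancel e
  -- first step: the orbit of `x`
  obtain ⟨T₁, hT₁⟩ : ∃ T₁ : Finset G, T₁ = {x, y, x * y} := ⟨_, rfl⟩
  have hT₁card : T₁.card = 3 := by
    rw [hT₁, Finset.card_insert_of_notMem, Finset.card_pair]
    · exact fun h => hxyy h.symm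
    · simp only [Finset.mem_insert, Finset.mem_singleton, not_or]
      exact ⟨hxy, fun h => hxyx h.symm⟩
  have hT₁mem : ∀ b : G, b ∈ T₁ ↔ ∃ k ∈ N, k * x * k⁻¹ = b := by
    intro b
    rw [hT₁]
    simp only [Finset.mem_insert, Finset.mem_singleton]
    constructor
    · rintro (rfl | rfl | rfl)
      · exact ⟨1, N.one_mem, by group⟩
      · refine ⟨u * u, N.mul_mem huN huN, ?_⟩
        have e : u * u * x * (u * u)⁻¹ = u * (u * x * u⁻¹) * u⁻¹ := by group
        rw [e, hu1, huxy]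
      · exact ⟨u, huN, hu1⟩
    · rintro ⟨k, hk, rfl⟩
      rcases (hVmem _).mp (hNconj k hk x hxV) with h | h | h | h
      · exfalso
        exact hx1 (conj_eq_one_iff.mp h)
      · left
        exact h
      · right; left
        exact h
      · right; right
        exact h
  have step1 := card_eq_card_conj_mul_card_inf_centralizer N x T₁ hT₁mem
  -- second step: the orbit of `y` under the stabilizer of `x`
  obtain ⟨N₁, hN₁⟩ : ∃ N₁ : Subgroup G, N₁ = N ⊓ Subgroup.centralizer ({x} : Set G) := ⟨_, rfl⟩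
  rw [← hN₁] at step1
  have hN₁mem : ∀ k : G, k ∈ N₁ ↔ k ∈ N ∧ k * x = x * k := by
    intro k
    rw [hN₁, Subgroup.mem_inf, Subgroup.mem_centralizer_singleton_iff]
  obtain ⟨T₂, hT₂⟩ : ∃ T₂ : Finset G, T₂ = {y, x * y} := ⟨_, rfl⟩
  have hT₂card : T₂.card = 2 := by
    rw [hT₂, Finset.card_pair]
    exact fun h => hxyy h.symm
  have hT₂mem : ∀ b : G, b ∈ T₂ ↔ ∃ k ∈ N₁, k * y * k⁻¹ = b := by
    intro b
    rw [hT₂]
    simp only [Finset.mem_insert, Finset.mem_singleton]
    constructor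
    · rintro (rfl | rfl)
      · exact ⟨1, N₁.one_mem, by group⟩
      · refine ⟨r, (hN₁mem r).mpr ⟨hrN, ?_⟩, hr2⟩
        calc r * x = (r * x * r⁻¹) * r := by group
          _ = x * r := by rw [hr1]
    · rintro ⟨k, hk, rfl⟩
      obtain ⟨hkN, hkx⟩ := (hN₁mem k).mp hk
      rcases (hVmem _).mp (hNconj k hkN y hyV) with h | h | h | h
      · exfalso
        exact hy1 (conj_eq_one_iff.mp h)
      · exfalso
        apply hxy
        have e : k * x * k⁻¹ = x := by
          rw [hkx]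
          group
        have e2 : k * y * k⁻¹ = k * x * k⁻¹ := by rw [h, e]
        exact (mul_left_cancel (mul_right_cancel e2)).symm
      · left
        exact h
      · right
        exact h
  have step2 := card_eq_card_conj_mul_card_inf_centralizer N₁ y T₂ hT₂mem
  have hlast : N₁ ⊓ Subgroup.centralizer ({y} : Set G) = V := by
    ext g
    rw [Subgroup.mem_inf, Subgroup.mem_centralizer_singleton_iff, hN₁mem]
    constructor
    · rintro ⟨⟨-, hgx⟩, hgy⟩
      exact (hVmem g).mpr (hC g hgx hgy)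
    · intro hg
      have hgN : g ∈ N := by
        rw [hN]
        exact Subgroup.le_normalizer hg
      rcases (hVmem g).mp hg with rfl | rfl | rfl | rfl
      · exact ⟨⟨hgN, by rw [one_mul, mul_one]⟩, by rw [one_mul, mul_one]⟩
      · exact ⟨⟨hgN, rfl⟩, hyx.symm⟩
      · exact ⟨⟨hgN, hyx⟩, rfl⟩
      · refine ⟨⟨hgN, ?_⟩, ?_⟩
        · rw [mul_assoc, hyx]
        · rw [← mul_assoc, hyx]
  rw [hlast, hVcard, hT₂card] at step2
  rw [step1, step2, hT₁card]

end Cfsg.Agent.Lib.Helper41
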