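import Cfsg.Agent.Lib.Helper41.PSL2Klein
import Cfsg.Agent.Lib.Helper41.KleinNorm24

set_option autoImplicit false

namespace Cfsg.Agent.Lib.Helper41

open Matrix

variable {F : Type*} [Field F]

theorem mk_negOne : (QuotientGroup.mk (negOne : Matrix.SpecialLinearGroup (Fin 2) F) :
    Matrix.ProjectiveSpecialLinearGroup (Fin 2) F) = 1 :=
  (QuotientGroup.eq_one_iff _).mpr negOne_mem_center

theorem mk_eq_one_of_cases (A : Matrix.SpecialLinearGroup (Fin 2) F)
    (h : A = 1 ∨ A = negOne) :
    (QuotientGroup.mk A : Matrix.ProjectiveSpecialLinearGroup (Fin 2) F) = 1 := by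
  rcases h with h | h
  · rw [h]
    rfl
  · rw [h]
    exact mk_negOne

theorem anti_of_inverting (X Y : Matrix.SpecialLinearGroup (Fin 2) F) (hX : X.1.trace = 0)
    (hinv : Y * X * Y⁻¹ = X⁻¹) : Y * X = negOne * (X * Y) := by
  calc Y * X = (Y * X * Y⁻¹) * Y := by group
    _ = negOne * (X * Y) := by rw [hinv, inv_eq_negOne_mul X hX, mul_assoc]

/-- an element commuting with both members of a quaternion pair is central -/
theorem central_of_comm_pair (h2 : (2 : F) ≠ 0) (X Y A : Matrix.SpecialLinearGroup (Fin 2) F)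
    (hX : X.1.trace = 0) (hinv : Y * X * Y⁻¹ = X⁻¹) (hAX : A * X = X * A)
    (hAY : A * Y = Y * A) : A = 1 ∨ A = negOne := by
  have hτ := trace_zero_regular h2 X hX
  have hAC : A ∈ Subgroup.centralizer ({X} : Set (Matrix.SpecialLinearGroup (Fin 2) F)) :=
    Subgroup.mem_centralizer_singleton_iff.mpr hAX
  have h1 := inv_conj_of_mem X Y A (not_mem_center_of_trace h2 X hτ) hinv hAC
  have h3 : Y * A * Y⁻¹ = A := by
    rw [← hAY]
    group
  rw [h3] at h1
  apply sq_eq_one_cases h2
  have h4 : A * A = A⁻¹ * A := congrArg (· * A) h1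
  rw [h4, inv_mul_cancel]

theorem comm_pair_step1 (h2 : (2 : F) ≠ 0) (X Y A : Matrix.SpecialLinearGroup (Fin 2) F)
    (hX : X.1.trace = 0) (hinv : Y * X * Y⁻¹ = X⁻¹) (hAX : A * X = X * A)
    (hAy : (QuotientGroup.mk A : Matrix.ProjectiveSpecialLinearGroup (Fin 2) F) *
      QuotientGroup.mk Y = QuotientGroup.mk Y * QuotientGroup.mk A) :
    (QuotientGroup.mk A : Matrix.ProjectiveSpecialLinearGroup (Fin 2) F) = 1 ∨
      (QuotientGroup.mk A : Matrix.ProjectiveSpecialLinearGroup (Fin 2) F) =
        QuotientGroup.mk X := by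
  have hanti := anti_of_inverting X Y hX hinv
  rw [← QuotientGroup.mk_mul, ← QuotientGroup.mk_mul, psl2_mk_eq_iff] at hAy
  rcases hAy with h | h
  · have hAY : A * Y = Y * A := (Subtype.ext h).symm
    left
    exact mk_eq_one_of_cases A (central_of_comm_pair h2 X Y A hX hinv hAX hAY)
  · have hYA : Y * A = negOne * (A * Y) := by
      apply Subtype.ext
      rw [h, Matrix.SpecialLinearGroup.coe_mul negOne, negOne_coe]
      simp
    right
    have hA'X : (A * X) * X = X * (A * X) := by
      rw [← mul_assoc, hAX]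
    have hA'Y : (A * X) * Y = Y * (A * X) := by
      symm
      calc Y * (A * X) = (Y * A) * X := by group
        _ = negOne * (A * Y) * X := by rw [hYA]
        _ = negOne * A * (Y * X) := by group
        _ = negOne * A * (negOne * (X * Y)) := by rw [hanti]
        _ = A * (negOne * negOne) * (X * Y) := by
            rw [negOne_comm A]
            group
        _ = A * X * Y := by
            rw [negOne_mul_self]
            group
    have h5 := mk_eq_one_of_cases (A * X) (central_of_comm_pair h2 X Y (A * X) hX hinv hA'X hA'Y)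
    have hxx : (QuotientGroup.mk X : Matrix.ProjectiveSpecialLinearGroup (Fin 2) F) *
        QuotientGroup.mk X = 1 := by
      rw [← QuotientGroup.mk_mul, (sq_eq_negOne_iff X).mpr hX]
      exact mk_negOne
    rw [QuotientGroup.mk_mul] at h5
    calc (QuotientGroup.mk A : Matrix.ProjectiveSpecialLinearGroup (Fin 2) F)
        = (QuotientGroup.mk A * QuotientGroup.mk X) * QuotientGroup.mk X := by
          rw [mul_assoc, hxx, mul_one]
      _ = QuotientGroup.mk X := by rw [h5, one_mul]

/-- the centralizer of a four-subgroup of `PSL₂` in odd characteristic is the four-subgroup -/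
theorem psl2_centralizer_klein (h2 : (2 : F) ≠ 0) (X Y : Matrix.SpecialLinearGroup (Fin 2) F)
    (hX : X.1.trace = 0) (hY : Y.1.trace = 0) (hinv : Y * X * Y⁻¹ = X⁻¹)
    (g : Matrix.ProjectiveSpecialLinearGroup (Fin 2) F)
    (hgx : g * QuotientGroup.mk X = QuotientGroup.mk X * g)
    (hgy : g * QuotientGroup.mk Y = QuotientGroup.mk Y * g) :
    g = 1 ∨ g = QuotientGroup.mk X ∨ g = QuotientGroup.mk Y ∨
      g = QuotientGroup.mk X * QuotientGroup.mk Y := by
  obtain ⟨A, rfl⟩ := QuotientGroup.mk_surjective g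
  have hanti := anti_of_inverting X Y hX hinv
  have hyy : (QuotientGroup.mk Y : Matrix.ProjectiveSpecialLinearGroup (Fin 2) F) *
      QuotientGroup.mk Y = 1 := by
    rw [← QuotientGroup.mk_mul, (sq_eq_negOne_iff Y).mpr hY]
    exact mk_negOne
  have hgx' := hgx
  rw [← QuotientGroup.mk_mul, ← QuotientGroup.mk_mul, psl2_mk_eq_iff] at hgx'
  rcases hgx' with h | h
  · have hAX : A * X = X * A := (Subtype.ext h).symm
    rcases comm_pair_step1 h2 X Y A hX hinv hAX hgy with h' | h'
    · left
      exact h'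
    · right; left
      exact h'
  · have hXA : X * A = negOne * (A * X) := by
      apply Subtype.ext
      rw [h, Matrix.SpecialLinearGroup.coe_mul negOne, negOne_coe]
      simp
    have hA'X : (A * Y) * X = X * (A * Y) := by
      symm
      calc X * (A * Y) = (X * A) * Y := by group
        _ = negOne * (A * X) * Y := by rw [hXA]
        _ = negOne * A * (X * Y) := by group
        _ = A * (negOne * (X * Y)) := by
            rw [negOne_comm A]
            group
        _ = A * (Y * X) := by rw [hanti]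
        _ = A * Y * X := by group
    have hA'y : (QuotientGroup.mk (A * Y) : Matrix.ProjectiveSpecialLinearGroup (Fin 2) F) *
        QuotientGroup.mk Y = QuotientGroup.mk Y * QuotientGroup.mk (A * Y) := by
      rw [QuotientGroup.mk_mul, ← mul_assoc, ← hgy]
    rcases comm_pair_step1 h2 X Y (A * Y) hX hinv hA'X hA'y with h' | h'
    · right; right; left
      rw [QuotientGroup.mk_mul] at h'
      calc (QuotientGroup.mk A : Matrix.ProjectiveSpecialLinearGroup (Fin 2) F)
          = (QuotientGroup.mk A * QuotientGroup.mk Y) * QuotientGroup.mk Y := by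
            rw [mul_assoc, hyy, mul_one]
        _ = QuotientGroup.mk Y := by rw [h', one_mul]
    · right; right; right
      rw [QuotientGroup.mk_mul] at h'
      calc (QuotientGroup.mk A : Matrix.ProjectiveSpecialLinearGroup (Fin 2) F)
          = (QuotientGroup.mk A * QuotientGroup.mk Y) * QuotientGroup.mk Y := by
            rw [mul_assoc, hyy, mul_one]
        _ = QuotientGroup.mk X * QuotientGroup.mk Y := by rw [h']

/-- when `2` is a square, some element centralizes `X` and maps `Y` to `X Y` -/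
theorem exists_swap_elt (h2 : (2 : F) ≠ 0) (s : F) (hs : s * s = 2)
    (X Y : Matrix.SpecialLinearGroup (Fin 2) F) (hX : X.1.trace = 0)
    (hinv : Y * X * Y⁻¹ = X⁻¹) :
    ∃ r : Matrix.SpecialLinearGroup (Fin 2) F, r * X * r⁻¹ = X ∧ r * Y * r⁻¹ = X * Y := by
  have hs0 : s ≠ 0 := by
    rintro rfl
    apply h2
    rw [← hs]
    ring
  obtain ⟨a, ha⟩ : ∃ a : F, a = s⁻¹ := ⟨_, rfl⟩
  have has : a * s = 1 := by
    rw [ha, inv_mul_cancel₀ hs0]
  have haa : a * a + a * a = 1 := by
    linear_combination (-(a * a)) * hs + (a * s + 1) * has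
  obtain ⟨r, hr⟩ : ∃ r : Matrix.SpecialLinearGroup (Fin 2) F,
      r.1 = scalar (Fin 2) a + a • X.1 := by
    refine ⟨⟨_, ?_⟩, rfl⟩
    rw [det_scalar_add_smul X.1 X.det_coe a a, hX]
    linear_combination haa
  have hXX : X.1 * X.1 = -1 := sq_of_trace_zero X hX
  have hanti : Y.1 * X.1 = -(X.1 * Y.1) := by
    rw [← Matrix.SpecialLinearGroup.coe_mul, anti_of_inverting X Y hX hinv,
      Matrix.SpecialLinearGroup.coe_mul, negOne_coe, Matrix.SpecialLinearGroup.coe_mul]
    simp
  have hrX : r * X = X * r := by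
    apply Subtype.ext
    rw [Matrix.SpecialLinearGroup.coe_mul, Matrix.SpecialLinearGroup.coe_mul, hr,
      scalar_eq_smul_one]
    simp only [Matrix.add_mul, Matrix.mul_add, Matrix.smul_mul, Matrix.mul_smul, Matrix.one_mul,
      Matrix.mul_one]
  have hrY : r * Y = X * Y * r := by
    apply Subtype.ext
    rw [Matrix.SpecialLinearGroup.coe_mul, Matrix.SpecialLinearGroup.coe_mul,
      Matrix.SpecialLinearGroup.coe_mul, hr, scalar_eq_smul_one]
    simp only [Matrix.add_mul, Matrix.mul_add, Matrix.smul_mul, Matrix.mul_smul, Matrix.one_mul,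
      Matrix.mul_one]
    have e : X.1 * Y.1 * X.1 = Y.1 := by
      rw [Matrix.mul_assoc, hanti, Matrix.mul_neg, ← Matrix.mul_assoc, hXX, Matrix.neg_mul,
        Matrix.one_mul, neg_neg]
    rw [e, add_comm]
  refine ⟨r, ?_, ?_⟩
  · rw [hrX]
    group
  · rw [hrY]
    group

section finite

variable [Fintype F]

/-- the normalizer of a four-subgroup of `PSL₂(q)`, `q ≡ ±1` mod `8`, has order `24` -/
theorem psl2_card_normalizer_klein (h2 : (2 : F) ≠ 0) (hsq : IsSquare (2 : F))
    (V : Subgroup (Matrix.ProjectiveSpecialLinearGroup (Fin 2) F)) (hV : IsKleinFour V) :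
    Nat.card (Subgroup.normalizer
      (V : Set (Matrix.ProjectiveSpecialLinearGroup (Fin 2) F))) = 24 := by
  have h2p : Fact (Nat.Prime 2) := ⟨Nat.prime_two⟩
  obtain ⟨x, y, hx, hy, hyx, hx1, hy1, hxy, rfl⟩ := exists_kleinOf_eq V hV
  obtain ⟨X, rfl⟩ := QuotientGroup.mk_surjective x
  obtain ⟨Y, rfl⟩ := QuotientGroup.mk_surjective y
  have hox : orderOf (QuotientGroup.mk X : Matrix.ProjectiveSpecialLinearGroup (Fin 2) F) = 2 :=
    orderOf_eq_prime (by rw [pow_two]; exact hx) hx1
  have hoy : orderOf (QuotientGroup.mk Y : Matrix.ProjectiveSpecialLinearGroup (Fin 2) F) = 2 :=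
    orderOf_eq_prime (by rw [pow_two]; exact hy) hy1
  have hX := (psl2_orderOf_eq_two_iff h2 X).mp hox
  have hY := (psl2_orderOf_eq_two_iff h2 Y).mp hoy
  have hinv := (psl2_comm_involutions_iff h2 X Y hX hY).mp ⟨fun h => hxy h.symm, hyx.symm⟩
  have hXY : (X * Y).1.trace = 0 := by
    rw [← sq_eq_negOne_iff]
    calc X * Y * (X * Y) = X * (Y * X * Y⁻¹) * (Y * Y) := by group
      _ = negOne := by
          rw [hinv, (sq_eq_negOne_iff Y).mpr hY]
          group
  obtain ⟨u, hu1, hu2, -, -⟩ := exists_hurwitz h2 X Y hX hY hXY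
  obtain ⟨s, hs⟩ := hsq
  obtain ⟨r, hr1, hr2⟩ := exists_swap_elt h2 s hs.symm X Y hX hinv
  apply card_normalizer_klein (QuotientGroup.mk X) (QuotientGroup.mk Y) (QuotientGroup.mk u)
    (QuotientGroup.mk r) hx hy hyx hx1 hy1 hxy
  · exact psl2_centralizer_klein h2 X Y hX hY hinv
  · rw [← QuotientGroup.mk_inv, ← QuotientGroup.mk_mul, ← QuotientGroup.mk_mul, hu1,
      QuotientGroup.mk_mul]
  · rw [← QuotientGroup.mk_inv, ← QuotientGroup.mk_mul, ← QuotientGroup.mk_mul, hu2]
  · rw [← QuotientGroup.mk_inv, ← QuotientGroup.mk_mul, ← QuotientGroup.mk_mul, hr1]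
  · rw [← QuotientGroup.mk_inv, ← QuotientGroup.mk_mul, ← QuotientGroup.mk_mul, hr2,
      QuotientGroup.mk_mul]

/-- the class of a four-subgroup of `PSL₂(q)`, `q ≡ ±1` mod `8` -/
theorem psl2_card_conj_class_klein (h2 : (2 : F) ≠ 0) (hsq : IsSquare (2 : F))
    (V : Subgroup (Matrix.ProjectiveSpecialLinearGroup (Fin 2) F)) (hV : IsKleinFour V) :
    24 * Nat.card {W : Subgroup (Matrix.ProjectiveSpecialLinearGroup (Fin 2) F) //
      ∃ g : Matrix.ProjectiveSpecialLinearGroup (Fin 2) F,
        W = V.map (MulAut.conj g).toMonoidHom} =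
      Nat.card (Matrix.ProjectiveSpecialLinearGroup (Fin 2) F) := by
  rw [card_conj_class_subgroup V, ← psl2_card_normalizer_klein h2 hsq V hV, mul_comm]
  exact Subgroup.index_mul_card _

end finite

end Cfsg.Agent.Lib.Helper41
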