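import Mathlib

set_option autoImplicit false

namespace Cfsg.Agent.Lib.Helper41

/-- class number of a finite group with an abelian subgroup `T` of index two that is inverted by
the outside elements and has exactly two elements of square one -/
theorem dicyclic_card_conjClasses {N : Type*} [Group N] [Finite N] (T : Subgroup N) (z : N)
    (hz1 : z ≠ 1) (hzT : z ∈ T) (hzz : z * z = 1)
    (habel : ∀ a ∈ T, ∀ b ∈ T, a * b = b * a) (hindex : T.index = 2)
    (hinv : ∀ g, g ∉ T → ∀ t ∈ T, g * t * g⁻¹ = t⁻¹)
    (hsq : ∀ t ∈ T, t * t = 1 → t = 1 ∨ t = z) :
    2 * Nat.card (ConjClasses N) = Nat.card T + 6 := by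
  classical
  have : Fintype N := Fintype.ofFinite N
  have hN : Nat.card N = 2 * Nat.card T := by
    rw [← T.index_mul_card, hindex]
  have hzinv : z⁻¹ = z := inv_eq_of_mul_eq_one_left hzz
  -- commuting with an outside element, inside `T`
  have hT : ∀ g, g ∉ T → ∀ t ∈ T, (Commute g t ↔ t = 1 ∨ t = z) := by
    intro g hg t ht
    have hi := hinv g hg t ht
    constructor
    · intro hcm
      apply hsq t ht
      have h1 : g * t * g⁻¹ = t := by
        rw [hcm.eq]
        group
      rw [h1] at hi
      exact eq_inv_iff_mul_eq_one.mp hi
    · rintro (rfl | rfl)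
      · exact Commute.one_right g
      · rw [hzinv] at hi
        exact mul_inv_eq_iff_eq_mul.mp hi
  have hc1 : ∀ g, g = 1 ∨ g = z → Nat.card {h : N // Commute g h} = 2 * Nat.card T := by
    intro g hg
    have hall : ∀ h : N, Commute g h := by
      intro h
      rcases hg with hg | hg
      · rw [hg]
        exact Commute.one_left h
      · rw [hg]
        by_cases hh : h ∈ T
        · exact habel z hzT h hh
        · exact ((hT h hh z hzT).mpr (Or.inr rfl)).symm
    rw [← hN]
    exact Nat.card_congr (Equiv.subtypeUnivEquiv hall)
  have hc2 : ∀ g, g ∈ T → g ≠ 1 → g ≠ z → Nat.card {h : N // Commute g h} = Nat.card T := by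
    intro g hgT hg1 hgz
    apply Nat.card_congr
    apply Equiv.subtypeEquivRight
    intro h
    constructor
    · intro hcomm
      by_contra hh
      rcases (hT h hh g hgT).mp hcomm.symm with h1 | h1
      · exact hg1 h1
      · exact hgz h1
    · intro hh
      exact habel g hgT h hh
  have hc3 : ∀ g, g ∉ T → Nat.card {h : N // Commute g h} = 4 := by
    intro g hg
    have hginv : g⁻¹ ∉ T := fun h => hg (by simpa using T.inv_mem h)
    have hset : ∀ h : N, Commute g h ↔ h = 1 ∨ h = z ∨ h = g ∨ h = g * z := by
      intro h
      by_cases hh : h ∈ T
      · rw [hT g hg h hh]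
        constructor
        · rintro (h1 | h1)
          · exact Or.inl h1
          · exact Or.inr (Or.inl h1)
        · rintro (h1 | h1 | h1 | h1)
          · exact Or.inl h1
          · exact Or.inr h1
          · exact absurd (h1 ▸ hh) hg
          · exfalso
            apply hg
            have : g = h * z⁻¹ := by
              rw [h1]
              group
            rw [this]
            exact T.mul_mem hh (T.inv_mem hzT)
      · have ht : g⁻¹ * h ∈ T := by
          rw [Subgroup.mul_mem_iff_of_index_two hindex]
          exact ⟨fun h1 => absurd h1 hginv, fun h1 => absurd h1 hh⟩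
        have hcm : Commute g h ↔ Commute g (g⁻¹ * h) := by
          constructor
          · intro hc
            exact (Commute.refl g).inv_right.mul_right hc
          · intro hc
            have := (Commute.refl g).mul_right hc
            simpa using this
        rw [hcm, hT g hg _ ht]
        constructor
        · rintro (h1 | h1)
          · right
            right
            left
            exact (inv_mul_eq_one.mp h1).symm
          · right
            right
            right
            exact inv_mul_eq_iff_eq_mul.mp h1
        · rintro (h1 | h1 | h1 | h1)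
          · exact absurd (h1 ▸ T.one_mem) hh
          · exact absurd (h1 ▸ hzT) hh
          · left
            rw [h1]
            simp
          · right
            rw [h1]
            simp
    have hfilter : (Finset.univ.filter fun h => Commute g h) = {1, z, g, g * z} := by
      ext h
      simp [hset]
    rw [Nat.card_eq_fintype_card, Fintype.card_subtype, hfilter]
    have h1z : (1 : N) ≠ z := fun h => hz1 h.symm
    have h1g : (1 : N) ≠ g := fun h => hg (h ▸ T.one_mem)
    have hzg : z ≠ g := fun h => hg (h ▸ hzT)
    have hggz : g ≠ g * z := by
      intro h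
      apply hz1
      have := mul_left_cancel (a := g) (b := 1) (c := z) (by rw [mul_one]; exact h)
      exact this.symm
    have h1gz : (1 : N) ≠ g * z := by
      intro h
      apply hg
      have : g = z⁻¹ := eq_inv_of_mul_eq_one_left h.symm
      rw [this]
      exact T.inv_mem hzT
    have hzgz : z ≠ g * z := by
      intro h
      apply h1g
      have : (1 : N) * z = g * z := by rw [one_mul]; exact h
      exact mul_right_cancel this
    rw [Finset.card_insert_of_notMem, Finset.card_insert_of_notMem, Finset.card_insert_of_notMem,
      Finset.card_singleton]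
    · simp [hggz]
    · simp [hzg, hzgz]
    · simp [h1z, h1g, h1gz]
  have hpairs : Nat.card {p : N × N // Commute p.1 p.2} =
      ∑ g : N, Nat.card {h : N // Commute g h} := by
    rw [Nat.card_congr (Equiv.subtypeProdEquivSigmaSubtype (fun g h : N => Commute g h)),
      Nat.card_sigma]
  have hcardT : (Finset.univ.filter (fun g : N => g ∈ T)).card = Nat.card T := by
    rw [Nat.card_eq_fintype_card, Fintype.card_subtype]
  have hcard2 : (Finset.univ.filter (fun g : N => g = 1 ∨ g = z)).card = 2 := by
    have : (Finset.univ.filter (fun g : N => g = 1 ∨ g = z)) = {1, z} := by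
      ext h
      simp
    rw [this, Finset.card_insert_of_notMem, Finset.card_singleton]
    simp
    exact fun h => hz1 h.symm
  have hsum : ∑ g : N, Nat.card {h : N // Commute g h} + 4 * Nat.card T =
      4 * Nat.card N + Nat.card T * Nat.card T + 2 * Nat.card T := by
    have hpt : ∀ g : N, Nat.card {h : N // Commute g h} + (if g ∈ T then 4 else 0) =
        4 + (if g ∈ T then Nat.card T else 0) + (if g = 1 ∨ g = z then Nat.card T else 0) := by
      intro g
      by_cases hgT : g ∈ T
      · by_cases hg : g = 1 ∨ g = z
        · rw [hc1 g hg, if_pos hgT, if_pos hgT, if_pos hg]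
          ring
        · rw [if_pos hgT, if_pos hgT, if_neg hg]
          push Not at hg
          rw [hc2 g hgT hg.1 hg.2]
          ring
      · have hg : ¬ (g = 1 ∨ g = z) := by
          rintro (h | h)
          · exact hgT (h ▸ T.one_mem)
          · exact hgT (h ▸ hzT)
        rw [hc3 g hgT, if_neg hgT, if_neg hgT, if_neg hg]
    have h1 : ∑ g : N, (if g ∈ T then 4 else 0) = 4 * Nat.card T := by
      rw [Finset.sum_ite, Finset.sum_const, Finset.sum_const_zero, add_zero, smul_eq_mul, hcardT,
        mul_comm]
    have h2 : ∑ g : N, (if g ∈ T then Nat.card T else 0) = Nat.card T * Nat.card T := by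
      rw [Finset.sum_ite, Finset.sum_const, Finset.sum_const_zero, add_zero, smul_eq_mul, hcardT]
    have h3 : ∑ g : N, (if g = 1 ∨ g = z then Nat.card T else 0) = 2 * Nat.card T := by
      rw [Finset.sum_ite, Finset.sum_const, Finset.sum_const_zero, add_zero, smul_eq_mul, hcard2]
    have h4 : ∑ _g : N, 4 = 4 * Nat.card N := by
      rw [Finset.sum_const, smul_eq_mul, Finset.card_univ, Nat.card_eq_fintype_card, mul_comm]
    rw [← h1, ← Finset.sum_add_distrib, Finset.sum_congr rfl (fun g _ => hpt g),
      Finset.sum_add_distrib, Finset.sum_add_distrib, h2, h3, h4]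
  have hk := card_comm_eq_card_conjClasses_mul_card N
  rw [hpairs] at hk
  rw [hk, hN] at hsum
  have hTpos : 0 < Nat.card T := Nat.card_pos
  have : Nat.card T * (2 * Nat.card (ConjClasses N)) = Nat.card T * (Nat.card T + 6) := by
    nlinarith
  exact Nat.eq_of_mul_eq_mul_left hTpos this

end Cfsg.Agent.Lib.Helper41
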