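import Cfsg.Agent.Lib.Helper41.SL2Conj

set_option autoImplicit false

namespace Cfsg.Agent.Lib.Helper41

open Matrix Polynomial

variable {F : Type*} [Field F]

/-- over a finite field of odd order, `s² = A2 z² + A1 z + A0` is solvable when `A2 ≠ 0` -/
theorem exists_sq_eq_quadratic [Fintype F] (h2 : (2 : F) ≠ 0) (A2 A1 A0 : F) (hA : A2 ≠ 0) :
    ∃ s z : F, s * s = A2 * (z * z) + A1 * z + A0 := by
  have hodd := card_mod_two_of_two_ne_zero h2
  have hf : degree (C (1 : F) * X ^ 2 + C 0 * X + C 0) = 2 := degree_quadratic one_ne_zero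
  have hg : degree (C (-A2) * X ^ 2 + C (-A1) * X + C (-A0)) = 2 :=
    degree_quadratic (neg_ne_zero.mpr hA)
  obtain ⟨s, z, h⟩ := FiniteField.exists_root_sum_quadratic hf hg hodd
  refine ⟨s, z, ?_⟩
  simp only [eval_add, eval_mul, eval_C, eval_pow, eval_X] at h
  linear_combination h

/-- two companion-like forms with the same trace `τ`, `τ² ≠ 4`, are conjugate (odd finite field) -/
theorem companion_conj [Fintype F] (h2 : (2 : F) ≠ 0) {c c' τ : F} (hc : c ≠ 0) (hc' : c' ≠ 0)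
    (hτ : τ * τ ≠ 4) (Y Y' : Matrix.SpecialLinearGroup (Fin 2) F)
    (hY : Y.1 = !![0, -c⁻¹; c, τ]) (hY' : Y'.1 = !![0, -c'⁻¹; c', τ]) :
    ∃ P : Matrix.SpecialLinearGroup (Fin 2) F, P * Y * P⁻¹ = Y' := by
  have h4 : (4 : F) ≠ 0 := by
    have : (4 : F) = 2 * 2 := by norm_num
    rw [this]
    exact mul_ne_zero h2 h2
  obtain ⟨s, z, hsz⟩ := exists_sq_eq_quadratic h2 (τ * τ - 4) 0 (4 * c / c') (sub_ne_zero.mpr hτ)
  have hsz' : c' * (s * s) = c' * ((τ * τ - 4) * (z * z)) + 4 * c := by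
    rw [hsz]
    field_simp
    ring
  obtain ⟨α, hα⟩ : ∃ α : F, α = (s - τ * z) / 2 := ⟨_, rfl⟩
  have hα' : 2 * α = s - τ * z := by
    rw [hα]
    field_simp
  have hq : c' * (α * α + τ * α * z + z * z) = c := by
    apply mul_left_cancel₀ h4
    linear_combination c' * (2 * α + τ * z + s) * hα' + hsz'
  obtain ⟨P, hP⟩ : ∃ P : Matrix.SpecialLinearGroup (Fin 2) F,
      P.1 = !![α, -z / c; c' * z, (c' / c) * (α + z * τ)] := by
    refine ⟨⟨_, ?_⟩, rfl⟩
    rw [det_fin_two]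
    simp
    field_simp
    linear_combination hq
  have hcomm : P * Y = Y' * P := by
    apply Subtype.ext
    rw [Matrix.SpecialLinearGroup.coe_mul, Matrix.SpecialLinearGroup.coe_mul, hY, hY', hP]
    ext i j
    fin_cases i <;> fin_cases j <;>
      simp only [Matrix.mul_apply, Fin.sum_univ_two] <;> simp <;> field_simp <;> ring
  refine ⟨P, ?_⟩
  rw [hcomm]
  group

/-- trace `τ` with `τ² ≠ 4` excludes the center -/
theorem not_mem_center_of_trace (h2 : (2 : F) ≠ 0) (A : Matrix.SpecialLinearGroup (Fin 2) F)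
    (hτ : A.1.trace * A.1.trace ≠ 4) :
    A ∉ Subgroup.center (Matrix.SpecialLinearGroup (Fin 2) F) := by
  intro h
  rw [sl2_mem_center_iff] at h
  apply hτ
  rcases h with h | h
  · rw [h]
    simp [Matrix.trace_fin_two]
    norm_num
  · rw [h]
    simp [Matrix.trace_fin_two]
    norm_num

/-- over a finite field of odd order, elements of `SL₂` with the same trace `τ`, `τ² ≠ 4`, are
conjugate -/
theorem conj_of_trace_eq [Fintype F] (h2 : (2 : F) ≠ 0) (Y Y' : Matrix.SpecialLinearGroup (Fin 2) F)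
    (hτ : Y.1.trace * Y.1.trace ≠ 4) (h : Y'.1.trace = Y.1.trace) :
    ∃ P : Matrix.SpecialLinearGroup (Fin 2) F, P * Y * P⁻¹ = Y' := by
  have hτ' : Y'.1.trace * Y'.1.trace ≠ 4 := by rw [h]; exact hτ
  obtain ⟨P₁, c, hc, h1⟩ := conj_companion Y (not_mem_center_of_trace h2 Y hτ)
  obtain ⟨P₂, c', hc', h2'⟩ := conj_companion Y' (not_mem_center_of_trace h2 Y' hτ')
  rw [h] at h2'
  obtain ⟨Q, hQ⟩ := companion_conj h2 hc hc' hτ _ _ h1 h2'
  refine ⟨P₂⁻¹ * Q * P₁, ?_⟩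
  have e : P₂⁻¹ * Q * P₁ * Y * (P₂⁻¹ * Q * P₁)⁻¹ = P₂⁻¹ * (Q * (P₁ * Y * P₁⁻¹) * Q⁻¹) * P₂ := by
    group
  rw [e, hQ]
  group

/-- an element `T` of `SL₂` over a finite field of odd order with nonzero lower-left entry and
trace `≠ 2` is a product of two elements of any prescribed nonzero trace `τ` -/
theorem exists_factor_trace [Fintype F] (h2 : (2 : F) ≠ 0)
    (T : Matrix.SpecialLinearGroup (Fin 2) F) (hc : T.1 1 0 ≠ 0) (hT : T.1.trace ≠ 2) (τ : F)
    (hτ : τ ≠ 0) :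
    ∃ Y₁ Y₂ : Matrix.SpecialLinearGroup (Fin 2) F, Y₁ * Y₂ = T ∧ Y₁.1.trace = τ ∧
      Y₂.1.trace = τ := by
  have hdet := sl2_det_entries T
  rw [Matrix.trace_fin_two] at hT
  obtain ⟨a, ha⟩ : ∃ a : F, a = T.1 0 0 := ⟨_, rfl⟩
  obtain ⟨b, hb⟩ : ∃ b : F, b = T.1 0 1 := ⟨_, rfl⟩
  obtain ⟨c, hc'⟩ : ∃ c : F, c = T.1 1 0 := ⟨_, rfl⟩
  obtain ⟨d, hd⟩ : ∃ d : F, d = T.1 1 1 := ⟨_, rfl⟩
  rw [← ha, ← hb, ← hc', ← hd] at hdet
  rw [← ha, ← hd] at hT
  rw [← hc'] at hc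
  have hTm : T.1 = !![a, b; c, d] := by
    ext i j
    fin_cases i <;> fin_cases j <;> simp [ha, hb, hc', hd]
  have hsz : ∃ s z : F, s * s = ((d - a) * (d - a) + 4 * b * c) * (z * z) +
      (-2 * c * τ * (a + d - 2)) * z + (c * c * τ * τ - 4 * c * c) := by
    by_cases hA2 : (d - a) * (d - a) + 4 * b * c = 0
    · have hA1 : -2 * c * τ * (a + d - 2) ≠ 0 := by
        apply mul_ne_zero (mul_ne_zero (mul_ne_zero (neg_ne_zero.mpr h2) hc) hτ)
        exact sub_ne_zero.mpr hT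
      refine ⟨0, -(c * c * τ * τ - 4 * c * c) / (-2 * c * τ * (a + d - 2)), ?_⟩
      rw [hA2]
      field_simp
      ring
    · exact exists_sq_eq_quadratic h2 _ _ _ hA2
  obtain ⟨s, z, hsz⟩ := hsz
  have h2c : 2 * c ≠ 0 := mul_ne_zero h2 hc
  obtain ⟨x, hx⟩ : ∃ x : F, x = (c * τ - (d - a) * z + s) / (2 * c) := ⟨_, rfl⟩
  have hx' : 2 * c * x = c * τ - (d - a) * z + s := by
    rw [hx]
    field_simp
  obtain ⟨y, hy⟩ : ∃ y : F, y = ((τ - x) * a - z * b + x * d - τ) / c := ⟨_, rfl⟩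
  have hy' : c * y = (τ - x) * a - z * b + x * d - τ := by
    rw [hy]
    field_simp
  have hE : c * x * x + ((d - a) * z - c * τ) * x + (-b * (z * z) + τ * (a - 1) * z + c) = 0 := by
    have h4c : 4 * c ≠ 0 := by
      have : (4 : F) * c = 2 * (2 * c) := by ring
      rw [this]
      exact mul_ne_zero h2 h2c
    apply (mul_right_injective₀ h4c)
    simp only [mul_zero]
    have e1 : 2 * c * x + ((d - a) * z - c * τ) - s = 0 := by linear_combination hx'
    linear_combination (2 * c * x + ((d - a) * z - c * τ) + s) * e1 + hsz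
  obtain ⟨Y₁, hY₁⟩ : ∃ Y₁ : Matrix.SpecialLinearGroup (Fin 2) F, Y₁.1 = !![x, y; z, τ - x] := by
    refine ⟨⟨_, ?_⟩, rfl⟩
    rw [det_fin_two]
    simp
    apply (mul_right_injective₀ hc)
    simp only
    linear_combination -hE - z * hy'
  refine ⟨Y₁, Y₁⁻¹ * T, by group, ?_, ?_⟩
  · rw [hY₁]
    simp [Matrix.trace_fin_two]
  · rw [Matrix.SpecialLinearGroup.coe_mul, Matrix.SpecialLinearGroup.coe_inv, hY₁, hTm,
      adjugate_fin_two]
    simp only [Matrix.trace_fin_two, Matrix.mul_apply, Fin.sum_univ_two]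
    simp
    linear_combination -hy'

/-- negation in `SL₂` -/
theorem exists_neg (A : Matrix.SpecialLinearGroup (Fin 2) F) :
    ∃ T : Matrix.SpecialLinearGroup (Fin 2) F, T.1 = -A.1 ∧
      (QuotientGroup.mk T : Matrix.ProjectiveSpecialLinearGroup (Fin 2) F) = QuotientGroup.mk A := by
  obtain ⟨T, hT⟩ : ∃ T : Matrix.SpecialLinearGroup (Fin 2) F, T.1 = -A.1 := by
    refine ⟨⟨_, ?_⟩, rfl⟩
    have := sl2_det_entries A
    rw [det_fin_two]
    simp
    linear_combination this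
  refine ⟨T, hT, ?_⟩
  rw [QuotientGroup.eq]
  rw [sl2_mem_center_iff]
  right
  rw [Matrix.SpecialLinearGroup.coe_mul, Matrix.SpecialLinearGroup.coe_inv, hT]
  have h1 : (A.1).adjugate * A.1 = 1 := by
    rw [Matrix.adjugate_mul, A.det_coe, one_smul]
  have h3 : (A.1) * (A.1).adjugate = 1 := by
    rw [Matrix.mul_adjugate, A.det_coe, one_smul]
  have : (-A.1).adjugate * A.1 = -1 := by
    have e : (-A.1).adjugate = -(A.1).adjugate := by
      rw [adjugate_fin_two, adjugate_fin_two]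
      ext i j
      fin_cases i <;> fin_cases j <;> simp
    rw [e, Matrix.neg_mul, h1]
  exact this

/-- In `PSL₂` over a finite field of odd order: if `X` has trace `τ` with `τ ≠ 0`, `τ² ≠ 4`, every
non-identity element is a product of two conjugates of the image of `X`. -/
theorem psl2_odd_class_product [Fintype F] (h2 : (2 : F) ≠ 0)
    (X : Matrix.SpecialLinearGroup (Fin 2) F) (hτ0 : X.1.trace ≠ 0)
    (hτ : X.1.trace * X.1.trace ≠ 4) (G : Matrix.SpecialLinearGroup (Fin 2) F)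
    (hG : G ∉ Subgroup.center (Matrix.SpecialLinearGroup (Fin 2) F)) :
    ∃ u v : Matrix.ProjectiveSpecialLinearGroup (Fin 2) F,
      (QuotientGroup.mk G : Matrix.ProjectiveSpecialLinearGroup (Fin 2) F) =
        (u * QuotientGroup.mk X * u⁻¹) * (v * QuotientGroup.mk X * v⁻¹) := by
  obtain ⟨W, hW⟩ := exists_conj_ne_zero G hG
  obtain ⟨G₁, hG₁⟩ : ∃ G₁ : Matrix.SpecialLinearGroup (Fin 2) F, G₁ = W * G * W⁻¹ := ⟨_, rfl⟩
  rw [← hG₁] at hW
  have hT : ∃ T : Matrix.SpecialLinearGroup (Fin 2) F, T.1 1 0 ≠ 0 ∧ T.1.trace ≠ 2 ∧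
      (QuotientGroup.mk T : Matrix.ProjectiveSpecialLinearGroup (Fin 2) F) = QuotientGroup.mk G₁ := by
    by_cases ht : G₁.1.trace = 2
    · obtain ⟨T, hT, hTm⟩ := exists_neg G₁
      refine ⟨T, ?_, ?_, hTm⟩
      · rw [hT]
        simpa using hW
      · rw [hT, Matrix.trace_neg, ht]
        intro h
        have h4 : (4 : F) = 0 := by linear_combination -h
        have : (4 : F) = 2 * 2 := by norm_num
        rw [this] at h4
        exact mul_ne_zero h2 h2 h4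
    · exact ⟨G₁, hW, ht, rfl⟩
  obtain ⟨T, hTc, hTt, hTm⟩ := hT
  obtain ⟨Y₁, Y₂, hY, h1, h2'⟩ := exists_factor_trace h2 T hTc hTt X.1.trace hτ0
  obtain ⟨P₁, hP₁⟩ := conj_of_trace_eq h2 X Y₁ hτ h1
  obtain ⟨P₂, hP₂⟩ := conj_of_trace_eq h2 X Y₂ hτ h2'
  refine ⟨QuotientGroup.mk (W⁻¹ * P₁), QuotientGroup.mk (W⁻¹ * P₂), ?_⟩
  have e : G = W⁻¹ * G₁ * W := by rw [hG₁]; group
  rw [e, QuotientGroup.mk_mul, QuotientGroup.mk_mul, ← hTm, ← hY, ← hP₁, ← hP₂]
  simp only [QuotientGroup.mk_mul, QuotientGroup.mk_inv]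
  group

end Cfsg.Agent.Lib.Helper41
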