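import Cfsg.Agent.Lib.Helper41.SL2Cent
import Cfsg.Agent.Lib.Helper41.SL2Odd

set_option autoImplicit false

namespace Cfsg.Agent.Lib.Helper41

open Matrix

variable {F : Type*} [Field F] [Fintype F]

/-- split case, any characteristic -/
theorem card_conic_split' {τ l : F} (hl : l * l - τ * l + 1 = 0) (hl2 : l * l ≠ 1) :
    Nat.card (conic τ) = Fintype.card F - 1 := by
  have hl0 : l ≠ 0 := by
    rintro rfl
    simp at hl
  obtain ⟨m, hm⟩ : ∃ m : F, l * m = 1 := ⟨l⁻¹, mul_inv_cancel₀ hl0⟩
  have hτ : τ = l + m := by
    have h1 : τ * l = l * l + 1 := by linear_combination -hl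
    calc τ = (τ * l) * m := by rw [mul_assoc, hm, mul_one]
      _ = l + m := by rw [h1]; linear_combination l * hm
  have hlm : l - m ≠ 0 := by
    intro h
    apply hl2
    linear_combination l * h + hm
  have hprod : ∀ a b : F, (a + l * b) * (a + m * b) = a * a + τ * a * b + b * b := by
    intro a b
    linear_combination (-(a * b)) * hτ + (b * b) * hm
  have hne : ∀ p : conic τ, p.1.1 + l * p.1.2 ≠ 0 := by
    intro p h0
    have h1 := hprod p.1.1 p.1.2
    rw [h0, zero_mul, (mem_conic τ p.1).mp p.2] at h1
    exact zero_ne_one h1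
  rw [← Nat.card_eq_fintype_card, ← Nat.card_units]
  apply Nat.card_congr
  refine Equiv.ofBijective (fun p : conic τ => Units.mk0 (p.1.1 + l * p.1.2) (hne p)) ⟨?_, ?_⟩
  · rintro ⟨⟨a, b⟩, hp⟩ ⟨⟨a', b'⟩, hp'⟩ hpp
    have h1 : a + l * b = a' + l * b' := congrArg Units.val hpp
    rw [mem_conic] at hp hp'
    simp only at hp hp'
    have h3 := hprod a b
    have h4 := hprod a' b'
    rw [hp] at h3
    rw [hp'] at h4
    have hu : a + l * b ≠ 0 := by
      intro h0
      rw [h0, zero_mul] at h3
      exact zero_ne_one h3
    have h5 : a + m * b = a' + m * b' := by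
      apply mul_left_cancel₀ hu
      rw [h3, h1, h4]
    have hb : b = b' := by
      have : (l - m) * (b - b') = 0 := by linear_combination h1 - h5
      rcases mul_eq_zero.mp this with h | h
      · exact absurd h hlm
      · linear_combination h
    have ha : a = a' := by
      rw [hb] at h1
      exact add_right_cancel h1
    apply Subtype.ext
    simp only [ha, hb]
  · intro u
    obtain ⟨b, hb⟩ : ∃ b : F, (l - m) * b = (u : F) - ((u⁻¹ : Fˣ) : F) :=
      ⟨_, mul_div_cancel₀ _ hlm⟩
    obtain ⟨a, ha⟩ : ∃ a : F, a = (u : F) - l * b := ⟨_, rfl⟩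
    have e1 : a + l * b = u := by rw [ha]; ring
    have e2 : a + m * b = ((u⁻¹ : Fˣ) : F) := by
      rw [ha]
      linear_combination -hb
    have hmem : (a, b) ∈ conic τ := by
      rw [mem_conic]
      simp only
      rw [← hprod, e1, e2, ← Units.val_mul, mul_inv_cancel, Units.val_one]
    refine ⟨⟨(a, b), hmem⟩, ?_⟩
    apply Units.ext
    exact e1

/-- trace `±2`, odd characteristic: the conic is a pair of lines -/
theorem card_conic_unipotent (h2 : (2 : F) ≠ 0) {τ : F} (hτ : τ * τ = 4) :
    Nat.card (conic τ) = 2 * Fintype.card F := by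
  obtain ⟨ε, hε⟩ : ∃ ε : F, 2 * ε = τ := ⟨τ / 2, mul_div_cancel₀ _ h2⟩
  have hε2 : ε * ε = 1 := by
    have h4 : (4 : F) ≠ 0 := by
      have : (4 : F) = 2 * 2 := by norm_num
      rw [this]
      exact mul_ne_zero h2 h2
    apply mul_left_cancel₀ h4
    rw [← hε] at hτ
    linear_combination hτ
  have hform : ∀ a b : F, a * a + τ * a * b + b * b = (a + ε * b) * (a + ε * b) := by
    intro a b
    rw [← hε]
    linear_combination (-(b * b)) * hε2
  have h11 : (1 : F) ≠ -1 := by
    intro h
    apply h2
    linear_combination h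
  have hmem : ∀ x : F × Bool, ((if x.2 then (1 : F) else -1) - ε * x.1, x.1) ∈ conic τ := by
    rintro ⟨b, s⟩
    rw [mem_conic, hform]
    cases s <;> simp
  have hcard : Nat.card (F × Bool) = 2 * Fintype.card F := by
    rw [Nat.card_prod, Nat.card_eq_fintype_card, Nat.card_eq_fintype_card, Fintype.card_bool,
      mul_comm]
  rw [← hcard]
  symm
  apply Nat.card_congr
  refine Equiv.ofBijective (fun x : F × Bool => (⟨_, hmem x⟩ : conic τ)) ⟨?_, ?_⟩
  · rintro ⟨b, s⟩ ⟨b', s'⟩ hxx
    have h0 := congrArg Subtype.val hxx
    have hb : b = b' := congrArg Prod.snd h0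
    have ha : (if s then (1 : F) else -1) - ε * b = (if s' then (1 : F) else -1) - ε * b' :=
      congrArg Prod.fst h0
    rw [hb] at ha
    have hs : (if s then (1 : F) else -1) = (if s' then (1 : F) else -1) := sub_left_injective ha
    have hs' : s = s' := by
      cases s <;> cases s' <;> simp at hs ⊢
      · exact h11 hs.symm
      · exact h11 hs
    rw [hb, hs']
  · rintro ⟨⟨a, b⟩, hp⟩
    rw [mem_conic, hform] at hp
    simp only at hp
    have h1 : (a + ε * b - 1) * (a + ε * b + 1) = 0 := by linear_combination hp
    rcases mul_eq_zero.mp h1 with h | h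
    · refine ⟨(b, true), ?_⟩
      apply Subtype.ext
      simp only [if_true]
      rw [Prod.mk.injEq]
      exact ⟨by linear_combination -h, rfl⟩
    · refine ⟨(b, false), ?_⟩
      apply Subtype.ext
      simp only [Bool.false_eq_true, if_false]
      rw [Prod.mk.injEq]
      exact ⟨by linear_combination -h, rfl⟩

/-- non-split case, odd characteristic: rational parametrisation from the point `(1, 0)` -/
theorem card_conic_nonsplit' (h2 : (2 : F) ≠ 0) {τ : F} (hno : ∀ a : F, a * a - τ * a + 1 ≠ 0) :
    Nat.card (conic τ) = Fintype.card F + 1 := by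
  have hd : ∀ t : F, t * t + τ * t + 1 ≠ 0 := by
    intro t h
    apply hno (-t)
    linear_combination h
  have hmemN : ((-1 : F), (0 : F)) ∈ conic τ := by
    rw [mem_conic]
    simp
  have hmemS : ∀ t : F, (1 + (-(2 * t + τ) / (t * t + τ * t + 1)) * t,
      -(2 * t + τ) / (t * t + τ * t + 1)) ∈ conic τ := by
    intro t
    rw [mem_conic]
    simp only
    have hsd : (-(2 * t + τ) / (t * t + τ * t + 1)) * (t * t + τ * t + 1) = -(2 * t + τ) :=
      div_mul_cancel₀ _ (hd t)
    linear_combination (-(2 * t + τ) / (t * t + τ * t + 1)) * hsd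
  have hcard : Nat.card (Option F) = Fintype.card F + 1 := by
    rw [Nat.card_eq_fintype_card, Fintype.card_option]
  rw [← hcard]
  symm
  apply Nat.card_congr
  refine Equiv.ofBijective (fun x : Option F => match x with
    | none => (⟨_, hmemN⟩ : conic τ)
    | some t => (⟨_, hmemS t⟩ : conic τ)) ⟨?_, ?_⟩
  · intro x x' hxx
    have h0 := congrArg Subtype.val hxx
    rcases x with _ | t <;> rcases x' with _ | t'
    · rfl
    · exfalso
      simp only at h0
      have h1 : (0 : F) = -(2 * t' + τ) / (t' * t' + τ * t' + 1) := congrArg Prod.snd h0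
      have h3 : (-1 : F) = 1 + (-(2 * t' + τ) / (t' * t' + τ * t' + 1)) * t' :=
        congrArg Prod.fst h0
      rw [← h1] at h3
      apply h2
      linear_combination -h3
    · exfalso
      simp only at h0
      have h1 : -(2 * t + τ) / (t * t + τ * t + 1) = (0 : F) := congrArg Prod.snd h0
      have h3 : 1 + (-(2 * t + τ) / (t * t + τ * t + 1)) * t = (-1 : F) :=
        congrArg Prod.fst h0
      rw [h1] at h3
      apply h2
      linear_combination h3
    · simp only at h0
      have h1 : -(2 * t + τ) / (t * t + τ * t + 1) = -(2 * t' + τ) / (t' * t' + τ * t' + 1) :=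
        congrArg Prod.snd h0
      have h3 : 1 + (-(2 * t + τ) / (t * t + τ * t + 1)) * t =
          1 + (-(2 * t' + τ) / (t' * t' + τ * t' + 1)) * t' := congrArg Prod.fst h0
      rw [← h1] at h3
      have h4 : (-(2 * t + τ) / (t * t + τ * t + 1)) * (t - t') = 0 := by linear_combination h3
      rcases mul_eq_zero.mp h4 with h | h
      · rw [h] at h1
        have e1 : 2 * t + τ = 0 := by
          have := (div_eq_zero_iff.mp h).resolve_right (hd t)
          linear_combination -this
        have e2 : 2 * t' + τ = 0 := by
          have := (div_eq_zero_iff.mp h1.symm).resolve_right (hd t')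
          linear_combination -this
        have : 2 * (t - t') = 0 := by linear_combination e1 - e2
        have := (mul_eq_zero.mp this).resolve_left h2
        congr 1
        linear_combination this
      · congr 1
        linear_combination h
  · rintro ⟨⟨a, b⟩, hp⟩
    rw [mem_conic] at hp
    simp only at hp
    by_cases hb : b = 0
    · rw [hb] at hp
      have h1 : (a - 1) * (a + 1) = 0 := by linear_combination hp
      rcases mul_eq_zero.mp h1 with h | h
      · refine ⟨some (-τ / 2), ?_⟩
        apply Subtype.ext
        simp only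
        have e : -(2 * (-τ / 2) + τ) = 0 := by
          field_simp
          ring
        rw [e, zero_div, zero_mul, add_zero, hb, Prod.mk.injEq]
        exact ⟨by linear_combination -h, rfl⟩
      · refine ⟨none, ?_⟩
        apply Subtype.ext
        simp only
        rw [hb, Prod.mk.injEq]
        exact ⟨by linear_combination -h, rfl⟩
    · obtain ⟨t, ht⟩ : ∃ t : F, b * t = a - 1 := ⟨(a - 1) / b, mul_div_cancel₀ _ hb⟩
      have hs : -(2 * t + τ) / (t * t + τ * t + 1) = b := by
        rw [div_eq_iff (hd t)]
        have ha : a = 1 + b * t := by linear_combination -ht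
        rw [ha] at hp
        have : b * (2 * t + τ + b * (t * t + τ * t + 1)) = 0 := by linear_combination hp
        have := (mul_eq_zero.mp this).resolve_left hb
        linear_combination -this
      refine ⟨some t, ?_⟩
      apply Subtype.ext
      simp only
      rw [hs, Prod.mk.injEq]
      exact ⟨by linear_combination ht, rfl⟩

end Cfsg.Agent.Lib.Helper41
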