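import Cfsg.Agent.Lib.Helper41.SL2Quart
import Cfsg.Agent.Lib.Helper41.SL2CentOdd
import Cfsg.Agent.Lib.Helper41.Dicyclic

set_option autoImplicit false

namespace Cfsg.Agent.Lib.Helper41

open Matrix

variable {F : Type*} [Field F]

/-- the inverse of an element of `SL₂` is `tr - x` -/
theorem sl2_inv_coe (x : Matrix.SpecialLinearGroup (Fin 2) F) :
    (x⁻¹).1 = x.1.trace • (1 : Matrix (Fin 2) (Fin 2) F) - x.1 := by
  rw [Matrix.SpecialLinearGroup.coe_inv, Matrix.adjugate_fin_two]
  ext i j
  fin_cases i <;> fin_cases j <;> simp [Matrix.trace_fin_two]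

theorem trace_inv (x : Matrix.SpecialLinearGroup (Fin 2) F) : (x⁻¹).1.trace = x.1.trace := by
  rw [sl2_inv_coe]
  simp [Matrix.trace_fin_two]
  ring

/-- the centralizer of a noncentral element is abelian -/
theorem centralizer_comm (x : Matrix.SpecialLinearGroup (Fin 2) F)
    (hx : x ∉ Subgroup.center (Matrix.SpecialLinearGroup (Fin 2) F))
    (g h : Matrix.SpecialLinearGroup (Fin 2) F)
    (hg : g ∈ Subgroup.centralizer ({x} : Set (Matrix.SpecialLinearGroup (Fin 2) F)))
    (hh : h ∈ Subgroup.centralizer ({x} : Set (Matrix.SpecialLinearGroup (Fin 2) F))) :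
    g * h = h * g := by
  rw [Subgroup.mem_centralizer_singleton_iff] at hg hh
  apply Subtype.ext
  rw [Matrix.SpecialLinearGroup.coe_mul, Matrix.SpecialLinearGroup.coe_mul]
  apply commute_of_commute_nonscalar (nonscalar_of_not_mem_center x hx)
  · rw [← Matrix.SpecialLinearGroup.coe_mul, hg, Matrix.SpecialLinearGroup.coe_mul]
  · rw [← Matrix.SpecialLinearGroup.coe_mul, hh, Matrix.SpecialLinearGroup.coe_mul]

/-- a noncentral element of the centralizer of a noncentral element has the same centralizer -/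
theorem centralizer_eq_of_mem (x y : Matrix.SpecialLinearGroup (Fin 2) F)
    (hx : x ∉ Subgroup.center (Matrix.SpecialLinearGroup (Fin 2) F))
    (hy : y ∉ Subgroup.center (Matrix.SpecialLinearGroup (Fin 2) F))
    (hyx : y ∈ Subgroup.centralizer ({x} : Set (Matrix.SpecialLinearGroup (Fin 2) F))) :
    Subgroup.centralizer ({y} : Set (Matrix.SpecialLinearGroup (Fin 2) F)) =
      Subgroup.centralizer ({x} : Set (Matrix.SpecialLinearGroup (Fin 2) F)) := by
  have hxy : x ∈ Subgroup.centralizer ({y} : Set (Matrix.SpecialLinearGroup (Fin 2) F)) := by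
    rw [Subgroup.mem_centralizer_singleton_iff] at hyx ⊢
    exact hyx.symm
  ext g
  constructor
  · intro hg
    rw [Subgroup.mem_centralizer_singleton_iff]
    exact centralizer_comm y hy g x hg hxy
  · intro hg
    rw [Subgroup.mem_centralizer_singleton_iff]
    exact centralizer_comm x hx g y hg hyx

theorem negOne_mem_centralizer (x : Matrix.SpecialLinearGroup (Fin 2) F) :
    negOne ∈ Subgroup.centralizer ({x} : Set (Matrix.SpecialLinearGroup (Fin 2) F)) := by
  rw [Subgroup.mem_centralizer_singleton_iff]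
  apply Subtype.ext
  rw [Matrix.SpecialLinearGroup.coe_mul, Matrix.SpecialLinearGroup.coe_mul, negOne_coe]
  simp

theorem conj_eq_iff_mem_centralizer (x g : Matrix.SpecialLinearGroup (Fin 2) F) :
    g ∈ Subgroup.centralizer ({x} : Set (Matrix.SpecialLinearGroup (Fin 2) F)) ↔
      g * x * g⁻¹ = x := by
  rw [Subgroup.mem_centralizer_singleton_iff]
  constructor
  · intro h
    rw [h]
    group
  · intro h
    nth_rewrite 2 [← h]
    group

/-- an element inverting a regular element has trace zero -/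
theorem trace_zero_of_inverting (x g : Matrix.SpecialLinearGroup (Fin 2) F)
    (hτ : x.1.trace * x.1.trace ≠ 4) (h : g * x * g⁻¹ = x⁻¹) : g.1.trace = 0 := by
  have h1 : g * x = x⁻¹ * g := by
    rw [← h]
    group
  have h2 : g.1 * x.1 = (x.1.trace • (1 : Matrix (Fin 2) (Fin 2) F) - x.1) * g.1 := by
    rw [← sl2_inv_coe, ← Matrix.SpecialLinearGroup.coe_mul, ← Matrix.SpecialLinearGroup.coe_mul, h1]
  have hns := not_scalar_of_trace_sq x hτ
  have e00 := congrFun (congrFun h2 0) 0
  have e01 := congrFun (congrFun h2 0) 1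
  have e10 := congrFun (congrFun h2 1) 0
  have e11 := congrFun (congrFun h2 1) 1
  simp only [Matrix.mul_apply, Fin.sum_univ_two, Matrix.sub_apply, Matrix.smul_apply,
    Matrix.one_apply_eq, Matrix.one_apply_ne, Matrix.trace_fin_two, smul_eq_mul, ne_eq,
    Fin.isValue, not_false_eq_true, zero_ne_one, one_ne_zero, mul_one, mul_zero] at e00 e01 e10 e11
  rw [Matrix.trace_fin_two]
  rcases nonscalar_cases hns with hc | hc | hc
  · have : (g.1 0 0 + g.1 1 1) * x.1 0 1 = 0 := by linear_combination e01
    rcases mul_eq_zero.mp this with h' | h'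
    · exact h'
    · exact absurd h' hc
  · have : (g.1 0 0 + g.1 1 1) * x.1 1 0 = 0 := by linear_combination e10
    rcases mul_eq_zero.mp this with h' | h'
    · exact h'
    · exact absurd h' hc
  · have : (g.1 0 0 + g.1 1 1) * (x.1 0 0 - x.1 1 1) = 0 := by linear_combination e00 - e11
    rcases mul_eq_zero.mp this with h' | h'
    · exact h'
    · exact absurd (sub_eq_zero.mp h') hc

/-- an element inverting a noncentral element inverts its centralizer -/
theorem inv_conj_of_mem (x g t : Matrix.SpecialLinearGroup (Fin 2) F)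
    (hx : x ∉ Subgroup.center (Matrix.SpecialLinearGroup (Fin 2) F))
    (h : g * x * g⁻¹ = x⁻¹)
    (ht : t ∈ Subgroup.centralizer ({x} : Set (Matrix.SpecialLinearGroup (Fin 2) F))) :
    g * t * g⁻¹ = t⁻¹ := by
  rw [Subgroup.mem_centralizer_singleton_iff] at ht
  have ht' : t.1 * x.1 = x.1 * t.1 := by
    rw [← Matrix.SpecialLinearGroup.coe_mul, ht, Matrix.SpecialLinearGroup.coe_mul]
  obtain ⟨⟨a, b⟩, hp⟩ := comm_form (nonscalar_of_not_mem_center x hx) ht'
  simp only at hp
  have hgg : g.1 * (g⁻¹).1 = 1 := by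
    rw [← Matrix.SpecialLinearGroup.coe_mul, mul_inv_cancel]
    rfl
  have e1 : (g * t * g⁻¹).1 = scalar (Fin 2) a + b • (g * x * g⁻¹).1 := by
    simp only [Matrix.SpecialLinearGroup.coe_mul]
    rw [hp, scalar_eq_smul_one]
    simp only [Matrix.mul_add, Matrix.add_mul, Matrix.mul_smul, Matrix.smul_mul, Matrix.mul_one]
    rw [hgg]
  apply Subtype.ext
  rw [e1, h, sl2_inv_coe, sl2_inv_coe, hp, scalar_eq]
  ext i j
  fin_cases i <;> fin_cases j <;> simp [Matrix.trace_fin_two] <;> ring

section finite

variable [Fintype F]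

/-- the normalizer of the centralizer of a regular element -/
theorem mem_normalizer_centralizer_iff (h2 : (2 : F) ≠ 0)
    (x : Matrix.SpecialLinearGroup (Fin 2) F) (hτ : x.1.trace * x.1.trace ≠ 4)
    (g : Matrix.SpecialLinearGroup (Fin 2) F) :
    g ∈ Subgroup.normalizer
      (Subgroup.centralizer ({x} : Set (Matrix.SpecialLinearGroup (Fin 2) F)) :
        Set (Matrix.SpecialLinearGroup (Fin 2) F)) ↔
      (g * x * g⁻¹ = x ∨ g * x * g⁻¹ = x⁻¹) := by
  have hx := not_mem_center_of_trace h2 x hτ
  have hxx : x ∈ Subgroup.centralizer ({x} : Set (Matrix.SpecialLinearGroup (Fin 2) F)) := by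
    rw [Subgroup.mem_centralizer_singleton_iff]
  constructor
  · intro hg
    have hmem : g * x * g⁻¹ ∈
        Subgroup.centralizer ({x} : Set (Matrix.SpecialLinearGroup (Fin 2) F)) :=
      (Subgroup.mem_normalizer_iff.mp hg x).mp hxx
    apply regular_conj_cases h2 x (g * x * g⁻¹) hτ
    · rw [trace_conj]
    · exact Subgroup.mem_centralizer_singleton_iff.mp hmem
  · intro h
    apply Subgroup.mem_normalizer_fintype
    intro n hn
    rw [SetLike.mem_coe] at hn ⊢
    have hn' : g * n * g⁻¹ ∈ Subgroup.centralizer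
        ({g * x * g⁻¹} : Set (Matrix.SpecialLinearGroup (Fin 2) F)) := by
      rw [Subgroup.mem_centralizer_singleton_iff] at hn ⊢
      calc g * n * g⁻¹ * (g * x * g⁻¹) = g * (n * x) * g⁻¹ := by group
        _ = g * (x * n) * g⁻¹ := by rw [hn]
        _ = g * x * g⁻¹ * (g * n * g⁻¹) := by group
    rcases h with h | h
    · rw [h] at hn'
      exact hn'
    · rw [h] at hn'
      rw [Subgroup.mem_centralizer_singleton_iff] at hn' ⊢
      have hcm : Commute (g * n * g⁻¹) x⁻¹ := hn'
      exact (Commute.inv_right_iff.mp hcm).eq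

/-- some element inverts a given regular element -/
theorem exists_inverting (h2 : (2 : F) ≠ 0)
    (x : Matrix.SpecialLinearGroup (Fin 2) F) (hτ : x.1.trace * x.1.trace ≠ 4) :
    ∃ w : Matrix.SpecialLinearGroup (Fin 2) F, w * x * w⁻¹ = x⁻¹ :=
  conj_of_trace_eq h2 x x⁻¹ hτ (trace_inv x)

omit [Fintype F] in
theorem inv_ne_self_of_regular (h2 : (2 : F) ≠ 0)
    (x : Matrix.SpecialLinearGroup (Fin 2) F) (hτ : x.1.trace * x.1.trace ≠ 4) : x⁻¹ ≠ x := by
  intro h
  have hxx : x * x = 1 := by
    nth_rewrite 1 [← h]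
    group
  apply not_mem_center_of_trace h2 x hτ
  rw [sl2_mem_center_iff]
  rcases sq_eq_one_cases h2 x hxx with h' | h'
  · left
    rw [h']
    rfl
  · right
    rw [h']
    rfl

theorem centralizer_le_normalizer_centralizer (h2 : (2 : F) ≠ 0)
    (x : Matrix.SpecialLinearGroup (Fin 2) F) (hτ : x.1.trace * x.1.trace ≠ 4) :
    Subgroup.centralizer ({x} : Set (Matrix.SpecialLinearGroup (Fin 2) F)) ≤
      Subgroup.normalizer
        (Subgroup.centralizer ({x} : Set (Matrix.SpecialLinearGroup (Fin 2) F)) :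
          Set (Matrix.SpecialLinearGroup (Fin 2) F)) := by
  intro g hg
  rw [mem_normalizer_centralizer_iff h2 x hτ]
  left
  exact (conj_eq_iff_mem_centralizer x g).mp hg

/-- the torus has index two in its normalizer -/
theorem index_centralizer_subgroupOf_normalizer (h2 : (2 : F) ≠ 0)
    (x : Matrix.SpecialLinearGroup (Fin 2) F) (hτ : x.1.trace * x.1.trace ≠ 4) :
    ((Subgroup.centralizer ({x} : Set (Matrix.SpecialLinearGroup (Fin 2) F))).subgroupOf
      (Subgroup.normalizer
        (Subgroup.centralizer ({x} : Set (Matrix.SpecialLinearGroup (Fin 2) F)) :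
          Set (Matrix.SpecialLinearGroup (Fin 2) F)))).index = 2 := by
  obtain ⟨w, hw⟩ := exists_inverting h2 x hτ
  have hXi := inv_ne_self_of_regular h2 x hτ
  rw [Subgroup.index_eq_two_iff]
  refine ⟨⟨w, (mem_normalizer_centralizer_iff h2 x hτ w).mpr (Or.inr hw)⟩, ?_⟩
  rintro ⟨b, hb⟩
  rw [Subgroup.mem_subgroupOf, Subgroup.mem_subgroupOf]
  simp only [Subgroup.coe_mul]
  rw [conj_eq_iff_mem_centralizer, conj_eq_iff_mem_centralizer]
  have e : b * w * x * (b * w)⁻¹ = b * (w * x * w⁻¹) * b⁻¹ := by group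
  rw [e, hw]
  rcases (mem_normalizer_centralizer_iff h2 x hτ b).mp hb with h | h
  · right
    refine ⟨h, ?_⟩
    intro h'
    apply hXi
    have : b * x⁻¹ * b⁻¹ = (b * x * b⁻¹)⁻¹ := by group
    rw [this, h] at h'
    exact h'
  · left
    refine ⟨?_, ?_⟩
    · have : b * x⁻¹ * b⁻¹ = (b * x * b⁻¹)⁻¹ := by group
      rw [this, h, inv_inv]
    · rw [h]
      exact hXi

/-- the normalizer of the torus has twice its order -/
theorem card_normalizer_centralizer (h2 : (2 : F) ≠ 0)
    (x : Matrix.SpecialLinearGroup (Fin 2) F) (hτ : x.1.trace * x.1.trace ≠ 4) :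
    Nat.card (Subgroup.normalizer
        (Subgroup.centralizer ({x} : Set (Matrix.SpecialLinearGroup (Fin 2) F)) :
          Set (Matrix.SpecialLinearGroup (Fin 2) F))) =
      2 * Nat.card (Subgroup.centralizer ({x} : Set (Matrix.SpecialLinearGroup (Fin 2) F))) := by
  have hcard := Subgroup.index_mul_card
    ((Subgroup.centralizer ({x} : Set (Matrix.SpecialLinearGroup (Fin 2) F))).subgroupOf
      (Subgroup.normalizer
        (Subgroup.centralizer ({x} : Set (Matrix.SpecialLinearGroup (Fin 2) F)) :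
          Set (Matrix.SpecialLinearGroup (Fin 2) F))))
  rw [index_centralizer_subgroupOf_normalizer h2 x hτ, Nat.card_congr (Subgroup.subgroupOfEquivOfLe
    (centralizer_le_normalizer_centralizer h2 x hτ)).toEquiv] at hcard
  exact hcard.symm

/-- elements of the normalizer outside the torus have square `-1` -/
theorem sq_of_mem_normalizer_of_not_mem (h2 : (2 : F) ≠ 0)
    (x : Matrix.SpecialLinearGroup (Fin 2) F) (hτ : x.1.trace * x.1.trace ≠ 4)
    (g : Matrix.SpecialLinearGroup (Fin 2) F)
    (hg : g ∈ Subgroup.normalizer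
        (Subgroup.centralizer ({x} : Set (Matrix.SpecialLinearGroup (Fin 2) F)) :
          Set (Matrix.SpecialLinearGroup (Fin 2) F)))
    (hgn : g ∉ Subgroup.centralizer ({x} : Set (Matrix.SpecialLinearGroup (Fin 2) F))) :
    (g * g).1 = -1 := by
  rcases (mem_normalizer_centralizer_iff h2 x hτ g).mp hg with h | h
  · exact absurd ((conj_eq_iff_mem_centralizer x g).mpr h) hgn
  · rw [Matrix.SpecialLinearGroup.coe_mul]
    exact sq_of_trace_zero g (trace_zero_of_inverting x g hτ h)

/-- class number of the normalizer of the torus -/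
theorem card_conjClasses_normalizer_centralizer (h2 : (2 : F) ≠ 0)
    (x : Matrix.SpecialLinearGroup (Fin 2) F) (hτ : x.1.trace * x.1.trace ≠ 4) :
    2 * Nat.card (ConjClasses (Subgroup.normalizer
        (Subgroup.centralizer ({x} : Set (Matrix.SpecialLinearGroup (Fin 2) F)) :
          Set (Matrix.SpecialLinearGroup (Fin 2) F)))) =
      Nat.card (Subgroup.centralizer ({x} : Set (Matrix.SpecialLinearGroup (Fin 2) F))) + 6 := by
  have hx := not_mem_center_of_trace h2 x hτ
  have hle := centralizer_le_normalizer_centralizer h2 x hτ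
  have key := dicyclic_card_conjClasses
    ((Subgroup.centralizer ({x} : Set (Matrix.SpecialLinearGroup (Fin 2) F))).subgroupOf
      (Subgroup.normalizer
        (Subgroup.centralizer ({x} : Set (Matrix.SpecialLinearGroup (Fin 2) F)) :
          Set (Matrix.SpecialLinearGroup (Fin 2) F))))
    ⟨negOne, hle (negOne_mem_centralizer x)⟩ ?_ ?_ ?_ ?_
    (index_centralizer_subgroupOf_normalizer h2 x hτ) ?_ ?_
  · rw [key, Nat.card_congr (Subgroup.subgroupOfEquivOfLe hle).toEquiv]
  · intro h
    apply negOne_ne_one h2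
    exact congrArg Subtype.val h
  · rw [Subgroup.mem_subgroupOf]
    exact negOne_mem_centralizer x
  · apply Subtype.ext
    exact negOne_mul_self
  · rintro ⟨a, ha⟩ ha' ⟨b, hb⟩ hb'
    rw [Subgroup.mem_subgroupOf] at ha' hb'
    apply Subtype.ext
    exact centralizer_comm x hx a b ha' hb'
  · rintro ⟨g, hg⟩ hgn ⟨t, ht⟩ ht'
    rw [Subgroup.mem_subgroupOf] at hgn ht'
    apply Subtype.ext
    simp only [Subgroup.coe_mul, Subgroup.coe_inv]
    rcases (mem_normalizer_centralizer_iff h2 x hτ g).mp hg with h | h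
    · exact absurd ((conj_eq_iff_mem_centralizer x g).mpr h) hgn
    · exact inv_conj_of_mem x g t hx h ht'
  · rintro ⟨t, ht⟩ _ htt
    have htt' : t * t = 1 := congrArg Subtype.val htt
    rcases sq_eq_one_cases h2 t htt' with h | h
    · left
      exact Subtype.ext h
    · right
      exact Subtype.ext h

end finite

end Cfsg.Agent.Lib.Helper41
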