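import Mathlib
import Cfsg.Agent.Lib.Helper41.SL2Torus
import Cfsg.Agent.Lib.Helper41.SL2OddOrder

set_option autoImplicit false

namespace Cfsg.Agent.Lib.Helper41

open Matrix

variable {F : Type*} [Field F]

/-- characteristic-free: an element of the same trace commuting with a regular element is the
element or its inverse -/
theorem regular_comm_cases (x y : Matrix.SpecialLinearGroup (Fin 2) F)
    (hτ : x.1.trace * x.1.trace ≠ 4) (ht : y.1.trace = x.1.trace) (hc : y * x = x * y) :
    y = x ∨ y = x⁻¹ := by
  have hns := not_scalar_of_trace_sq x hτ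
  have hc' : y.1 * x.1 = x.1 * y.1 := by
    rw [← Matrix.SpecialLinearGroup.coe_mul, hc, Matrix.SpecialLinearGroup.coe_mul]
  obtain ⟨⟨a, b⟩, hp⟩ := comm_form hns hc'
  simp only at hp
  have hdet : a * a + x.1.trace * a * b + b * b = 1 := by
    rw [← det_scalar_add_smul x.1 x.det_coe a b, ← hp]
    exact y.det_coe
  have hty : y.1.trace = 2 * a + b * x.1.trace := by
    rw [hp, scalar_eq]
    simp [Matrix.trace_fin_two]
    ring
  have htr : 2 * a + b * x.1.trace = x.1.trace := by
    rw [← hty]
    exact ht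
  have hxinv := sl2_inv_coe x
  obtain ⟨τ, hτdef⟩ : ∃ τ, τ = x.1.trace := ⟨_, rfl⟩
  rw [← hτdef] at hdet htr hτ hxinv
  have key : (1 - b * b) * (τ * τ - 4) = 0 := by
    linear_combination 4 * hdet - (2 * a + (1 + b) * τ) * htr
  have hb : (1 - b) * (1 + b) = 0 := by
    have h4 : τ * τ - 4 ≠ 0 := sub_ne_zero.mpr hτ
    have h5 : 1 - b * b = 0 := (mul_eq_zero.mp key).resolve_right h4
    linear_combination h5
  have hy : y.1 = a • (1 : Matrix (Fin 2) (Fin 2) F) + b • x.1 := by
    rw [hp, scalar_eq_smul_one]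
  rcases mul_eq_zero.mp hb with hb1 | hb1
  · have hb' : b = 1 := by linear_combination -hb1
    subst hb'
    have h2a : 2 * a = 0 := by linear_combination htr
    have haa : a * (a + τ) = 0 := by linear_combination hdet
    by_cases ha0 : a = 0
    · left
      apply Subtype.ext
      rw [hy, ha0]
      simp
    · right
      have h2 : (2 : F) = 0 := (mul_eq_zero.mp h2a).resolve_right ha0
      have ha' : a + τ = 0 := (mul_eq_zero.mp haa).resolve_left ha0
      apply Subtype.ext
      rw [hy, hxinv]
      have e1 : a = τ := by linear_combination ha' - τ * h2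
      have e2 : x.1 = -x.1 := by
        have : (2 : F) • x.1 = 0 := by rw [h2, zero_smul]
        rw [two_smul] at this
        exact eq_neg_of_add_eq_zero_left this
      rw [e1, one_smul, sub_eq_add_neg, ← e2]
  · have hb' : b = -1 := by linear_combination hb1
    subst hb'
    have h2a : 2 * a = 2 * τ := by linear_combination htr
    have haa : a * (a - τ) = 0 := by linear_combination hdet
    by_cases haτ : a = τ
    · right
      apply Subtype.ext
      rw [hy, hxinv, haτ]
      simp [sub_eq_add_neg]
    · have ha0 : a = 0 := (mul_eq_zero.mp haa).resolve_right (sub_ne_zero.mpr haτ)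
      have h2τ : 2 * τ = 0 := by rw [← h2a, ha0, mul_zero]
      by_cases h2 : (2 : F) = 0
      · left
        apply Subtype.ext
        rw [hy, ha0]
        have e2 : x.1 = -x.1 := by
          have : (2 : F) • x.1 = 0 := by rw [h2, zero_smul]
          rw [two_smul] at this
          exact eq_neg_of_add_eq_zero_left this
        simp only [zero_smul, zero_add, neg_smul, one_smul]
        exact e2.symm
      · right
        have hτ0 : τ = 0 := (mul_eq_zero.mp h2τ).resolve_left h2
        apply Subtype.ext
        rw [hy, hxinv, ha0, hτ0]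
        simp

/-- characteristic-free: the centralizer of a regular element is cyclic -/
theorem isCyclic_centralizer_regular [Finite F] (x : Matrix.SpecialLinearGroup (Fin 2) F)
    (hτ : x.1.trace * x.1.trace ≠ 4) :
    IsCyclic (Subgroup.centralizer ({x} : Set (Matrix.SpecialLinearGroup (Fin 2) F))) := by
  classical
  have hns := not_scalar_of_trace_sq x hτ
  have hcay := cayley2_det_one x.det_coe
  obtain ⟨τ, hτdef⟩ : ∃ τ, τ = x.1.trace := ⟨_, rfl⟩
  rw [← hτdef] at hτ hcay
  obtain ⟨l, hl⟩ : ∃ l : AlgebraicClosure F,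
      l * l - algebraMap F (AlgebraicClosure F) τ * l + 1 = 0 := by
    have hdeg : (Polynomial.C (1 : AlgebraicClosure F) * Polynomial.X ^ 2 +
        Polynomial.C (-(algebraMap F (AlgebraicClosure F) τ)) * Polynomial.X +
        Polynomial.C 1).degree = 2 := Polynomial.degree_quadratic one_ne_zero
    obtain ⟨l, hl⟩ := IsAlgClosed.exists_root _ (by rw [hdeg]; norm_num)
    refine ⟨l, ?_⟩
    rw [Polynomial.IsRoot.def] at hl
    simp at hl
    linear_combination hl
  have hex : ∀ Y : Subgroup.centralizer ({x} : Set (Matrix.SpecialLinearGroup (Fin 2) F)),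
      ∃ p : F × F, Y.1.1 = scalar (Fin 2) p.1 + p.2 • x.1 := by
    intro Y
    have h := Y.2
    rw [Subgroup.mem_centralizer_singleton_iff] at h
    apply comm_form hns
    rw [← Matrix.SpecialLinearGroup.coe_mul, ← Matrix.SpecialLinearGroup.coe_mul, h]
  choose c hc using hex
  have hone : c 1 = (1, 0) := by
    have h1 := hc 1
    have h2 : ((1 : Subgroup.centralizer ({x} : Set (Matrix.SpecialLinearGroup (Fin 2) F))) :
        Matrix.SpecialLinearGroup (Fin 2) F).1 = scalar (Fin 2) (1 : F) + (0 : F) • x.1 := by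
      simp
    rw [h2] at h1
    obtain ⟨e1, e2⟩ := scalar_add_smul_inj hns h1
    exact Prod.ext e1.symm e2.symm
  have hmul : ∀ Y Y' : Subgroup.centralizer ({x} : Set (Matrix.SpecialLinearGroup (Fin 2) F)),
      (c (Y * Y')).1 = (c Y).1 * (c Y').1 - (c Y).2 * (c Y').2 ∧
      (c (Y * Y')).2 = (c Y).1 * (c Y').2 + (c Y').1 * (c Y).2 + (c Y).2 * (c Y').2 * τ := by
    intro Y Y'
    have h1 := hc (Y * Y')
    have h2 : ((Y * Y' : Subgroup.centralizer ({x} : Set (Matrix.SpecialLinearGroup (Fin 2) F))) :
        Matrix.SpecialLinearGroup (Fin 2) F).1 = Y.1.1 * Y'.1.1 := by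
      rw [Subgroup.coe_mul, Matrix.SpecialLinearGroup.coe_mul]
    have h3 : Y.1.1 * Y'.1.1 = scalar (Fin 2) ((c Y).1 * (c Y').1 - (c Y).2 * (c Y').2) +
        ((c Y).1 * (c Y').2 + (c Y').1 * (c Y).2 + (c Y).2 * (c Y').2 * τ) • x.1 := by
      rw [hc Y, hc Y', scalar_eq_smul_one, scalar_eq_smul_one, scalar_eq_smul_one]
      simp only [Matrix.add_mul, Matrix.mul_add, Matrix.smul_mul, Matrix.mul_smul, Matrix.one_mul,
        Matrix.mul_one, hcay]
      module
    rw [h2, h3] at h1
    obtain ⟨e1, e2⟩ := scalar_add_smul_inj hns h1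
    exact ⟨e1.symm, e2.symm⟩
  let f : Subgroup.centralizer ({x} : Set (Matrix.SpecialLinearGroup (Fin 2) F)) →*
      AlgebraicClosure F :=
    { toFun := fun Y => algebraMap F (AlgebraicClosure F) (c Y).1 +
        algebraMap F (AlgebraicClosure F) (c Y).2 * l
      map_one' := by
        rw [hone]
        simp
      map_mul' := by
        intro Y Y'
        obtain ⟨e1, e2⟩ := hmul Y Y'
        rw [e1, e2]
        simp only [map_sub, map_add, map_mul]
        linear_combination (-(algebraMap F (AlgebraicClosure F) (c Y).2 *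
          algebraMap F (AlgebraicClosure F) (c Y').2)) * hl }
  have hf : ∀ Y, f Y = algebraMap F (AlgebraicClosure F) (c Y).1 +
      algebraMap F (AlgebraicClosure F) (c Y).2 * l := fun Y => rfl
  apply isCyclic_of_injective_ringHom f
  rw [injective_iff_map_eq_one]
  intro Y hY
  rw [hf] at hY
  have hdet : (c Y).1 * (c Y).1 + τ * (c Y).1 * (c Y).2 + (c Y).2 * (c Y).2 = 1 := by
    rw [hτdef, ← det_scalar_add_smul x.1 x.det_coe, ← hc Y]
    exact Y.1.det_coe
  have hdetE := congrArg (algebraMap F (AlgebraicClosure F)) hdet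
  simp only [map_add, map_mul, map_one] at hdetE
  obtain ⟨A, hA⟩ : ∃ A, A = algebraMap F (AlgebraicClosure F) (c Y).1 := ⟨_, rfl⟩
  obtain ⟨B, hB⟩ : ∃ B, B = algebraMap F (AlgebraicClosure F) (c Y).2 := ⟨_, rfl⟩
  obtain ⟨T, hT⟩ : ∃ T, T = algebraMap F (AlgebraicClosure F) τ := ⟨_, rfl⟩
  rw [← hA, ← hB, ← hT] at hdetE
  rw [← hA, ← hB] at hY
  rw [← hT] at hl
  have h2 : A + B * T - B * l = 1 := by
    linear_combination hdetE - B * B * hl - (A + B * T - B * l) * hY
  have h3 : B * (2 * l - T) = 0 := by linear_combination hY - h2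
  have hB0 : B = 0 := by
    by_contra hB0
    have h4 : 2 * l - T = 0 := (mul_eq_zero.mp h3).resolve_left hB0
    have h5 : T * T = 4 := by linear_combination (2 * l - T) * h4 - 4 * hl
    apply hτ
    apply (algebraMap F (AlgebraicClosure F)).injective
    rw [map_mul, ← hT, h5]
    exact (map_ofNat (algebraMap F (AlgebraicClosure F)) 4).symm
  have hA1 : A = 1 := by
    rw [hB0] at hY
    linear_combination hY
  have hb : (c Y).2 = 0 := by
    apply (algebraMap F (AlgebraicClosure F)).injective
    rw [← hB, hB0, map_zero]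
  have ha : (c Y).1 = 1 := by
    apply (algebraMap F (AlgebraicClosure F)).injective
    rw [← hA, hA1, map_one]
  apply Subtype.ext
  apply Subtype.ext
  rw [hc Y, ha, hb]
  simp

end Cfsg.Agent.Lib.Helper41
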