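import Mathlib
import Cfsg.Agent.Lib.Helper41.SL2Reg

set_option autoImplicit false

namespace Cfsg.Agent.Lib.Helper41

open Matrix

variable {F : Type*} [Field F]

/-- entries of a conjugate `g * x * g⁻¹` when `x = !![σ, s; 0, σ]` -/
theorem std_conj_entries (g x : Matrix.SpecialLinearGroup (Fin 2) F) (σ s : F)
    (hx : x.1 = !![σ, s; 0, σ]) :
    (g * x * g⁻¹ : Matrix.SpecialLinearGroup (Fin 2) F).1 1 0 = -(g.1 1 0 * g.1 1 0 * s) ∧
    (g * x * g⁻¹ : Matrix.SpecialLinearGroup (Fin 2) F).1 0 0 = σ - g.1 0 0 * g.1 1 0 * s ∧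
    (g * x * g⁻¹ : Matrix.SpecialLinearGroup (Fin 2) F).1 1 1 = σ + g.1 0 0 * g.1 1 0 * s := by
  have hd := sl2_det_entries g
  rw [Matrix.SpecialLinearGroup.coe_mul, Matrix.SpecialLinearGroup.coe_mul,
    Matrix.SpecialLinearGroup.coe_inv, Matrix.adjugate_fin_two, hx]
  refine ⟨?_, ?_, ?_⟩
  · simp [Matrix.mul_apply, Fin.sum_univ_two]
    ring
  · simp [Matrix.mul_apply, Fin.sum_univ_two]
    linear_combination σ * hd
  · simp [Matrix.mul_apply, Fin.sum_univ_two]
    linear_combination σ * hd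

theorem std_mem_centralizer_iff (g x : Matrix.SpecialLinearGroup (Fin 2) F) (σ s : F) (hs : s ≠ 0)
    (hx : x.1 = !![σ, s; 0, σ]) :
    g ∈ Subgroup.centralizer ({x} : Set (Matrix.SpecialLinearGroup (Fin 2) F)) ↔
      g.1 1 0 = 0 ∧ g.1 0 0 = g.1 1 1 := by
  rw [Subgroup.mem_centralizer_singleton_iff]
  constructor
  · intro h
    have h' : x.1 * g.1 = g.1 * x.1 := by
      rw [← Matrix.SpecialLinearGroup.coe_mul, ← Matrix.SpecialLinearGroup.coe_mul, h]
    rw [hx] at h'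
    have h00 := congrFun (congrFun h' 0) 0
    have h01 := congrFun (congrFun h' 0) 1
    simp [Matrix.mul_apply, Fin.sum_univ_two] at h00 h01
    have hc : g.1 1 0 = 0 := by
      have : s * g.1 1 0 = 0 := by linear_combination h00
      exact (mul_eq_zero.mp this).resolve_left hs
    refine ⟨hc, ?_⟩
    have : s * (g.1 0 0 - g.1 1 1) = 0 := by linear_combination -h01
    have h5 := (mul_eq_zero.mp this).resolve_left hs
    linear_combination h5
  · rintro ⟨hc, hd⟩
    apply Subtype.ext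
    rw [Matrix.SpecialLinearGroup.coe_mul, Matrix.SpecialLinearGroup.coe_mul, hx]
    ext i j
    fin_cases i <;> fin_cases j <;> simp [Matrix.mul_apply, Fin.sum_univ_two, hc, hd] <;> ring

theorem std_conj_mem_iff (g x : Matrix.SpecialLinearGroup (Fin 2) F) (σ s : F) (hs : s ≠ 0)
    (hx : x.1 = !![σ, s; 0, σ]) :
    g * x * g⁻¹ ∈ Subgroup.centralizer ({x} : Set (Matrix.SpecialLinearGroup (Fin 2) F)) ↔
      g.1 1 0 = 0 := by
  obtain ⟨e10, e00, e11⟩ := std_conj_entries g x σ s hx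
  rw [std_mem_centralizer_iff _ x σ s hs hx, e10, e00, e11]
  constructor
  · rintro ⟨h, -⟩
    have h2 : g.1 1 0 * g.1 1 0 * s = 0 := by linear_combination -h
    have h3 := (mul_eq_zero.mp h2).resolve_right hs
    exact mul_self_eq_zero.mp h3
  · intro h
    rw [h]
    constructor <;> ring

/-- standard form of a noncentral element with trace `±2` -/
theorem unipotent_std_form (X : Matrix.SpecialLinearGroup (Fin 2) F)
    (hX : X ∉ Subgroup.center (Matrix.SpecialLinearGroup (Fin 2) F))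
    (hτ : X.1.trace * X.1.trace = 4) :
    ∃ (P : Matrix.SpecialLinearGroup (Fin 2) F) (σ s : F), s ≠ 0 ∧
      (P * X * P⁻¹ : Matrix.SpecialLinearGroup (Fin 2) F).1 = !![σ, s; 0, σ] := by
  obtain ⟨P₀, c, hc, hB⟩ := conj_companion X hX
  obtain ⟨σ, hσ1, hσ2⟩ : ∃ σ : F, σ * σ = 1 ∧ X.1.trace = 2 * σ := by
    have h : (X.1.trace - 2) * (X.1.trace + 2) = 0 := by linear_combination hτ
    rcases mul_eq_zero.mp h with h | h
    · exact ⟨1, by ring, by linear_combination h⟩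
    · exact ⟨-1, by ring, by linear_combination h⟩
  obtain ⟨P₁, hP₁⟩ : ∃ P₁ : Matrix.SpecialLinearGroup (Fin 2) F, P₁.1 = !![0, -c⁻¹; c, σ] :=
    ⟨⟨!![0, -c⁻¹; c, σ], by simp [det_fin_two, hc]⟩, rfl⟩
  refine ⟨P₁ * P₀, σ, -c⁻¹, by simp [hc], ?_⟩
  have e : P₁ * P₀ * X * (P₁ * P₀)⁻¹ = P₁ * (P₀ * X * P₀⁻¹) * P₁⁻¹ := by group
  rw [e, Matrix.SpecialLinearGroup.coe_mul, Matrix.SpecialLinearGroup.coe_mul, hB,
    Matrix.SpecialLinearGroup.coe_inv, Matrix.adjugate_fin_two, hP₁, hσ2]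
  have hcc : c⁻¹ * c = 1 := inv_mul_cancel₀ hc
  ext i j
  fin_cases i <;> fin_cases j
  · simp [Matrix.mul_apply, Fin.sum_univ_two]
    linear_combination σ * hcc
  · simp [Matrix.mul_apply, Fin.sum_univ_two]
    linear_combination c⁻¹ * hcc
  · simp [Matrix.mul_apply, Fin.sum_univ_two]
    linear_combination (-c) * hσ1 + c * hcc
  · simp [Matrix.mul_apply, Fin.sum_univ_two]
    linear_combination σ * hcc

theorem conj_mem_centralizer_iff (P X g : Matrix.SpecialLinearGroup (Fin 2) F) :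
    P * g * P⁻¹ ∈ Subgroup.centralizer
      ({P * X * P⁻¹} : Set (Matrix.SpecialLinearGroup (Fin 2) F)) ↔
      g ∈ Subgroup.centralizer ({X} : Set (Matrix.SpecialLinearGroup (Fin 2) F)) := by
  rw [Subgroup.mem_centralizer_singleton_iff, Subgroup.mem_centralizer_singleton_iff]
  constructor
  · intro h
    have e1 : X * g = P⁻¹ * (P * X * P⁻¹ * (P * g * P⁻¹)) * P := by group
    have e2 : g * X = P⁻¹ * (P * g * P⁻¹ * (P * X * P⁻¹)) * P := by group
    rw [e1, e2, h]
  · intro h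
    have e1 : P * X * P⁻¹ * (P * g * P⁻¹) = P * (X * g) * P⁻¹ := by group
    have e2 : P * g * P⁻¹ * (P * X * P⁻¹) = P * (g * X) * P⁻¹ := by group
    rw [e1, e2, h]

/-- a frame for a noncentral element of trace `±2`: conjugating by `P` turns its normalizer-type
set into the upper triangular matrices -/
theorem uni_frame (X : Matrix.SpecialLinearGroup (Fin 2) F)
    (hX : X ∉ Subgroup.center (Matrix.SpecialLinearGroup (Fin 2) F))
    (hτ : X.1.trace * X.1.trace = 4) :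
    ∃ P : Matrix.SpecialLinearGroup (Fin 2) F,
      (∀ g : Matrix.SpecialLinearGroup (Fin 2) F,
        g * X * g⁻¹ ∈ Subgroup.centralizer ({X} : Set (Matrix.SpecialLinearGroup (Fin 2) F)) ↔
          (P * g * P⁻¹ : Matrix.SpecialLinearGroup (Fin 2) F).1 1 0 = 0) ∧
      (∀ g : Matrix.SpecialLinearGroup (Fin 2) F,
        g ∈ Subgroup.centralizer ({X} : Set (Matrix.SpecialLinearGroup (Fin 2) F)) ↔
          (P * g * P⁻¹ : Matrix.SpecialLinearGroup (Fin 2) F).1 1 0 = 0 ∧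
          (P * g * P⁻¹ : Matrix.SpecialLinearGroup (Fin 2) F).1 0 0 =
            (P * g * P⁻¹ : Matrix.SpecialLinearGroup (Fin 2) F).1 1 1) := by
  obtain ⟨P, σ, s, hs, hP⟩ := unipotent_std_form X hX hτ
  refine ⟨P, fun g => ?_, fun g => ?_⟩
  · rw [← std_conj_mem_iff (P * g * P⁻¹) (P * X * P⁻¹) σ s hs hP]
    have e : P * g * P⁻¹ * (P * X * P⁻¹) * (P * g * P⁻¹)⁻¹ = P * (g * X * g⁻¹) * P⁻¹ := by group
    rw [e, conj_mem_centralizer_iff]
  · rw [← std_mem_centralizer_iff (P * g * P⁻¹) (P * X * P⁻¹) σ s hs hP, conj_mem_centralizer_iff]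

/-! ### upper triangular matrices -/

theorem upper_mul (g h : Matrix.SpecialLinearGroup (Fin 2) F) (hg : g.1 1 0 = 0)
    (hh : h.1 1 0 = 0) :
    (g * h).1 1 0 = 0 ∧ (g * h).1 0 0 = g.1 0 0 * h.1 0 0 ∧ (g * h).1 1 1 = g.1 1 1 * h.1 1 1 := by
  rw [Matrix.SpecialLinearGroup.coe_mul]
  simp [Matrix.mul_apply, Fin.sum_univ_two, hg, hh]

theorem upper_diag (g : Matrix.SpecialLinearGroup (Fin 2) F) (hg : g.1 1 0 = 0) :
    g.1 0 0 * g.1 1 1 = 1 := by
  have hd := sl2_det_entries g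
  rw [hg] at hd
  linear_combination hd

theorem upper_inv (g : Matrix.SpecialLinearGroup (Fin 2) F) (hg : g.1 1 0 = 0) :
    (g⁻¹).1 1 0 = 0 := by
  rw [Matrix.SpecialLinearGroup.coe_inv, Matrix.adjugate_fin_two]
  simp [hg]

theorem upper_regular (g : Matrix.SpecialLinearGroup (Fin 2) F) (hg : g.1 1 0 = 0)
    (hd : g.1 0 0 ≠ g.1 1 1) : g.1.trace * g.1.trace ≠ 4 := by
  intro h
  have h1 := upper_diag g hg
  rw [Matrix.trace_fin_two] at h
  have h2 : (g.1 0 0 - g.1 1 1) * (g.1 0 0 - g.1 1 1) = 0 := by linear_combination h - 4 * h1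
  exact hd (sub_eq_zero.mp (mul_self_eq_zero.mp h2))

theorem upper_of_mem_centralizer (g z : Matrix.SpecialLinearGroup (Fin 2) F) (hg : g.1 1 0 = 0)
    (hd : g.1 0 0 ≠ g.1 1 1)
    (hz : z ∈ Subgroup.centralizer ({g} : Set (Matrix.SpecialLinearGroup (Fin 2) F))) :
    z.1 1 0 = 0 := by
  rw [Subgroup.mem_centralizer_singleton_iff] at hz
  have h' : g.1 * z.1 = z.1 * g.1 := by
    rw [← Matrix.SpecialLinearGroup.coe_mul, ← Matrix.SpecialLinearGroup.coe_mul, hz]
  have h10 := congrFun (congrFun h' 1) 0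
  simp [Matrix.mul_apply, Fin.sum_univ_two, hg] at h10
  have h2 : z.1 1 0 * (g.1 0 0 - g.1 1 1) = 0 := by linear_combination -h10
  exact (mul_eq_zero.mp h2).resolve_right (sub_ne_zero.mpr hd)

/-! ### trace facts -/

theorem trace_sq_of_mem_centralizer_uni (X Y : Matrix.SpecialLinearGroup (Fin 2) F)
    (hX : X ∉ Subgroup.center (Matrix.SpecialLinearGroup (Fin 2) F))
    (hτ : X.1.trace * X.1.trace = 4)
    (hY : Y ∈ Subgroup.centralizer ({X} : Set (Matrix.SpecialLinearGroup (Fin 2) F))) :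
    Y.1.trace * Y.1.trace = 4 := by
  obtain ⟨P, -, hP⟩ := uni_frame X hX hτ
  obtain ⟨h10, h00⟩ := (hP Y).mp hY
  have hd := upper_diag _ h10
  rw [← trace_conj P Y, Matrix.trace_fin_two]
  rw [← h00] at hd ⊢
  linear_combination 4 * hd

theorem trace_sq_of_psl_pow (p : ℕ) [Fact p.Prime] [CharP F p]
    (X : Matrix.SpecialLinearGroup (Fin 2) F) (k : ℕ)
    (h : (QuotientGroup.mk X : Matrix.ProjectiveSpecialLinearGroup (Fin 2) F) ^ (p ^ k) = 1) :
    X.1.trace * X.1.trace = 4 := by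
  rw [psl2_pow_eq_one_iff, Matrix.SpecialLinearGroup.coe_pow] at h
  have h2 : (X.1 * X.1) ^ (p ^ k) = 1 := by
    rw [← pow_two, ← pow_mul, mul_comm, pow_mul]
    rcases h with h | h
    · rw [h, one_pow]
    · rw [h]
      simp
  have h3 := trace_of_pow_char_pow p h2
  rw [cayley2_det_one X.det_coe] at h3
  simp [Matrix.trace_fin_two] at h3
  rw [Matrix.trace_fin_two]
  linear_combination h3

theorem negOne_eq_one_of_two (h2 : (2 : F) = 0) :
    (negOne : Matrix.SpecialLinearGroup (Fin 2) F) = 1 := by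
  apply Subtype.ext
  rw [negOne_coe, Matrix.SpecialLinearGroup.coe_one, neg_eq_iff_add_eq_zero,
    ← two_smul F (1 : Matrix (Fin 2) (Fin 2) F), h2, zero_smul]

theorem conj_eq_of_uni (X B : Matrix.SpecialLinearGroup (Fin 2) F)
    (hτ : X.1.trace * X.1.trace = 4)
    (h : B * X * B⁻¹ = X ∨ B * X * B⁻¹ = negOne * X) : B * X * B⁻¹ = X := by
  rcases h with h | h
  · exact h
  · have h1 := trace_conj B X
    rw [h, Matrix.SpecialLinearGroup.coe_mul, negOne_coe] at h1
    simp at h1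
    have h2τ : 2 * X.1.trace = 0 := by linear_combination -h1
    have h16 : (2 : F) * 2 * (2 * 2) = 0 := by linear_combination (2 * X.1.trace) * h2τ - 4 * hτ
    have h2 : (2 : F) = 0 := by
      rcases mul_eq_zero.mp h16 with h | h <;> exact mul_self_eq_zero.mp h
    rw [h, negOne_eq_one_of_two h2, one_mul]

end Cfsg.Agent.Lib.Helper41
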