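import Mathlib
import Cfsg.Agent.Lib.Helper41.SL2Uni
import Cfsg.Agent.Lib.Helper41.PSL2KleinNorm

set_option autoImplicit false

namespace Cfsg.Agent.Lib.Helper41

open Matrix

variable {F : Type*} [Field F]

theorem mem_map_conj_iff {G : Type*} [Group G] (K : Subgroup G) (g y : G) :
    y ∈ K.map (MulAut.conj g).toMonoidHom ↔ g⁻¹ * y * g ∈ K := by
  constructor
  · rintro ⟨z, hz, rfl⟩
    have e : g⁻¹ * (MulAut.conj g).toMonoidHom z * g = z := by
      show g⁻¹ * (g * z * g⁻¹) * g = z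
      group
    rw [e]
    exact hz
  · intro h
    refine ⟨g⁻¹ * y * g, h, ?_⟩
    show g * (g⁻¹ * y * g) * g⁻¹ = y
    group

/-- image in `PSL₂` of the centralizer of `X` -/
def cenIm (X : Matrix.SpecialLinearGroup (Fin 2) F) :
    Subgroup (Matrix.ProjectiveSpecialLinearGroup (Fin 2) F) :=
  (Subgroup.centralizer ({X} : Set (Matrix.SpecialLinearGroup (Fin 2) F))).map
    (QuotientGroup.mk' (Subgroup.center (Matrix.SpecialLinearGroup (Fin 2) F)))

theorem eq_or_eq_negOne_mul {X Y : Matrix.SpecialLinearGroup (Fin 2) F}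
    (h : (QuotientGroup.mk X : Matrix.ProjectiveSpecialLinearGroup (Fin 2) F) =
      QuotientGroup.mk Y) : Y = X ∨ Y = negOne * X := by
  rw [psl2_mk_eq_iff] at h
  rcases h with h | h
  · left
    exact Subtype.ext h
  · right
    apply Subtype.ext
    rw [Matrix.SpecialLinearGroup.coe_mul, negOne_coe, h]
    simp

theorem mk_mem_cenIm (X Y : Matrix.SpecialLinearGroup (Fin 2) F) :
    (QuotientGroup.mk Y : Matrix.ProjectiveSpecialLinearGroup (Fin 2) F) ∈ cenIm X ↔
      Y ∈ Subgroup.centralizer ({X} : Set (Matrix.SpecialLinearGroup (Fin 2) F)) := by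
  constructor
  · rintro ⟨Y', hY', hYY'⟩
    have h : (QuotientGroup.mk Y' : Matrix.ProjectiveSpecialLinearGroup (Fin 2) F) =
        QuotientGroup.mk Y := hYY'
    rcases eq_or_eq_negOne_mul h with h | h
    · rw [h]
      exact hY'
    · rw [h]
      exact mul_mem (negOne_mem_centralizer X) hY'
  · intro h
    exact ⟨Y, h, rfl⟩

theorem centralizer_negOne_mul (X : Matrix.SpecialLinearGroup (Fin 2) F) :
    Subgroup.centralizer ({negOne * X} : Set (Matrix.SpecialLinearGroup (Fin 2) F)) =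
      Subgroup.centralizer ({X} : Set (Matrix.SpecialLinearGroup (Fin 2) F)) := by
  ext g
  rw [Subgroup.mem_centralizer_singleton_iff, Subgroup.mem_centralizer_singleton_iff]
  constructor
  · intro h
    have h1 : negOne * (g * X) = negOne * (X * g) := by
      calc negOne * (g * X) = negOne * g * X := by group
        _ = g * negOne * X := by rw [negOne_comm g]
        _ = g * (negOne * X) := by group
        _ = negOne * X * g := h
        _ = negOne * (X * g) := by group
    exact mul_left_cancel h1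
  · intro h
    calc g * (negOne * X) = g * negOne * X := by group
      _ = negOne * g * X := by rw [negOne_comm g]
      _ = negOne * (g * X) := by group
      _ = negOne * (X * g) := by rw [h]
      _ = negOne * X * g := by group

theorem cenIm_congr {X X' : Matrix.SpecialLinearGroup (Fin 2) F}
    (h : (QuotientGroup.mk X : Matrix.ProjectiveSpecialLinearGroup (Fin 2) F) =
      QuotientGroup.mk X') : cenIm X' = cenIm X := by
  rcases eq_or_eq_negOne_mul h with h | h
  · rw [h]
  · unfold cenIm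
    rw [h, centralizer_negOne_mul]

/-- the "maximal torus" of `PSL₂` through `x` (for `x ≠ 1`) -/
noncomputable def torusOf (x : Matrix.ProjectiveSpecialLinearGroup (Fin 2) F) :
    Subgroup (Matrix.ProjectiveSpecialLinearGroup (Fin 2) F) :=
  cenIm (Quotient.out x)

theorem torusOf_mk (X : Matrix.SpecialLinearGroup (Fin 2) F) :
    torusOf (QuotientGroup.mk X : Matrix.ProjectiveSpecialLinearGroup (Fin 2) F) = cenIm X :=
  cenIm_congr (QuotientGroup.out_eq' _).symm

/-- unipotent type -/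
def IsUni (x : Matrix.ProjectiveSpecialLinearGroup (Fin 2) F) : Prop :=
  x ≠ 1 ∧ (Quotient.out x).1.trace * (Quotient.out x).1.trace = 4

theorem trace_sq_negOne_mul (X : Matrix.SpecialLinearGroup (Fin 2) F) :
    (negOne * X).1.trace * (negOne * X).1.trace = X.1.trace * X.1.trace := by
  rw [Matrix.SpecialLinearGroup.coe_mul, negOne_coe]
  simp

theorem isUni_mk (X : Matrix.SpecialLinearGroup (Fin 2) F) :
    IsUni (QuotientGroup.mk X : Matrix.ProjectiveSpecialLinearGroup (Fin 2) F) ↔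
      X ∉ Subgroup.center (Matrix.SpecialLinearGroup (Fin 2) F) ∧
        X.1.trace * X.1.trace = 4 := by
  unfold IsUni
  have h : (QuotientGroup.mk X : Matrix.ProjectiveSpecialLinearGroup (Fin 2) F) =
      QuotientGroup.mk (Quotient.out
        (QuotientGroup.mk X : Matrix.ProjectiveSpecialLinearGroup (Fin 2) F)) :=
    (QuotientGroup.out_eq' _).symm
  have ht : (Quotient.out
      (QuotientGroup.mk X : Matrix.ProjectiveSpecialLinearGroup (Fin 2) F)).1.trace *
      (Quotient.out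
      (QuotientGroup.mk X : Matrix.ProjectiveSpecialLinearGroup (Fin 2) F)).1.trace =
      X.1.trace * X.1.trace := by
    rcases eq_or_eq_negOne_mul h with h | h
    · rw [h]
    · rw [h, trace_sq_negOne_mul]
  rw [ht, Ne, QuotientGroup.eq_one_iff]

theorem self_mem_torusOf (x : Matrix.ProjectiveSpecialLinearGroup (Fin 2) F) :
    x ∈ torusOf x := by
  obtain ⟨X, rfl⟩ := QuotientGroup.mk_surjective x
  rw [torusOf_mk, mk_mem_cenIm, Subgroup.mem_centralizer_singleton_iff]

theorem torusOf_eq_of_mem {x y : Matrix.ProjectiveSpecialLinearGroup (Fin 2) F} (hx : x ≠ 1)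
    (hy : y ≠ 1) (h : y ∈ torusOf x) : torusOf y = torusOf x := by
  obtain ⟨X, rfl⟩ := QuotientGroup.mk_surjective x
  obtain ⟨Y, rfl⟩ := QuotientGroup.mk_surjective y
  rw [torusOf_mk, mk_mem_cenIm] at h
  rw [Ne, QuotientGroup.eq_one_iff] at hx hy
  rw [torusOf_mk, torusOf_mk]
  unfold cenIm
  rw [centralizer_eq_of_mem X Y hx hy h]

theorem torusOf_conj (g x : Matrix.ProjectiveSpecialLinearGroup (Fin 2) F) :
    torusOf (g * x * g⁻¹) = (torusOf x).map (MulAut.conj g).toMonoidHom := by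
  obtain ⟨X, rfl⟩ := QuotientGroup.mk_surjective x
  obtain ⟨G, rfl⟩ := QuotientGroup.mk_surjective g
  have e : (QuotientGroup.mk G : Matrix.ProjectiveSpecialLinearGroup (Fin 2) F) *
      QuotientGroup.mk X * (QuotientGroup.mk G)⁻¹ = QuotientGroup.mk (G * X * G⁻¹) := rfl
  rw [e, torusOf_mk, torusOf_mk]
  ext y
  obtain ⟨Y, rfl⟩ := QuotientGroup.mk_surjective y
  rw [mem_map_conj_iff, mk_mem_cenIm]
  have e2 : (QuotientGroup.mk G : Matrix.ProjectiveSpecialLinearGroup (Fin 2) F)⁻¹ *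
      QuotientGroup.mk Y * QuotientGroup.mk G = QuotientGroup.mk (G⁻¹ * Y * G) := rfl
  rw [e2, mk_mem_cenIm, ← conj_mem_centralizer_iff G X (G⁻¹ * Y * G)]
  have e3 : G * (G⁻¹ * Y * G) * G⁻¹ = Y := by group
  rw [e3]

theorem torusOf_comm {x : Matrix.ProjectiveSpecialLinearGroup (Fin 2) F} (hx : x ≠ 1)
    {y z : Matrix.ProjectiveSpecialLinearGroup (Fin 2) F} (hy : y ∈ torusOf x)
    (hz : z ∈ torusOf x) : y * z = z * y := by
  obtain ⟨X, rfl⟩ := QuotientGroup.mk_surjective x
  obtain ⟨Y, rfl⟩ := QuotientGroup.mk_surjective y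
  obtain ⟨Z, rfl⟩ := QuotientGroup.mk_surjective z
  rw [torusOf_mk, mk_mem_cenIm] at hy hz
  rw [Ne, QuotientGroup.eq_one_iff] at hx
  rw [← QuotientGroup.mk_mul, ← QuotientGroup.mk_mul, centralizer_comm X hx Y Z hy hz]

theorem isUni_conj (g x : Matrix.ProjectiveSpecialLinearGroup (Fin 2) F) (h : IsUni x) :
    IsUni (g * x * g⁻¹) := by
  obtain ⟨X, rfl⟩ := QuotientGroup.mk_surjective x
  obtain ⟨G, rfl⟩ := QuotientGroup.mk_surjective g
  have e : (QuotientGroup.mk G : Matrix.ProjectiveSpecialLinearGroup (Fin 2) F) *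
      QuotientGroup.mk X * (QuotientGroup.mk G)⁻¹ = QuotientGroup.mk (G * X * G⁻¹) := rfl
  rw [e, isUni_mk]
  rw [isUni_mk] at h
  refine ⟨fun hc => h.1 ?_, by rw [trace_conj]; exact h.2⟩
  have e2 : X = G⁻¹ * (G * X * G⁻¹) * G := by group
  rw [e2]
  have hn : (Subgroup.center (Matrix.SpecialLinearGroup (Fin 2) F)).Normal := inferInstance
  have := hn.conj_mem _ hc G⁻¹
  simpa using this

theorem isUni_of_mem_torusOf {x y : Matrix.ProjectiveSpecialLinearGroup (Fin 2) F}
    (hx : IsUni x) (hy : y ≠ 1) (h : y ∈ torusOf x) : IsUni y := by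
  obtain ⟨X, rfl⟩ := QuotientGroup.mk_surjective x
  obtain ⟨Y, rfl⟩ := QuotientGroup.mk_surjective y
  rw [torusOf_mk, mk_mem_cenIm] at h
  rw [isUni_mk] at hx ⊢
  rw [Ne, QuotientGroup.eq_one_iff] at hy
  exact ⟨hy, trace_sq_of_mem_centralizer_uni X Y hx.1 hx.2 h⟩

theorem mem_torusOf_of_comm {x y : Matrix.ProjectiveSpecialLinearGroup (Fin 2) F}
    (hx : IsUni x) (h : x * y = y * x) : y ∈ torusOf x := by
  obtain ⟨X, rfl⟩ := QuotientGroup.mk_surjective x
  obtain ⟨Y, rfl⟩ := QuotientGroup.mk_surjective y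
  rw [isUni_mk] at hx
  rw [torusOf_mk, mk_mem_cenIm, conj_eq_iff_mem_centralizer]
  apply conj_eq_of_uni X Y hx.2
  have h' : (QuotientGroup.mk X : Matrix.ProjectiveSpecialLinearGroup (Fin 2) F) =
      QuotientGroup.mk (Y * X * Y⁻¹) := by
    have e : (QuotientGroup.mk (Y * X * Y⁻¹) : Matrix.ProjectiveSpecialLinearGroup (Fin 2) F) =
        QuotientGroup.mk Y * QuotientGroup.mk X * (QuotientGroup.mk Y)⁻¹ := rfl
    rw [e, ← h]
    group
  exact eq_or_eq_negOne_mul h'

theorem isUni_pow (p : ℕ) [Fact p.Prime] [CharP F p]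
    {x : Matrix.ProjectiveSpecialLinearGroup (Fin 2) F} (hx : IsUni x) : x ^ p = 1 := by
  obtain ⟨X, rfl⟩ := QuotientGroup.mk_surjective x
  rw [isUni_mk] at hx
  rw [psl2_pow_eq_one_iff, Matrix.SpecialLinearGroup.coe_pow]
  obtain ⟨σ, hσ1, hσ2⟩ : ∃ σ : F, σ * σ = 1 ∧ X.1.trace = 2 * σ := by
    have h : (X.1.trace - 2) * (X.1.trace + 2) = 0 := by linear_combination hx.2
    rcases mul_eq_zero.mp h with h | h
    · exact ⟨1, by ring, by linear_combination h⟩
    · exact ⟨-1, by ring, by linear_combination h⟩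
  rw [pow_char_of_trace p X.det_coe hσ1 hσ2]
  have h1 : σ ^ p * σ ^ p = 1 := by rw [← mul_pow, hσ1, one_pow]
  have h2 : (σ ^ p - 1) * (σ ^ p + 1) = 0 := by linear_combination h1
  rcases mul_eq_zero.mp h2 with h | h
  · left
    rw [sub_eq_zero.mp h, one_smul]
  · right
    rw [eq_neg_of_add_eq_zero_left h]
    simp

theorem isUni_of_pow (p : ℕ) [Fact p.Prime] [CharP F p]
    {x : Matrix.ProjectiveSpecialLinearGroup (Fin 2) F} (hx : x ≠ 1) (k : ℕ)
    (h : x ^ (p ^ k) = 1) : IsUni x := by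
  obtain ⟨X, rfl⟩ := QuotientGroup.mk_surjective x
  rw [isUni_mk]
  rw [Ne, QuotientGroup.eq_one_iff] at hx
  exact ⟨hx, trace_sq_of_psl_pow p X k h⟩

/-- a `p`-subgroup containing a unipotent element lies in its torus -/
theorem le_torusOf_of_isPGroup (p : ℕ) [Fact p.Prime] [CharP F p] [Finite F]
    (P₁ : Subgroup (Matrix.ProjectiveSpecialLinearGroup (Fin 2) F)) (hP : IsPGroup p P₁)
    {a : Matrix.ProjectiveSpecialLinearGroup (Fin 2) F} (ha : a ∈ P₁) (haU : IsUni a) :
    P₁ ≤ torusOf a := by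
  haveI : Nontrivial P₁ := ⟨⟨⟨a, ha⟩, 1, fun h => haU.1 (congrArg Subtype.val h)⟩⟩
  haveI := hP.center_nontrivial
  obtain ⟨z, hz⟩ := exists_ne (1 : Subgroup.center P₁)
  have hz1 : (z.1.1 : Matrix.ProjectiveSpecialLinearGroup (Fin 2) F) ≠ 1 := by
    intro h
    apply hz
    apply Subtype.ext
    apply Subtype.ext
    exact h
  have hzc : ∀ y ∈ P₁, z.1.1 * y = y * z.1.1 := by
    intro y hy
    have h1 := Subgroup.mem_center_iff.mp z.2 ⟨y, hy⟩
    have h2 := congrArg Subtype.val h1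
    simp only [Subgroup.coe_mul] at h2
    exact h2.symm
  obtain ⟨k, hk⟩ := hP z.1
  have hzU : IsUni (z.1.1 : Matrix.ProjectiveSpecialLinearGroup (Fin 2) F) := by
    apply isUni_of_pow p hz1 k
    have := congrArg Subtype.val hk
    simpa using this
  have hmem := mem_torusOf_of_comm hzU (hzc a ha)
  have heq := torusOf_eq_of_mem hz1 haU.1 hmem
  intro y hy
  rw [heq]
  exact mem_torusOf_of_comm hzU (hzc y hy)

theorem isPGroup_torusOf (p : ℕ) [Fact p.Prime] [CharP F p]
    {a : Matrix.ProjectiveSpecialLinearGroup (Fin 2) F} (haU : IsUni a) :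
    IsPGroup p (torusOf a) := by
  intro y
  refine ⟨1, ?_⟩
  rw [pow_one]
  apply Subtype.ext
  rw [Subgroup.coe_pow, Subgroup.coe_one]
  by_cases hy : (y.1 : Matrix.ProjectiveSpecialLinearGroup (Fin 2) F) = 1
  · rw [hy, one_pow]
  · exact isUni_pow p (isUni_of_mem_torusOf haU hy y.2)

end Cfsg.Agent.Lib.Helper41
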