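import Mathlib
import Cfsg.Agent.Lib.Helper41.PSL2Part

set_option autoImplicit false

namespace Cfsg.Agent.Lib.Helper41

open Matrix

variable {F : Type*} [Field F]

/-- an element normalizing a torus lies in it, or is an involution inverting it -/
theorem torus_normalizer_cases {x g : Matrix.ProjectiveSpecialLinearGroup (Fin 2) F}
    (hx : x ≠ 1) (hxU : ¬ IsUni x) (hg : g * x * g⁻¹ ∈ torusOf x) :
    g ∈ torusOf x ∨ (g * g = 1 ∧ ∀ t ∈ torusOf x, g * t * g⁻¹ = t⁻¹) := by
  obtain ⟨X, rfl⟩ := QuotientGroup.mk_surjective x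
  obtain ⟨G, rfl⟩ := QuotientGroup.mk_surjective g
  have hX : X ∉ Subgroup.center (Matrix.SpecialLinearGroup (Fin 2) F) := by
    rwa [Ne, QuotientGroup.eq_one_iff] at hx
  have hτ : X.1.trace * X.1.trace ≠ 4 := fun h => hxU ((isUni_mk X).mpr ⟨hX, h⟩)
  have e : (QuotientGroup.mk G : Matrix.ProjectiveSpecialLinearGroup (Fin 2) F) *
      QuotientGroup.mk X * (QuotientGroup.mk G)⁻¹ = QuotientGroup.mk (G * X * G⁻¹) := rfl
  rw [e, torusOf_mk, mk_mem_cenIm, Subgroup.mem_centralizer_singleton_iff] at hg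
  rcases regular_comm_cases X (G * X * G⁻¹) hτ (trace_conj G X) hg with h | h
  · left
    rw [torusOf_mk, mk_mem_cenIm, conj_eq_iff_mem_centralizer]
    exact h
  · right
    have htr := trace_zero_of_inverting X G hτ h
    have hGG : G * G = negOne := (sq_eq_negOne_iff G).mpr htr
    refine ⟨?_, ?_⟩
    · rw [← QuotientGroup.mk_mul, hGG]
      exact mk_negOne
    · intro t ht
      obtain ⟨T, rfl⟩ := QuotientGroup.mk_surjective t
      rw [torusOf_mk, mk_mem_cenIm] at ht
      have h5 := inv_conj_of_mem X G T hX h ht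
      have e2 : (QuotientGroup.mk G : Matrix.ProjectiveSpecialLinearGroup (Fin 2) F) *
          QuotientGroup.mk T * (QuotientGroup.mk G)⁻¹ = QuotientGroup.mk (G * T * G⁻¹) := rfl
      rw [e2, h5]
      rfl

theorem isCyclic_torusOf [Finite F] {x : Matrix.ProjectiveSpecialLinearGroup (Fin 2) F}
    (hx : x ≠ 1) (hxU : ¬ IsUni x) : IsCyclic (torusOf x) := by
  obtain ⟨X, rfl⟩ := QuotientGroup.mk_surjective x
  have hX : X ∉ Subgroup.center (Matrix.SpecialLinearGroup (Fin 2) F) := by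
    rwa [Ne, QuotientGroup.eq_one_iff] at hx
  have hτ : X.1.trace * X.1.trace ≠ 4 := fun h => hxU ((isUni_mk X).mpr ⟨hX, h⟩)
  haveI := isCyclic_centralizer_regular X hτ
  rw [torusOf_mk]
  exact isCyclic_of_surjective _
    ((QuotientGroup.mk' (Subgroup.center (Matrix.SpecialLinearGroup (Fin 2) F))).subgroupMap_surjective
      (Subgroup.centralizer ({X} : Set (Matrix.SpecialLinearGroup (Fin 2) F))))

theorem card_torusOf_dvd [Fintype F] (p : ℕ) [Fact p.Prime] [CharP F p]
    {x : Matrix.ProjectiveSpecialLinearGroup (Fin 2) F} (hx : x ≠ 1) (hxU : ¬ IsUni x) :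
    Nat.card (torusOf x) ∣ (Fintype.card F - 1) / Nat.gcd 2 (Fintype.card F - 1) ∨
      Nat.card (torusOf x) ∣ (Fintype.card F + 1) / Nat.gcd 2 (Fintype.card F - 1) := by
  haveI := isCyclic_torusOf hx hxU
  obtain ⟨g, hg⟩ := IsCyclic.exists_generator (α := torusOf x)
  have hcard : Nat.card (torusOf x) = orderOf (g.1 : Matrix.ProjectiveSpecialLinearGroup (Fin 2) F) := by
    rw [Subgroup.orderOf_coe, orderOf_eq_card_of_forall_mem_zpowers hg]
  rw [hcard]
  rcases psl2_orderOf_dvd p (g.1 : Matrix.ProjectiveSpecialLinearGroup (Fin 2) F) with h | h | h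
  · exfalso
    apply hxU
    apply isUni_of_pow p hx 1
    rw [pow_one]
    have h1 : (⟨x, self_mem_torusOf x⟩ : torusOf x) ^ Nat.card (torusOf x) = 1 := pow_card_eq_one'
    rw [hcard] at h1
    obtain ⟨c, hc⟩ := h
    have h2 := congrArg Subtype.val h1
    simp only [Subgroup.coe_pow, Subgroup.coe_one] at h2
    rw [hc, pow_mul, h2, one_pow]
  · left; exact h
  · right; exact h

/-! ### the Borel subgroup of a unipotent element -/

/-- lower-left entry test in the frame `P` -/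
def lowP (P : Matrix.SpecialLinearGroup (Fin 2) F)
    (y : Matrix.ProjectiveSpecialLinearGroup (Fin 2) F) : Prop :=
  (P * Quotient.out y * P⁻¹ : Matrix.SpecialLinearGroup (Fin 2) F).1 1 0 = 0

theorem conj_negOne_mul (P Y : Matrix.SpecialLinearGroup (Fin 2) F) :
    P * (negOne * Y) * P⁻¹ = negOne * (P * Y * P⁻¹) := by
  calc P * (negOne * Y) * P⁻¹ = P * negOne * Y * P⁻¹ := by group
    _ = negOne * P * Y * P⁻¹ := by rw [negOne_comm P]
    _ = negOne * (P * Y * P⁻¹) := by group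

theorem negOne_mul_entry (Y : Matrix.SpecialLinearGroup (Fin 2) F) (i j : Fin 2) :
    (negOne * Y : Matrix.SpecialLinearGroup (Fin 2) F).1 i j = -Y.1 i j := by
  rw [Matrix.SpecialLinearGroup.coe_mul, negOne_coe]
  simp

theorem out_mk_cases (Y : Matrix.SpecialLinearGroup (Fin 2) F) :
    Quotient.out (QuotientGroup.mk Y : Matrix.ProjectiveSpecialLinearGroup (Fin 2) F) = Y ∨
      Quotient.out (QuotientGroup.mk Y : Matrix.ProjectiveSpecialLinearGroup (Fin 2) F) =
        negOne * Y :=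
  eq_or_eq_negOne_mul (QuotientGroup.out_eq' _).symm

theorem lowP_mk (P Y : Matrix.SpecialLinearGroup (Fin 2) F) :
    lowP P (QuotientGroup.mk Y : Matrix.ProjectiveSpecialLinearGroup (Fin 2) F) ↔
      (P * Y * P⁻¹ : Matrix.SpecialLinearGroup (Fin 2) F).1 1 0 = 0 := by
  unfold lowP
  rcases out_mk_cases Y with h | h
  · rw [h]
  · rw [h, conj_negOne_mul, negOne_mul_entry, neg_eq_zero]

/-- squared upper-left entry in the frame `P` -/
noncomputable def chiP (P : Matrix.SpecialLinearGroup (Fin 2) F)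
    (y : Matrix.ProjectiveSpecialLinearGroup (Fin 2) F) : F :=
  (P * Quotient.out y * P⁻¹ : Matrix.SpecialLinearGroup (Fin 2) F).1 0 0 *
    (P * Quotient.out y * P⁻¹ : Matrix.SpecialLinearGroup (Fin 2) F).1 0 0

theorem chiP_mk (P Y : Matrix.SpecialLinearGroup (Fin 2) F) :
    chiP P (QuotientGroup.mk Y : Matrix.ProjectiveSpecialLinearGroup (Fin 2) F) =
      (P * Y * P⁻¹ : Matrix.SpecialLinearGroup (Fin 2) F).1 0 0 *
        (P * Y * P⁻¹ : Matrix.SpecialLinearGroup (Fin 2) F).1 0 0 := by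
  unfold chiP
  rcases out_mk_cases Y with h | h
  · rw [h]
  · rw [h, conj_negOne_mul, negOne_mul_entry, neg_mul_neg]

/-- Borel subgroup in the frame `P` -/
def borelP (P : Matrix.SpecialLinearGroup (Fin 2) F) :
    Subgroup (Matrix.ProjectiveSpecialLinearGroup (Fin 2) F) where
  carrier := {y | lowP P y}
  mul_mem' := by
    intro y z hy hz
    obtain ⟨Y, rfl⟩ := QuotientGroup.mk_surjective y
    obtain ⟨Z, rfl⟩ := QuotientGroup.mk_surjective z
    have hy' : (P * Y * P⁻¹ : Matrix.SpecialLinearGroup (Fin 2) F).1 1 0 = 0 := (lowP_mk P Y).mp hy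
    have hz' : (P * Z * P⁻¹ : Matrix.SpecialLinearGroup (Fin 2) F).1 1 0 = 0 := (lowP_mk P Z).mp hz
    show lowP P (QuotientGroup.mk (Y * Z))
    rw [lowP_mk]
    have e : P * (Y * Z) * P⁻¹ = (P * Y * P⁻¹) * (P * Z * P⁻¹) := by group
    rw [e]
    exact (upper_mul _ _ hy' hz').1
  one_mem' := by
    show lowP P (QuotientGroup.mk 1)
    rw [lowP_mk]
    have e : P * 1 * P⁻¹ = 1 := by group
    rw [e]
    simp
  inv_mem' := by
    intro y hy
    obtain ⟨Y, rfl⟩ := QuotientGroup.mk_surjective y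
    have hy' : (P * Y * P⁻¹ : Matrix.SpecialLinearGroup (Fin 2) F).1 1 0 = 0 := (lowP_mk P Y).mp hy
    show lowP P (QuotientGroup.mk Y⁻¹)
    rw [lowP_mk]
    have e : P * Y⁻¹ * P⁻¹ = (P * Y * P⁻¹)⁻¹ := by group
    rw [e]
    exact upper_inv _ hy'

theorem mk_mem_borelP (P Y : Matrix.SpecialLinearGroup (Fin 2) F) :
    (QuotientGroup.mk Y : Matrix.ProjectiveSpecialLinearGroup (Fin 2) F) ∈ borelP P ↔
      (P * Y * P⁻¹ : Matrix.SpecialLinearGroup (Fin 2) F).1 1 0 = 0 :=
  lowP_mk P Y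

theorem chiP_ne_zero (P : Matrix.SpecialLinearGroup (Fin 2) F)
    (y : Matrix.ProjectiveSpecialLinearGroup (Fin 2) F) (hy : y ∈ borelP P) : chiP P y ≠ 0 := by
  obtain ⟨Y, rfl⟩ := QuotientGroup.mk_surjective y
  rw [mk_mem_borelP] at hy
  rw [chiP_mk]
  have h := upper_diag _ hy
  intro h0
  have h1 := mul_self_eq_zero.mp h0
  rw [h1, zero_mul] at h
  exact zero_ne_one h

theorem chiP_mul (P : Matrix.SpecialLinearGroup (Fin 2) F)
    (y z : Matrix.ProjectiveSpecialLinearGroup (Fin 2) F) (hy : y ∈ borelP P)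
    (hz : z ∈ borelP P) : chiP P (y * z) = chiP P y * chiP P z := by
  obtain ⟨Y, rfl⟩ := QuotientGroup.mk_surjective y
  obtain ⟨Z, rfl⟩ := QuotientGroup.mk_surjective z
  rw [mk_mem_borelP] at hy hz
  rw [← QuotientGroup.mk_mul, chiP_mk, chiP_mk, chiP_mk]
  have e : P * (Y * Z) * P⁻¹ = (P * Y * P⁻¹) * (P * Z * P⁻¹) := by group
  rw [e, (upper_mul _ _ hy hz).2.1]
  ring

/-- the character of the Borel subgroup -/
noncomputable def borelChar (P : Matrix.SpecialLinearGroup (Fin 2) F) : borelP P →* Fˣ where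
  toFun y := Units.mk0 (chiP P y.1) (chiP_ne_zero P y.1 y.2)
  map_one' := by
    apply Units.ext
    show chiP P (QuotientGroup.mk 1) = 1
    rw [chiP_mk]
    have e : P * 1 * P⁻¹ = 1 := by group
    rw [e]
    simp
  map_mul' := by
    intro y z
    apply Units.ext
    show chiP P (y.1 * z.1) = chiP P y.1 * chiP P z.1
    exact chiP_mul P y.1 z.1 y.2 z.2

theorem borelChar_coe (P : Matrix.SpecialLinearGroup (Fin 2) F) (y : borelP P) :
    ((borelChar P y : Fˣ) : F) = chiP P y.1 := rfl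

theorem exists_borel {a : Matrix.ProjectiveSpecialLinearGroup (Fin 2) F} (ha : IsUni a) :
    ∃ (B : Subgroup (Matrix.ProjectiveSpecialLinearGroup (Fin 2) F)) (χ : B →* Fˣ),
      (∀ g, g ∈ B ↔ g * a * g⁻¹ ∈ torusOf a) ∧
      (∀ g : B, χ g = 1 ↔ g.1 ∈ torusOf a) ∧
      (∀ g : B, χ g ≠ 1 → ¬ IsUni g.1 ∧ torusOf g.1 ≤ B) := by
  obtain ⟨X, rfl⟩ := QuotientGroup.mk_surjective a
  rw [isUni_mk] at ha
  obtain ⟨P, hP1, hP2⟩ := uni_frame X ha.1 ha.2
  refine ⟨borelP P, borelChar P, ?_, ?_, ?_⟩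
  · intro g
    obtain ⟨G, rfl⟩ := QuotientGroup.mk_surjective g
    have e : (QuotientGroup.mk G : Matrix.ProjectiveSpecialLinearGroup (Fin 2) F) *
        QuotientGroup.mk X * (QuotientGroup.mk G)⁻¹ = QuotientGroup.mk (G * X * G⁻¹) := rfl
    rw [e, torusOf_mk, mk_mem_cenIm, mk_mem_borelP, hP1]
  · rintro ⟨g, hg⟩
    obtain ⟨G, rfl⟩ := QuotientGroup.mk_surjective g
    have hg' := (mk_mem_borelP P G).mp hg
    have hd := upper_diag _ hg'
    rw [torusOf_mk, mk_mem_cenIm, hP2, Units.ext_iff, borelChar_coe, chiP_mk]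
    simp only [Units.val_one]
    constructor
    · intro h
      refine ⟨hg', ?_⟩
      have h0 : (P * G * P⁻¹ : Matrix.SpecialLinearGroup (Fin 2) F).1 0 0 ≠ 0 := by
        intro h0
        rw [h0, zero_mul] at hd
        exact zero_ne_one hd
      have h1 : (P * G * P⁻¹ : Matrix.SpecialLinearGroup (Fin 2) F).1 0 0 *
          ((P * G * P⁻¹ : Matrix.SpecialLinearGroup (Fin 2) F).1 0 0 -
            (P * G * P⁻¹ : Matrix.SpecialLinearGroup (Fin 2) F).1 1 1) = 0 := by
        linear_combination h - hd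
      exact sub_eq_zero.mp ((mul_eq_zero.mp h1).resolve_left h0)
    · rintro ⟨-, h⟩
      rw [← h] at hd
      exact hd
  · rintro ⟨g, hg⟩ hχ
    obtain ⟨G, rfl⟩ := QuotientGroup.mk_surjective g
    have hg' := (mk_mem_borelP P G).mp hg
    have hd := upper_diag _ hg'
    have hne : (P * G * P⁻¹ : Matrix.SpecialLinearGroup (Fin 2) F).1 0 0 ≠
        (P * G * P⁻¹ : Matrix.SpecialLinearGroup (Fin 2) F).1 1 1 := by
      intro h
      apply hχ
      rw [Units.ext_iff, borelChar_coe, chiP_mk]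
      simp only [Units.val_one]
      rw [← h] at hd
      exact hd
    refine ⟨?_, ?_⟩
    · intro hU
      rw [isUni_mk] at hU
      have h1 := upper_regular _ hg' hne
      rw [trace_conj] at h1
      exact h1 hU.2
    · intro z hz
      obtain ⟨Z, rfl⟩ := QuotientGroup.mk_surjective z
      rw [torusOf_mk, mk_mem_cenIm] at hz
      rw [mk_mem_borelP]
      apply upper_of_mem_centralizer (P * G * P⁻¹) (P * Z * P⁻¹) hg' hne
      rw [conj_mem_centralizer_iff]
      exact hz

end Cfsg.Agent.Lib.Helper41
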