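import Mathlib
import Cfsg.Agent.Lib.Helper41.PSL2Torus
import Cfsg.Agent.Lib.Helper41.DicksonShapeU
import Cfsg.Agent.Lib.Helper67.SylowLemmas

set_option autoImplicit false

namespace Cfsg.Agent.Lib.Helper41

open Matrix

variable {F : Type*} [Field F]

/-- two elements normalizing a torus and lying outside it differ by an element of the torus -/
theorem torus_normalizer_quot {x g h : Matrix.ProjectiveSpecialLinearGroup (Fin 2) F}
    (hx : x ≠ 1) (hxU : ¬ IsUni x) (hg : g * x * g⁻¹ ∈ torusOf x) (hh : h * x * h⁻¹ ∈ torusOf x)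
    (hg' : g ∉ torusOf x) (hh' : h ∉ torusOf x) : g⁻¹ * h ∈ torusOf x := by
  obtain ⟨X, rfl⟩ := QuotientGroup.mk_surjective x
  obtain ⟨G, rfl⟩ := QuotientGroup.mk_surjective g
  obtain ⟨H, rfl⟩ := QuotientGroup.mk_surjective h
  have hX : X ∉ Subgroup.center (Matrix.SpecialLinearGroup (Fin 2) F) := by
    rwa [Ne, QuotientGroup.eq_one_iff] at hx
  have hτ : X.1.trace * X.1.trace ≠ 4 := fun h => hxU ((isUni_mk X).mpr ⟨hX, h⟩)
  have e : ∀ G : Matrix.SpecialLinearGroup (Fin 2) F,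
      (QuotientGroup.mk G : Matrix.ProjectiveSpecialLinearGroup (Fin 2) F) *
      QuotientGroup.mk X * (QuotientGroup.mk G)⁻¹ = QuotientGroup.mk (G * X * G⁻¹) := fun _ => rfl
  rw [e, torusOf_mk, mk_mem_cenIm, Subgroup.mem_centralizer_singleton_iff] at hg hh
  rw [torusOf_mk, mk_mem_cenIm, conj_eq_iff_mem_centralizer] at hg' hh'
  have h1 : G * X * G⁻¹ = X⁻¹ :=
    (regular_comm_cases X _ hτ (trace_conj G X) hg).resolve_left hg'
  have h2 : H * X * H⁻¹ = X⁻¹ :=
    (regular_comm_cases X _ hτ (trace_conj H X) hh).resolve_left hh'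
  have e2 : (QuotientGroup.mk G : Matrix.ProjectiveSpecialLinearGroup (Fin 2) F)⁻¹ *
      QuotientGroup.mk H = QuotientGroup.mk (G⁻¹ * H) := rfl
  rw [e2, torusOf_mk, mk_mem_cenIm, conj_eq_iff_mem_centralizer]
  calc G⁻¹ * H * X * (G⁻¹ * H)⁻¹ = G⁻¹ * (H * X * H⁻¹) * G := by group
    _ = G⁻¹ * X⁻¹ * G := by rw [h2]
    _ = G⁻¹ * (G * X * G⁻¹) * G := by rw [h1]
    _ = X := by group

/-- a subgroup with at most one nontrivial coset in an overgroup has index at most 2 -/
theorem card_le_two_mul {G : Type*} [Group G] [Finite G] (M N : Subgroup G)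
    (h : ∀ g ∈ N, ∀ h ∈ N, g ∉ M → h ∉ M → g⁻¹ * h ∈ M) : Nat.card N ≤ 2 * Nat.card M := by
  classical
  haveI := Fintype.ofFinite G
  by_cases hex : ∃ g₀ ∈ N, g₀ ∉ M
  · obtain ⟨g₀, hg₀N, hg₀M⟩ := hex
    rw [← DPart.card_filter_mem_subgroup N, ← DPart.card_filter_mem_subgroup M]
    have hsub : Finset.univ.filter (fun g => g ∈ N) ⊆ Finset.univ.filter (fun g => g ∈ M) ∪
        (Finset.univ.filter (fun g => g ∈ M)).image (fun m => g₀ * m) := by
      intro y hy
      rw [Finset.mem_filter] at hy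
      rw [Finset.mem_union, Finset.mem_filter, Finset.mem_image]
      by_cases hyM : y ∈ M
      · left
        exact ⟨Finset.mem_univ _, hyM⟩
      · right
        refine ⟨g₀⁻¹ * y, ?_, by group⟩
        rw [Finset.mem_filter]
        exact ⟨Finset.mem_univ _, h g₀ hg₀N y hy.2 hg₀M hyM⟩
    have h1 := Finset.card_le_card hsub
    have h2 := Finset.card_union_le (Finset.univ.filter (fun g => g ∈ M))
      ((Finset.univ.filter (fun g => g ∈ M)).image (fun m => g₀ * m))
    have h3 := Finset.card_image_le (s := Finset.univ.filter (fun g => g ∈ M))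
      (f := fun m => g₀ * m)
    omega
  · push Not at hex
    have hle : N ≤ M := fun g hg => hex g hg
    have := Subgroup.card_le_of_le hle
    omega

/-- the torus of `H` through `a` -/
noncomputable def hTorus (H : Subgroup (Matrix.ProjectiveSpecialLinearGroup (Fin 2) F)) (a : H) :
    Subgroup H :=
  (torusOf (a : Matrix.ProjectiveSpecialLinearGroup (Fin 2) F)).subgroupOf H

theorem mem_hTorus (H : Subgroup (Matrix.ProjectiveSpecialLinearGroup (Fin 2) F)) (a y : H) :
    y ∈ hTorus H a ↔ (y : Matrix.ProjectiveSpecialLinearGroup (Fin 2) F) ∈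
      torusOf (a : Matrix.ProjectiveSpecialLinearGroup (Fin 2) F) :=
  Subgroup.mem_subgroupOf

theorem coe_ne_one {H : Subgroup (Matrix.ProjectiveSpecialLinearGroup (Fin 2) F)} {a : H}
    (ha : a ≠ 1) : (a : Matrix.ProjectiveSpecialLinearGroup (Fin 2) F) ≠ 1 :=
  fun h => ha (Subtype.ext h)

theorem hTorus_conj (H : Subgroup (Matrix.ProjectiveSpecialLinearGroup (Fin 2) F)) (g a : H) :
    hTorus H (g * a * g⁻¹) = (hTorus H a).map (MulAut.conj g).toMonoidHom := by
  ext y
  rw [mem_hTorus, mem_map_conj_iff, mem_hTorus]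
  have e1 : ((g * a * g⁻¹ : H) : Matrix.ProjectiveSpecialLinearGroup (Fin 2) F) =
      (g : Matrix.ProjectiveSpecialLinearGroup (Fin 2) F) * a * (g : Matrix.ProjectiveSpecialLinearGroup (Fin 2) F)⁻¹ := rfl
  have e2 : ((g⁻¹ * y * g : H) : Matrix.ProjectiveSpecialLinearGroup (Fin 2) F) =
      (g : Matrix.ProjectiveSpecialLinearGroup (Fin 2) F)⁻¹ * y * g := rfl
  rw [e1, e2, torusOf_conj, mem_map_conj_iff]

theorem hTorus_eq_of_mem (H : Subgroup (Matrix.ProjectiveSpecialLinearGroup (Fin 2) F))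
    (a b : H) (ha : a ≠ 1) (hb : b ≠ 1) (h : b ∈ hTorus H a) : hTorus H b = hTorus H a := by
  rw [mem_hTorus] at h
  unfold hTorus
  rw [torusOf_eq_of_mem (coe_ne_one ha) (coe_ne_one hb) h]

theorem mem_normalizer_hTorus (H : Subgroup (Matrix.ProjectiveSpecialLinearGroup (Fin 2) F))
    {a g : H} (ha : a ≠ 1) :
    g ∈ Subgroup.normalizer ((hTorus H a : Subgroup H) : Set H) ↔
      (g : Matrix.ProjectiveSpecialLinearGroup (Fin 2) F) * a *
        (g : Matrix.ProjectiveSpecialLinearGroup (Fin 2) F)⁻¹ ∈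
        torusOf (a : Matrix.ProjectiveSpecialLinearGroup (Fin 2) F) := by
  have e1 : (g : Matrix.ProjectiveSpecialLinearGroup (Fin 2) F) * a *
      (g : Matrix.ProjectiveSpecialLinearGroup (Fin 2) F)⁻¹ = ((g * a * g⁻¹ : H) :
        Matrix.ProjectiveSpecialLinearGroup (Fin 2) F) := rfl
  rw [e1, ← mem_hTorus, Subgroup.mem_normalizer_iff_map_conj_eq]
  constructor
  · intro h
    have h2 : hTorus H (g * a * g⁻¹) = hTorus H a := by
      rw [hTorus_conj]
      exact h
    rw [← h2, mem_hTorus]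
    exact self_mem_torusOf _
  · intro h
    have h2 : hTorus H (g * a * g⁻¹) = hTorus H a :=
      hTorus_eq_of_mem H a _ ha (DPart.conj_ne_one ha) h
    rw [hTorus_conj] at h2
    exact h2

theorem hTorus_index (H : Subgroup (Matrix.ProjectiveSpecialLinearGroup (Fin 2) F)) [Finite H]
    (a : H) (ha : a ≠ 1) (haU : ¬ IsUni (a : Matrix.ProjectiveSpecialLinearGroup (Fin 2) F)) :
    Nat.card (Subgroup.normalizer ((hTorus H a : Subgroup H) : Set H)) ≤
      2 * Nat.card (hTorus H a) := by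
  apply card_le_two_mul
  intro g hg h hh hg' hh'
  rw [mem_normalizer_hTorus H ha] at hg hh
  rw [mem_hTorus] at hg' hh' ⊢
  exact torus_normalizer_quot (coe_ne_one ha) haU hg hh hg' hh'

/-- the torus of a unipotent element of `H` is a Sylow `p`-subgroup of `H` -/
noncomputable def hSylow (p : ℕ) [Fact p.Prime] [CharP F p] [Finite F]
    (H : Subgroup (Matrix.ProjectiveSpecialLinearGroup (Fin 2) F)) (a : H)
    (haU : IsUni (a : Matrix.ProjectiveSpecialLinearGroup (Fin 2) F)) : Sylow p H where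
  toSubgroup := hTorus H a
  isPGroup' := (isPGroup_torusOf p haU).comap_subtype
  is_maximal' := by
    intro Q hQ hle
    apply le_antisymm _ hle
    intro y hy
    rw [mem_hTorus]
    have hQ' : IsPGroup p (Q.map H.subtype) := hQ.map _
    have haQ : (a : Matrix.ProjectiveSpecialLinearGroup (Fin 2) F) ∈ Q.map H.subtype :=
      ⟨a, hle ((mem_hTorus H a a).mpr (self_mem_torusOf _)), rfl⟩
    exact le_torusOf_of_isPGroup p _ hQ' haQ haU ⟨y, hy, rfl⟩

theorem hTorus_U_conj (p : ℕ) [Fact p.Prime] [CharP F p] [Finite F]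
    (H : Subgroup (Matrix.ProjectiveSpecialLinearGroup (Fin 2) F)) (a b : H)
    (haU : IsUni (a : Matrix.ProjectiveSpecialLinearGroup (Fin 2) F))
    (hbU : IsUni (b : Matrix.ProjectiveSpecialLinearGroup (Fin 2) F)) :
    ∃ g : H, g * b * g⁻¹ ∈ hTorus H a := by
  have hbp : IsPGroup p (Subgroup.zpowers b) := by
    rintro ⟨y, hy⟩
    refine ⟨1, ?_⟩
    obtain ⟨n, rfl⟩ := Subgroup.mem_zpowers_iff.mp hy
    apply Subtype.ext
    rw [pow_one, Subgroup.coe_pow, Subgroup.coe_one]
    have hb1 : b ^ p = 1 := by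
      apply Subtype.ext
      rw [Subgroup.coe_pow, Subgroup.coe_one]
      exact isUni_pow p hbU
    rw [← zpow_natCast, ← _root_.zpow_mul, mul_comm, _root_.zpow_mul, zpow_natCast, hb1, _root_.one_zpow]
  obtain ⟨Q, hQ⟩ := hbp.exists_le_sylow
  obtain ⟨g, hg⟩ := MulAction.exists_smul_eq H Q (hSylow p H a haU)
  refine ⟨g, ?_⟩
  have hmem : g * b * g⁻¹ ∈ ((g • Q : Sylow p H) : Subgroup H) := by
    rw [Cfsg.Agent.Lib.Helper67.mem_smul_sylow_iff]
    have e : g⁻¹ * (g * b * g⁻¹) * g = b := by group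
    rw [e]
    exact hQ (Subgroup.mem_zpowers b)
  rw [hg] at hmem
  exact hmem

end Cfsg.Agent.Lib.Helper41
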