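import Mathlib
import Cfsg.Agent.Lib.Helper41.DicksonInst

set_option autoImplicit false

namespace Cfsg.Agent.Lib.Helper41

open Matrix

variable {F : Type*} [Field F]

theorem hTorus_U_compl [Finite F]
    (H : Subgroup (Matrix.ProjectiveSpecialLinearGroup (Fin 2) F)) (a : H) (ha : a ≠ 1)
    (haU : IsUni (a : Matrix.ProjectiveSpecialLinearGroup (Fin 2) F))
    (hlt : Nat.card (hTorus H a) <
      Nat.card (Subgroup.normalizer ((hTorus H a : Subgroup H) : Set H))) :
    ∃ b : H, b ≠ 1 ∧ ¬ IsUni (b : Matrix.ProjectiveSpecialLinearGroup (Fin 2) F) ∧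
      hTorus H b ≤ Subgroup.normalizer ((hTorus H a : Subgroup H) : Set H) ∧
      Nat.card (hTorus H b) * Nat.card (hTorus H a) =
        Nat.card (Subgroup.normalizer ((hTorus H a : Subgroup H) : Set H)) := by
  classical
  obtain ⟨B, χ, hB1, hB2, hB3⟩ := exists_borel haU
  obtain ⟨N, hN⟩ : ∃ N : Subgroup H, N = Subgroup.normalizer ((hTorus H a : Subgroup H) : Set H) :=
    ⟨_, rfl⟩
  rw [← hN] at hlt ⊢
  have hNB : ∀ y : H, y ∈ N ↔ (y : Matrix.ProjectiveSpecialLinearGroup (Fin 2) F) ∈ B := by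
    intro y
    rw [hN, mem_normalizer_hTorus H ha, hB1]
  let ι : N →* B :=
    { toFun := fun y => ⟨(y.1 : Matrix.ProjectiveSpecialLinearGroup (Fin 2) F), (hNB y.1).mp y.2⟩
      map_one' := rfl
      map_mul' := fun _ _ => rfl }
  obtain ⟨φ, hφdef⟩ : ∃ φ : N →* Fˣ, φ = χ.comp ι := ⟨_, rfl⟩
  have hφ : ∀ y : N, φ y = 1 ↔ y.1 ∈ hTorus H a := by
    intro y
    rw [mem_hTorus, hφdef]
    exact hB2 (ι y)
  have hle : hTorus H a ≤ N := by
    rw [hN]
    exact Subgroup.le_normalizer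
  have hker : Nat.card φ.ker = Nat.card (hTorus H a) := by
    have e : φ.ker = (hTorus H a).subgroupOf N := by
      ext y
      rw [MonoidHom.mem_ker, hφ, Subgroup.mem_subgroupOf]
    rw [e]
    exact Nat.card_congr (Subgroup.subgroupOfEquivOfLe hle).toEquiv
  have hcard : Nat.card N = Nat.card (hTorus H a) * Nat.card φ.range := by
    rw [← hker, ← Subgroup.index_ker, Subgroup.card_mul_index]
  obtain ⟨u, hu⟩ := IsCyclic.exists_generator (α := φ.range)
  obtain ⟨y₀, hy₀⟩ := u.2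
  have hu1 : φ y₀ ≠ 1 := by
    intro h
    have hu' : u = 1 := Subtype.ext (by rw [← hy₀]; exact h)
    have h1 : Nat.card φ.range = 1 := by
      rw [Nat.card_eq_one_iff_unique]
      refine ⟨⟨fun v w => ?_⟩, ⟨1⟩⟩
      obtain ⟨n, hn⟩ := Subgroup.mem_zpowers_iff.mp (hu v)
      obtain ⟨m, hm⟩ := Subgroup.mem_zpowers_iff.mp (hu w)
      rw [← hn, ← hm, hu', _root_.one_zpow, _root_.one_zpow]
    rw [h1, mul_one] at hcard
    omega
  obtain ⟨b, hb⟩ : ∃ b : H, b = y₀.1 := ⟨_, rfl⟩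
  have hb1 : b ≠ 1 := by
    intro h
    apply hu1
    have : y₀ = 1 := Subtype.ext (by rw [← hb, h]; rfl)
    rw [this, map_one]
  have hχ : χ (ι y₀) ≠ 1 := by
    rw [hφdef] at hu1
    exact hu1
  obtain ⟨hbU, hbB⟩ := hB3 (ι y₀) hχ
  have hιb : ((ι y₀ : B) : Matrix.ProjectiveSpecialLinearGroup (Fin 2) F) =
      (b : Matrix.ProjectiveSpecialLinearGroup (Fin 2) F) := by
    rw [hb]
    rfl
  rw [hιb] at hbU hbB
  have hble : hTorus H b ≤ N := by
    intro z hz
    rw [hNB]
    exact hbB ((mem_hTorus H b z).mp hz)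
  refine ⟨b, hb1, hbU, hble, ?_⟩
  have hb_mem : b ∈ hTorus H b := (mem_hTorus H b b).mpr (self_mem_torusOf _)
  have hbcard : Nat.card (hTorus H b) = Nat.card φ.range := by
    obtain ⟨ψ, hψdef⟩ : ∃ ψ : hTorus H b →* Fˣ, ψ = φ.comp (Subgroup.inclusion hble) := ⟨_, rfl⟩
    have hinj : Function.Injective ψ := by
      rw [injective_iff_map_eq_one]
      intro z hz
      rw [hψdef] at hz
      have h1 : (Subgroup.inclusion hble z).1 ∈ hTorus H a := (hφ _).mp hz
      have h1' : (z.1 : H) ∈ hTorus H a := h1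
      by_contra hz1
      have hz1' : (z.1 : H) ≠ 1 := fun h => hz1 (Subtype.ext h)
      have e1 := hTorus_eq_of_mem H a z.1 ha hz1' h1'
      have e2 := hTorus_eq_of_mem H b z.1 hb1 hz1' z.2
      apply hu1
      rw [hφ, ← hb, ← e1, e2]
      exact hb_mem
    have hψb : ψ ⟨b, hb_mem⟩ = φ y₀ := by
      rw [hψdef]
      show φ (Subgroup.inclusion hble ⟨b, hb_mem⟩) = φ y₀
      congr 1
      apply Subtype.ext
      exact hb
    have hrange : ψ.range = φ.range := by
      apply le_antisymm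
      · rintro _ ⟨z, rfl⟩
        rw [hψdef]
        exact ⟨_, rfl⟩
      · intro v hv
        obtain ⟨n, hn⟩ := Subgroup.mem_zpowers_iff.mp (hu ⟨v, hv⟩)
        refine ⟨⟨b, hb_mem⟩ ^ n, ?_⟩
        rw [map_zpow, hψb, hy₀]
        have h5 := congrArg Subtype.val hn
        rw [Subgroup.coe_zpow] at h5
        exact h5
    rw [← hrange]
    exact Nat.card_congr (MonoidHom.ofInjective hinj).toEquiv
  rw [hbcard, hcard, mul_comm]

/-- the Dickson partition of a subgroup of `PSL₂(F)` -/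
noncomputable def dpartOf (p : ℕ) [Fact p.Prime] [CharP F p] [Finite F]
    (H : Subgroup (Matrix.ProjectiveSpecialLinearGroup (Fin 2) F)) : DPart H where
  M := hTorus H
  isU a := IsUni (a : Matrix.ProjectiveSpecialLinearGroup (Fin 2) F)
  mem_self a := (mem_hTorus H a a).mpr (self_mem_torusOf _)
  eq_of_mem := hTorus_eq_of_mem H
  conj := hTorus_conj H
  isU_conj g a h := isUni_conj _ _ h
  isU_of_mem a b ha hb h hU := isUni_of_mem_torusOf hU (coe_ne_one hb) ((mem_hTorus H a b).mp h)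
  torus_index a ha haU := hTorus_index H a ha haU
  U_conj a b ha hb haU hbU := hTorus_U_conj p H a b haU hbU
  U_comm a b ha haU hb hab :=
    (mem_hTorus H a b).mpr (mem_torusOf_of_comm haU (congrArg Subtype.val hab))
  U_compl a ha haU hlt := hTorus_U_compl H a ha haU hlt

end Cfsg.Agent.Lib.Helper41
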