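import Mathlib
import Cfsg.Agent.Lib.Helper41.DicksonInst2
import Cfsg.Agent.Lib.Helper54.Dihedral
import Cfsg.Agent.S0228
import Cfsg.Agent.S1012
import Cfsg.Agent.S0494

set_option autoImplicit false

namespace Cfsg.Agent.Lib.Helper41

open Matrix

variable {F : Type*} [Field F]

/-- a subgroup of a cyclic subgroup is cyclic -/
theorem isCyclic_of_le {G : Type*} [Group G] {H K : Subgroup G} (hle : H ≤ K) [IsCyclic K] :
    IsCyclic H := by
  haveI : IsCyclic (H.subgroupOf K) := inferInstance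
  exact isCyclic_of_surjective (Subgroup.subgroupOfEquivOfLe hle)
    (Subgroup.subgroupOfEquivOfLe hle).surjective

/-- the cyclic case -/
theorem recog_cyclic [Fintype F] (p : ℕ) [Fact p.Prime] [CharP F p]
    (H : Subgroup (Matrix.ProjectiveSpecialLinearGroup (Fin 2) F))
    {x : Matrix.ProjectiveSpecialLinearGroup (Fin 2) F} (hx : x ≠ 1) (hxU : ¬ IsUni x)
    (hle : H ≤ torusOf x) :
    IsCyclic H ∧ (Nat.card H ∣ (Fintype.card F + 1) / Nat.gcd 2 (Fintype.card F - 1) ∨
      Nat.card H ∣ (Fintype.card F - 1) / Nat.gcd 2 (Fintype.card F - 1)) := by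
  haveI := isCyclic_torusOf hx hxU
  refine ⟨isCyclic_of_le hle, ?_⟩
  have h1 := Subgroup.card_dvd_of_le hle
  rcases card_torusOf_dvd p hx hxU with h | h
  · right
    exact h1.trans h
  · left
    exact h1.trans h

theorem hTorus_le (H : Subgroup (Matrix.ProjectiveSpecialLinearGroup (Fin 2) F)) (a : H) :
    (hTorus H a).map H.subtype ≤ torusOf (a : Matrix.ProjectiveSpecialLinearGroup (Fin 2) F) := by
  rintro _ ⟨y, hy, rfl⟩
  exact (mem_hTorus H a y).mp hy

/-- the dihedral case -/
theorem recog_dihedral [Fintype F] (p : ℕ) [Fact p.Prime] [CharP F p]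
    (H : Subgroup (Matrix.ProjectiveSpecialLinearGroup (Fin 2) F)) (a : H) (ha : a ≠ 1)
    (haU : ¬ IsUni (a : Matrix.ProjectiveSpecialLinearGroup (Fin 2) F))
    (hcard : 2 * Nat.card (hTorus H a) = Nat.card H) :
    ∃ k : ℕ, (k ∣ (Fintype.card F + 1) / Nat.gcd 2 (Fintype.card F - 1) ∨
        k ∣ (Fintype.card F - 1) / Nat.gcd 2 (Fintype.card F - 1)) ∧
      Nonempty (H ≃* DihedralGroup k) := by
  classical
  haveI : Finite H := inferInstance
  have hcyc := recog_cyclic p ((hTorus H a).map H.subtype) (coe_ne_one ha) haU (hTorus_le H a)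
  have hcardmap : Nat.card ((hTorus H a).map H.subtype) = Nat.card (hTorus H a) :=
    Nat.card_congr (Subgroup.equivMapOfInjective _ _ H.subtype_injective).symm.toEquiv
  rw [hcardmap] at hcyc
  refine ⟨Nat.card (hTorus H a), hcyc.2, ?_⟩
  haveI : IsCyclic (hTorus H a) := by
    haveI := hcyc.1
    exact isCyclic_of_surjective (Subgroup.equivMapOfInjective _ _ H.subtype_injective).symm
      (Subgroup.equivMapOfInjective _ _ H.subtype_injective).symm.surjective
  obtain ⟨g, hg⟩ := IsCyclic.exists_generator (α := hTorus H a)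
  have hord : orderOf (g.1 : H) = Nat.card (hTorus H a) := by
    rw [Subgroup.orderOf_coe, orderOf_eq_card_of_forall_mem_zpowers hg]
  have hzp : ∀ y : H, y ∈ Subgroup.zpowers (g.1 : H) ↔ y ∈ hTorus H a := by
    intro y
    constructor
    · intro hy
      obtain ⟨n, rfl⟩ := Subgroup.mem_zpowers_iff.mp hy
      exact zpow_mem g.2 n
    · intro hy
      obtain ⟨n, hn⟩ := Subgroup.mem_zpowers_iff.mp (hg ⟨y, hy⟩)
      rw [Subgroup.mem_zpowers_iff]
      refine ⟨n, ?_⟩
      have := congrArg Subtype.val hn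
      rw [Subgroup.coe_zpow] at this
      exact this
  -- the torus has index 2, hence is normal
  have hidx : (hTorus H a).index = 2 := by
    have h1 := Subgroup.card_mul_index (hTorus H a)
    have hpos : 0 < Nat.card (hTorus H a) := Nat.card_pos
    rw [← hcard, mul_comm 2] at h1
    exact Nat.eq_of_mul_eq_mul_left hpos h1
  haveI : (hTorus H a).Normal := Subgroup.normal_of_index_eq_two hidx
  -- an element outside
  obtain ⟨x, hx⟩ : ∃ x : H, x ∉ hTorus H a := by
    by_contra hcon
    push Not at hcon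
    have : hTorus H a = ⊤ := (Subgroup.eq_top_iff' _).mpr hcon
    rw [this, Subgroup.index_top] at hidx
    omega
  have hxa : (x : Matrix.ProjectiveSpecialLinearGroup (Fin 2) F) * a *
      (x : Matrix.ProjectiveSpecialLinearGroup (Fin 2) F)⁻¹ ∈
      torusOf (a : Matrix.ProjectiveSpecialLinearGroup (Fin 2) F) := by
    have h1 : x * a * x⁻¹ ∈ hTorus H a :=
      ‹(hTorus H a).Normal›.conj_mem a ((mem_hTorus H a a).mpr (self_mem_torusOf _)) x
    exact (mem_hTorus H a _).mp h1
  rcases torus_normalizer_cases (coe_ne_one ha) haU hxa with h | ⟨hxx, hinv⟩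
  · exact absurd ((mem_hTorus H a x).mpr h) hx
  · apply Cfsg.Agent.Lib.Helper54.nonempty_mulEquiv_dihedralGroup (x := x) (a := (g.1 : H))
    · apply Subtype.ext
      rw [pow_two]
      exact hxx
    · exact hord
    · exact hcard.symm
    · rw [hzp]
      exact hx
    · apply Subtype.ext
      exact hinv _ ((mem_hTorus H a g.1).mp g.2)

/-- the torus of a unipotent element is a Sylow `p`-subgroup of `PSL₂(F)` -/
noncomputable def psl2Sylow (p : ℕ) [Fact p.Prime] [CharP F p] [Finite F]
    (a : Matrix.ProjectiveSpecialLinearGroup (Fin 2) F) (haU : IsUni a) :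
    Sylow p (Matrix.ProjectiveSpecialLinearGroup (Fin 2) F) where
  toSubgroup := torusOf a
  isPGroup' := isPGroup_torusOf p haU
  is_maximal' := by
    intro Q hQ hle
    exact le_antisymm (le_torusOf_of_isPGroup p Q hQ (hle (self_mem_torusOf a)) haU) hle

/-- the Borel case -/
theorem recog_borel [Finite F] (p : ℕ) [Fact p.Prime] [CharP F p]
    (H : Subgroup (Matrix.ProjectiveSpecialLinearGroup (Fin 2) F)) (a : H) (ha : a ≠ 1)
    (haU : IsUni (a : Matrix.ProjectiveSpecialLinearGroup (Fin 2) F))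
    (hN : Subgroup.normalizer ((hTorus H a : Subgroup H) : Set H) = ⊤) :
    ∃ (P : Sylow p (Matrix.ProjectiveSpecialLinearGroup (Fin 2) F))
      (K : Subgroup (Matrix.ProjectiveSpecialLinearGroup (Fin 2) F)),
      K ≤ Subgroup.normalizer ((P : Subgroup (Matrix.ProjectiveSpecialLinearGroup (Fin 2) F)) :
        Set (Matrix.ProjectiveSpecialLinearGroup (Fin 2) F)) ∧ Nonempty (H ≃* K) := by
  refine ⟨psl2Sylow p a haU, H, ?_, ⟨MulEquiv.refl _⟩⟩
  intro h hh
  have h1 : (⟨h, hh⟩ : H) ∈ Subgroup.normalizer ((hTorus H a : Subgroup H) : Set H) := by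
    rw [hN]
    exact Subgroup.mem_top _
  rw [mem_normalizer_hTorus H ha] at h1
  have h2 : torusOf (h * (a : Matrix.ProjectiveSpecialLinearGroup (Fin 2) F) * h⁻¹) =
      torusOf (a : Matrix.ProjectiveSpecialLinearGroup (Fin 2) F) :=
    torusOf_eq_of_mem (coe_ne_one ha) (DPart.conj_ne_one (coe_ne_one ha)) h1
  rw [torusOf_conj] at h2
  show h ∈ Subgroup.normalizer ((torusOf (a : Matrix.ProjectiveSpecialLinearGroup (Fin 2) F) :
    Subgroup (Matrix.ProjectiveSpecialLinearGroup (Fin 2) F)) :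
      Set (Matrix.ProjectiveSpecialLinearGroup (Fin 2) F))
  rw [Subgroup.mem_normalizer_iff_map_conj_eq]
  exact h2

/-- the `A₄` case -/
theorem recog_A4 (H : Subgroup (Matrix.ProjectiveSpecialLinearGroup (Fin 2) F)) [Finite H]
    (hcard : Nat.card H = 12)
    (h : ∀ b : H, b ≠ 1 → Subgroup.normalizer ((hTorus H b : Subgroup H) : Set H) ≠ ⊤) :
    Nonempty (H ≃* alternatingGroup (Fin 4)) := by
  apply Cfsg.Agent.S0228.result hcard
  intro z hz hzc
  have hz1 : z ≠ 1 := by
    rintro rfl
    rw [orderOf_one] at hz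
    omega
  apply h z hz1
  rw [Subgroup.eq_top_iff']
  intro g
  rw [mem_normalizer_hTorus H hz1]
  have h1 : g * z * g⁻¹ = z := by
    rw [Subgroup.mem_center_iff] at hzc
    rw [hzc g]
    group
  have h2 : (g : Matrix.ProjectiveSpecialLinearGroup (Fin 2) F) * z *
      (g : Matrix.ProjectiveSpecialLinearGroup (Fin 2) F)⁻¹ = z := congrArg Subtype.val h1
  rw [h2]
  exact self_mem_torusOf _

/-- the `S₄` case -/
theorem recog_S4 (H : Subgroup (Matrix.ProjectiveSpecialLinearGroup (Fin 2) F)) [Finite H]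
    (hcard : Nat.card H = 24) (h : ∀ b : H, b ≠ 1 → Nat.card (hTorus H b) ≤ 4) :
    Nonempty (H ≃* Equiv.Perm (Fin 4)) := by
  apply Cfsg.Agent.S1012.result hcard
  intro g hg
  have hg1 : g ≠ 1 := by
    rintro rfl
    rw [orderOf_one] at hg
    omega
  have h1 := h g hg1
  have hmem : g ∈ hTorus H g := (mem_hTorus H g g).mpr (self_mem_torusOf _)
  have h2 : orderOf (⟨g, hmem⟩ : hTorus H g) ∣ Nat.card (hTorus H g) := orderOf_dvd_natCard _
  rw [← Subgroup.orderOf_coe, hg] at h2
  have hpos : 0 < Nat.card (hTorus H g) := Nat.card_pos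
  have := Nat.le_of_dvd hpos h2
  omega

end Cfsg.Agent.Lib.Helper41
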