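import Mathlib
import Cfsg.Agent.Lib.Helper41.DicksonRecog

set_option autoImplicit false

namespace Cfsg.Agent.Lib.Helper41

open Matrix

variable {F : Type*} [Field F]

/-- simultaneous normal form of a unipotent element and an element normalizing, but not
centralizing, it -/
theorem frame_pair (A B : Matrix.SpecialLinearGroup (Fin 2) F)
    (hA : A ∉ Subgroup.center (Matrix.SpecialLinearGroup (Fin 2) F))
    (hτ : A.1.trace * A.1.trace = 4)
    (hBA : B * A * B⁻¹ ∈ Subgroup.centralizer ({A} : Set (Matrix.SpecialLinearGroup (Fin 2) F)))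
    (hB : B ∉ Subgroup.centralizer ({A} : Set (Matrix.SpecialLinearGroup (Fin 2) F))) :
    ∃ (Γ : Matrix.SpecialLinearGroup (Fin 2) F) (σ s : F) (t : Fˣ), s ≠ 0 ∧
      (t : F) ≠ ((t⁻¹ : Fˣ) : F) ∧
      (Γ * A * Γ⁻¹ : Matrix.SpecialLinearGroup (Fin 2) F).1 = !![σ, s; 0, σ] ∧
      Γ * B * Γ⁻¹ = diagD t := by
  obtain ⟨P, σ, s, hs, hP⟩ := unipotent_std_form A hA hτ
  have h1 : (P * B * P⁻¹) * (P * A * P⁻¹) * (P * B * P⁻¹)⁻¹ ∈
      Subgroup.centralizer ({P * A * P⁻¹} : Set (Matrix.SpecialLinearGroup (Fin 2) F)) := by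
    have e : (P * B * P⁻¹) * (P * A * P⁻¹) * (P * B * P⁻¹)⁻¹ = P * (B * A * B⁻¹) * P⁻¹ := by
      group
    rw [e, conj_mem_centralizer_iff]
    exact hBA
  rw [std_conj_mem_iff _ _ σ s hs hP] at h1
  have h2 : (P * B * P⁻¹ : Matrix.SpecialLinearGroup (Fin 2) F).1 0 0 ≠
      (P * B * P⁻¹ : Matrix.SpecialLinearGroup (Fin 2) F).1 1 1 := by
    intro h
    apply hB
    rw [← conj_mem_centralizer_iff P A B, std_mem_centralizer_iff _ _ σ s hs hP]
    exact ⟨h1, h⟩
  obtain ⟨B', hB'⟩ : ∃ B' : Matrix.SpecialLinearGroup (Fin 2) F, B' = P * B * P⁻¹ := ⟨_, rfl⟩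
  rw [← hB'] at h1 h2
  have hd := sl2_det_entries B'
  rw [h1, mul_zero, sub_zero] at hd
  have hne : B'.1 0 0 ≠ 0 := by
    intro h
    rw [h, zero_mul] at hd
    exact zero_ne_one hd
  have h11 : B'.1 1 1 = (B'.1 0 0)⁻¹ := by
    field_simp
    linear_combination hd
  have hsub : B'.1 0 0 - B'.1 1 1 ≠ 0 := sub_ne_zero.mpr h2
  obtain ⟨r, hr⟩ : ∃ r : F, r = B'.1 0 1 / (B'.1 0 0 - B'.1 1 1) := ⟨_, rfl⟩
  have hr' : r * (B'.1 0 0 - B'.1 1 1) = B'.1 0 1 := by
    rw [hr]
    field_simp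
  obtain ⟨t, ht⟩ : ∃ t : Fˣ, (t : F) = B'.1 0 0 := ⟨Units.mk0 _ hne, rfl⟩
  refine ⟨upperU r * P, σ, s, t, hs, ?_, ?_, ?_⟩
  · rw [Units.val_inv_eq_inv_val, ht, ← h11]
    exact h2
  · have e : upperU r * P * A * (upperU r * P)⁻¹ = upperU r * (P * A * P⁻¹) * (upperU r)⁻¹ := by
      group
    rw [e, Matrix.SpecialLinearGroup.coe_mul, Matrix.SpecialLinearGroup.coe_mul,
      Matrix.SpecialLinearGroup.coe_inv, Matrix.adjugate_fin_two, hP, upperU_coe]
    ext i j
    fin_cases i <;> fin_cases j <;> simp [Matrix.mul_apply, Fin.sum_univ_two]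
    ring
  · have e : upperU r * P * B * (upperU r * P)⁻¹ = upperU r * B' * (upperU r)⁻¹ := by
      rw [hB']
      group
    rw [e]
    apply Subtype.ext
    have hBe : B'.1 = !![B'.1 0 0, B'.1 0 1; 0, B'.1 1 1] := by
      ext i j
      fin_cases i <;> fin_cases j <;> simp [h1]
    rw [Matrix.SpecialLinearGroup.coe_mul, Matrix.SpecialLinearGroup.coe_mul,
      Matrix.SpecialLinearGroup.coe_inv, Matrix.adjugate_fin_two, upperU_coe, diagD_coe, hBe]
    ext i j
    fin_cases i <;> fin_cases j <;> simp [Matrix.mul_apply, Fin.sum_univ_two, ht]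
    · linear_combination -hr'
    · exact h11

/-- the centralizer of a regular diagonal element consists of the diagonal elements -/
theorem diag_mem_centralizer_iff (g : Matrix.SpecialLinearGroup (Fin 2) F) (t : Fˣ)
    (ht : (t : F) ≠ ((t⁻¹ : Fˣ) : F)) :
    g ∈ Subgroup.centralizer ({diagD t} : Set (Matrix.SpecialLinearGroup (Fin 2) F)) ↔
      g.1 0 1 = 0 ∧ g.1 1 0 = 0 := by
  rw [Subgroup.mem_centralizer_singleton_iff]
  have hsub : (t : F) - ((t⁻¹ : Fˣ) : F) ≠ 0 := sub_ne_zero.mpr ht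
  constructor
  · intro h
    have h' : g.1 * (diagD t).1 = (diagD t).1 * g.1 := by
      rw [← Matrix.SpecialLinearGroup.coe_mul, ← Matrix.SpecialLinearGroup.coe_mul, h]
    rw [diagD_coe] at h'
    have h01 := congrFun (congrFun h' 0) 1
    have h10 := congrFun (congrFun h' 1) 0
    simp [Matrix.mul_apply, Fin.sum_univ_two] at h01 h10
    constructor
    · have : g.1 0 1 * ((t : F) - ((t⁻¹ : Fˣ) : F)) = 0 := by
        rw [Units.val_inv_eq_inv_val]
        linear_combination -h01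
      exact (mul_eq_zero.mp this).resolve_right hsub
    · have : g.1 1 0 * ((t : F) - ((t⁻¹ : Fˣ) : F)) = 0 := by
        rw [Units.val_inv_eq_inv_val]
        linear_combination h10
      exact (mul_eq_zero.mp this).resolve_right hsub
  · rintro ⟨h01, h10⟩
    apply Subtype.ext
    rw [Matrix.SpecialLinearGroup.coe_mul, Matrix.SpecialLinearGroup.coe_mul, diagD_coe]
    ext i j
    fin_cases i <;> fin_cases j <;> simp [Matrix.mul_apply, Fin.sum_univ_two, h01, h10]
    · ring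
    · ring

/-- a diagonal element of `SL₂` is a `diagD` -/
theorem eq_diagD_of_diag (g : Matrix.SpecialLinearGroup (Fin 2) F) (h01 : g.1 0 1 = 0)
    (h10 : g.1 1 0 = 0) : ∃ t : Fˣ, (t : F) = g.1 0 0 ∧ g = diagD t := by
  have hd := sl2_det_entries g
  rw [h10, mul_zero, sub_zero] at hd
  have hne : g.1 0 0 ≠ 0 := by
    intro h
    rw [h, zero_mul] at hd
    exact zero_ne_one hd
  refine ⟨Units.mk0 _ hne, rfl, ?_⟩
  apply Subtype.ext
  rw [diagD_coe]
  ext i j
  fin_cases i <;> fin_cases j <;> simp [h01, h10]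
  field_simp
  linear_combination hd

/-- `diagD t` and `diagD (-t)` have the same image in `PSL₂` -/
theorem mk_diag_eq_of_sign (g : Matrix.SpecialLinearGroup (Fin 2) F) (h01 : g.1 0 1 = 0)
    (h10 : g.1 1 0 = 0) (t : Fˣ) (h : g.1 0 0 = (t : F) ∨ g.1 0 0 = -(t : F)) :
    (QuotientGroup.mk g : Matrix.ProjectiveSpecialLinearGroup (Fin 2) F) =
      QuotientGroup.mk (diagD t) := by
  have hd := sl2_det_entries g
  rw [h10, mul_zero, sub_zero] at hd
  rw [psl2_mk_eq_iff, diagD_coe]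
  have ht : (t : F) ≠ 0 := t.ne_zero
  rcases h with h | h
  · left
    rw [h] at hd
    have h11 : g.1 1 1 = (t : F)⁻¹ := eq_inv_of_mul_eq_one_right hd
    ext i j
    fin_cases i <;> fin_cases j <;> simp [h01, h10, h, h11]
  · right
    rw [h] at hd
    have h11 : g.1 1 1 = -(t : F)⁻¹ := by
      rw [← inv_neg]
      exact eq_inv_of_mul_eq_one_right hd
    ext i j
    fin_cases i <;> fin_cases j <;> simp [h01, h10, h, h11]

/-- an upper unitriangular-up-to-sign element is a `upperU` in `PSL₂` -/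
theorem mk_eq_upperU_of_upper (g : Matrix.SpecialLinearGroup (Fin 2) F) (h10 : g.1 1 0 = 0)
    (h : g.1 0 0 = g.1 1 1) :
    ∃ c : F, (QuotientGroup.mk g : Matrix.ProjectiveSpecialLinearGroup (Fin 2) F) =
      QuotientGroup.mk (upperU c) := by
  have hd := sl2_det_entries g
  rw [h10, mul_zero, sub_zero, ← h] at hd
  have h' : (g.1 0 0 - 1) * (g.1 0 0 + 1) = 0 := by linear_combination hd
  rcases mul_eq_zero.mp h' with h1 | h1
  · refine ⟨g.1 0 1, ?_⟩
    rw [psl2_mk_eq_iff, upperU_coe]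
    left
    have h00 : g.1 0 0 = 1 := sub_eq_zero.mp h1
    ext i j
    fin_cases i <;> fin_cases j <;> simp [h10, ← h, h00]
  · refine ⟨-g.1 0 1, ?_⟩
    rw [psl2_mk_eq_iff, upperU_coe]
    right
    have h00 : g.1 0 0 = -1 := eq_neg_of_add_eq_zero_left h1
    ext i j
    fin_cases i <;> fin_cases j <;> simp [h10, ← h, h00]

theorem upperU_injective_mk (c c' : F)
    (h : (QuotientGroup.mk (upperU c) : Matrix.ProjectiveSpecialLinearGroup (Fin 2) F) =
      QuotientGroup.mk (upperU c')) : c = c' := by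
  rw [psl2_mk_eq_iff, upperU_coe, upperU_coe] at h
  rcases h with h | h
  · have := congrFun (congrFun h 0) 1
    simpa using this.symm
  · have h00 := congrFun (congrFun h 0) 0
    have h01 := congrFun (congrFun h 0) 1
    simp at h00 h01
    have h2 : (2 : F) = 0 := by linear_combination h00
    linear_combination -h01 + c * h2

/-- product decomposition from a counting argument -/
theorem exists_mul_of_card {G : Type*} [Group G] [Finite G] (Q K N : Subgroup G)
    (hQ : Q ≤ N) (hK : K ≤ N) (hQK : ∀ u, u ∈ Q → u ∈ K → u = 1)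
    (hcard : Nat.card K * Nat.card Q = Nat.card N) (n : G) (hn : n ∈ N) :
    ∃ u ∈ Q, ∃ κ ∈ K, n = u * κ := by
  let f : Q × K → N := fun x => ⟨x.1.1 * x.2.1, N.mul_mem (hQ x.1.2) (hK x.2.2)⟩
  have hinj : Function.Injective f := by
    rintro ⟨⟨u, hu⟩, ⟨κ, hκ⟩⟩ ⟨⟨u', hu'⟩, ⟨κ', hκ'⟩⟩ h
    have h' : u * κ = u' * κ' := congrArg Subtype.val h
    have h1 : u'⁻¹ * u = κ' * κ⁻¹ := by
      rw [inv_mul_eq_iff_eq_mul, ← mul_assoc, ← h', mul_inv_cancel_right]
    have h2 : u'⁻¹ * u = 1 := hQK _ (Q.mul_mem (Q.inv_mem hu') hu) (by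
      rw [h1]
      exact K.mul_mem hκ' (K.inv_mem hκ))
    have h3 : u = u' := by
      rw [inv_mul_eq_one] at h2
      exact h2.symm
    have h4 : κ = κ' := by
      rw [h3] at h'
      exact mul_left_cancel h'
    subst h3
    subst h4
    rfl
  have hbij : Function.Bijective f := by
    apply Function.Injective.bijective_of_nat_card_le hinj
    rw [Nat.card_prod, ← hcard, mul_comm]
  obtain ⟨⟨u, κ⟩, h⟩ := hbij.2 ⟨n, hn⟩
  exact ⟨u.1, u.2, κ.1, κ.2, (congrArg Subtype.val h).symm⟩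

end Cfsg.Agent.Lib.Helper41
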