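import Mathlib
import Cfsg.Agent.Lib.Helper41.DicksonFrame
import Cfsg.Agent.Lib.Helper89.DicksonLie

set_option autoImplicit false

namespace Cfsg.Agent.Lib.Helper41

open Matrix

variable {F : Type*} [Field F]

/-- the Lie-type case of Dickson's theorem, in standard position -/
theorem recog_lie_std [Fintype F]
    (H : Subgroup (Matrix.ProjectiveSpecialLinearGroup (Fin 2) F))
    (A : Matrix.SpecialLinearGroup (Fin 2) F) (σ s : F) (t₀ : Fˣ) (hs : s ≠ 0)
    (hA : A.1 = !![σ, s; 0, σ]) (ht₀ : (t₀ : F) ≠ ((t₀⁻¹ : Fˣ) : F))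
    (a b : H)
    (haA : (a : Matrix.ProjectiveSpecialLinearGroup (Fin 2) F) = QuotientGroup.mk A)
    (hbD : (b : Matrix.ProjectiveSpecialLinearGroup (Fin 2) F) = QuotientGroup.mk (diagD t₀))
    (ha : a ≠ 1) (haU : IsUni (a : Matrix.ProjectiveSpecialLinearGroup (Fin 2) F))
    (hb : b ≠ 1) (hbU : ¬ IsUni (b : Matrix.ProjectiveSpecialLinearGroup (Fin 2) F))
    (e : ℕ)
    (hle : hTorus H b ≤ Subgroup.normalizer ((hTorus H a : Subgroup H) : Set H))
    (hcardN : Nat.card (hTorus H b) * Nat.card (hTorus H a) =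
      Nat.card (Subgroup.normalizer ((hTorus H a : Subgroup H) : Set H)))
    (hlt : Nat.card (hTorus H b) <
      Nat.card (Subgroup.normalizer ((hTorus H b : Subgroup H) : Set H)))
    (he : e = 1 ∨ e = 2)
    (hH : e * Nat.card H = Nat.card (hTorus H a) * (Nat.card (hTorus H a) ^ 2 - 1))
    (hk : e * Nat.card (hTorus H b) + 1 = Nat.card (hTorus H a)) :
    ∃ (K : Type) (_ : Field K) (_ : Fintype K) (m : ℕ), Fintype.card K ^ m = Fintype.card F ∧
      (Nonempty (H ≃* Matrix.ProjectiveSpecialLinearGroup (Fin 2) K) ∨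
        Nonempty (H ≃* Matrix.ProjGenLinGroup (Fin 2) K)) := by
  classical
  have S1 : ∀ Y : Matrix.SpecialLinearGroup (Fin 2) F,
      (QuotientGroup.mk Y : Matrix.ProjectiveSpecialLinearGroup (Fin 2) F) ∈
        torusOf (a : Matrix.ProjectiveSpecialLinearGroup (Fin 2) F) ↔
        Y.1 1 0 = 0 ∧ Y.1 0 0 = Y.1 1 1 := by
    intro Y
    rw [haA, torusOf_mk, mk_mem_cenIm, std_mem_centralizer_iff Y A σ s hs hA]
  have S2 : ∀ Y : Matrix.SpecialLinearGroup (Fin 2) F,
      (QuotientGroup.mk Y : Matrix.ProjectiveSpecialLinearGroup (Fin 2) F) ∈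
        torusOf (b : Matrix.ProjectiveSpecialLinearGroup (Fin 2) F) ↔
        Y.1 0 1 = 0 ∧ Y.1 1 0 = 0 := by
    intro Y
    rw [hbD, torusOf_mk, mk_mem_cenIm, diag_mem_centralizer_iff Y t₀ ht₀]
  have S3 : ∀ Y : Matrix.SpecialLinearGroup (Fin 2) F,
      (QuotientGroup.mk Y : Matrix.ProjectiveSpecialLinearGroup (Fin 2) F) *
        (a : Matrix.ProjectiveSpecialLinearGroup (Fin 2) F) *
        (QuotientGroup.mk Y : Matrix.ProjectiveSpecialLinearGroup (Fin 2) F)⁻¹ ∈
        torusOf (a : Matrix.ProjectiveSpecialLinearGroup (Fin 2) F) ↔ Y.1 1 0 = 0 := by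
    intro Y
    have e1 : (QuotientGroup.mk Y : Matrix.ProjectiveSpecialLinearGroup (Fin 2) F) *
        (a : Matrix.ProjectiveSpecialLinearGroup (Fin 2) F) *
        (QuotientGroup.mk Y : Matrix.ProjectiveSpecialLinearGroup (Fin 2) F)⁻¹ =
        QuotientGroup.mk (Y * A * Y⁻¹) := by
      rw [haA]
      rfl
    rw [e1, haA, torusOf_mk, mk_mem_cenIm, std_conj_mem_iff Y A σ s hs hA]
  have hfinH : Finite H := inferInstance
  apply Cfsg.Agent.Lib.Helper89.dickson_lie_type H (Nat.card (hTorus H a)) e he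
  · -- 3 ≤ q₀
    have h2 : 2 ≤ Nat.card (hTorus H b) := by
      have h : 1 < Nat.card (hTorus H b) := by
        rw [Subgroup.one_lt_card_iff_ne_bot]
        intro hbot
        have := (mem_hTorus H b b).mpr (self_mem_torusOf _)
        rw [hbot, Subgroup.mem_bot] at this
        exact hb this
      omega
    rcases he with rfl | rfl <;> omega
  · -- hQ
    have hequiv : {c : F // (QuotientGroup.mk (upperU c) :
        Matrix.ProjectiveSpecialLinearGroup (Fin 2) F) ∈ H} ≃ hTorus H a := by
      refine Equiv.ofBijective (fun c => ⟨⟨QuotientGroup.mk (upperU c.1), c.2⟩, ?_⟩) ⟨?_, ?_⟩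
      · rw [mem_hTorus]
        show (QuotientGroup.mk (upperU c.1) : Matrix.ProjectiveSpecialLinearGroup (Fin 2) F) ∈
          torusOf (a : Matrix.ProjectiveSpecialLinearGroup (Fin 2) F)
        rw [S1]
        simp [upperU_coe]
      · intro c c' h
        have h' : (QuotientGroup.mk (upperU c.1) :
            Matrix.ProjectiveSpecialLinearGroup (Fin 2) F) = QuotientGroup.mk (upperU c'.1) :=
          congrArg (fun z => z.1.1) h
        exact Subtype.ext (upperU_injective_mk _ _ h')
      · rintro ⟨y, hy⟩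
        rw [mem_hTorus] at hy
        obtain ⟨Y, hY⟩ := QuotientGroup.mk_surjective (y : Matrix.ProjectiveSpecialLinearGroup (Fin 2) F)
        rw [← hY, S1] at hy
        obtain ⟨c, hc⟩ := mk_eq_upperU_of_upper Y hy.1 hy.2
        refine ⟨⟨c, ?_⟩, ?_⟩
        · rw [← hc, hY]
          exact y.2
        · apply Subtype.ext
          apply Subtype.ext
          show (QuotientGroup.mk (upperU c) : Matrix.ProjectiveSpecialLinearGroup (Fin 2) F) = y.1
          rw [← hc, hY]
    exact Nat.card_congr hequiv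
  · -- hK
    have hequiv : {h : Matrix.ProjectiveSpecialLinearGroup (Fin 2) F //
        h ∈ H ∧ ∃ t : Fˣ, h = QuotientGroup.mk (diagD t)} ≃ hTorus H b := by
      refine Equiv.ofBijective (fun h => ⟨⟨h.1, h.2.1⟩, ?_⟩) ⟨?_, ?_⟩
      · rw [mem_hTorus]
        obtain ⟨t, ht⟩ := h.2.2
        show h.1 ∈ torusOf (b : Matrix.ProjectiveSpecialLinearGroup (Fin 2) F)
        rw [ht, S2]
        simp [diagD_coe]
      · intro h h' hh
        exact Subtype.ext (congrArg (fun z => z.1.1) hh)
      · rintro ⟨y, hy⟩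
        rw [mem_hTorus] at hy
        obtain ⟨Y, hY⟩ := QuotientGroup.mk_surjective (y : Matrix.ProjectiveSpecialLinearGroup (Fin 2) F)
        rw [← hY, S2] at hy
        obtain ⟨t, -, ht⟩ := eq_diagD_of_diag Y hy.1 hy.2
        refine ⟨⟨y.1, y.2, t, ?_⟩, ?_⟩
        · rw [← hY, ht]
        · rfl
    rw [Nat.card_congr hequiv]
    omega
  · -- hB
    intro X t hX h10 h00
    have hy : (⟨QuotientGroup.mk X, hX⟩ : H) ∈
        Subgroup.normalizer ((hTorus H a : Subgroup H) : Set H) := by
      rw [mem_normalizer_hTorus H ha]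
      exact (S3 X).mpr h10
    have hQK : ∀ u : H, u ∈ hTorus H a → u ∈ hTorus H b → u = 1 := by
      intro u hu hκ
      by_contra hne
      rw [mem_hTorus] at hu hκ
      have huU : IsUni (u : Matrix.ProjectiveSpecialLinearGroup (Fin 2) F) :=
        isUni_of_mem_torusOf haU (coe_ne_one hne) hu
      have h1 : torusOf (u : Matrix.ProjectiveSpecialLinearGroup (Fin 2) F) =
          torusOf (b : Matrix.ProjectiveSpecialLinearGroup (Fin 2) F) :=
        torusOf_eq_of_mem (coe_ne_one hb) (coe_ne_one hne) hκ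
      have h2 : (b : Matrix.ProjectiveSpecialLinearGroup (Fin 2) F) ∈
          torusOf (u : Matrix.ProjectiveSpecialLinearGroup (Fin 2) F) := by
        rw [h1]
        exact self_mem_torusOf _
      exact hbU (isUni_of_mem_torusOf huU (coe_ne_one hb) h2)
    obtain ⟨u, hu, κ, hκ, huκ⟩ := exists_mul_of_card (hTorus H a) (hTorus H b) _
      Subgroup.le_normalizer hle hQK hcardN _ hy
    rw [mem_hTorus] at hu hκ
    obtain ⟨U, hU⟩ := QuotientGroup.mk_surjective (u : Matrix.ProjectiveSpecialLinearGroup (Fin 2) F)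
    obtain ⟨D, hD⟩ := QuotientGroup.mk_surjective (κ : Matrix.ProjectiveSpecialLinearGroup (Fin 2) F)
    rw [← hU, S1] at hu
    rw [← hD, S2] at hκ
    have h1 : (QuotientGroup.mk X : Matrix.ProjectiveSpecialLinearGroup (Fin 2) F) =
        QuotientGroup.mk (U * D) := by
      have := congrArg Subtype.val huκ
      rw [QuotientGroup.mk_mul, hU, hD]
      exact this
    have h2 := eq_or_eq_negOne_mul h1
    have hUD : (U * D).1 0 0 = U.1 0 0 * D.1 0 0 := by
      rw [Matrix.SpecialLinearGroup.coe_mul]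
      simp [Matrix.mul_apply, Fin.sum_univ_two, hκ.2]
    have hU00 : U.1 0 0 * U.1 0 0 = 1 := by
      have hd := sl2_det_entries U
      rw [hu.1, ← hu.2] at hd
      linear_combination hd
    have hU' : U.1 0 0 = 1 ∨ U.1 0 0 = -1 := mul_self_eq_one_iff.mp hU00
    have hD00 : D.1 0 0 = (t : F) ∨ D.1 0 0 = -(t : F) := by
      rcases h2 with h2 | h2
      · rw [h2, h00] at hUD
        rcases hU' with h | h
        · left
          rw [h, one_mul] at hUD
          exact hUD.symm
        · right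
          rw [h] at hUD
          linear_combination hUD
      · rw [h2, Matrix.SpecialLinearGroup.coe_mul, negOne_coe] at hUD
        simp at hUD
        rw [h00] at hUD
        rcases hU' with h | h
        · right
          rw [h, one_mul] at hUD
          exact hUD.symm
        · left
          rw [h] at hUD
          linear_combination hUD
    have h3 := mk_diag_eq_of_sign D hκ.1 hκ.2 t hD00
    rw [← h3, hD]
    exact κ.2
  · -- hw
    obtain ⟨w, hwN, hwT⟩ : ∃ w : H,
        w ∈ Subgroup.normalizer ((hTorus H b : Subgroup H) : Set H) ∧ w ∉ hTorus H b := by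
      by_contra hcon
      push Not at hcon
      have h1 : Subgroup.normalizer ((hTorus H b : Subgroup H) : Set H) ≤ hTorus H b := hcon
      have h2 := Subgroup.card_le_of_le h1
      omega
    rw [mem_normalizer_hTorus H hb] at hwN
    rw [mem_hTorus] at hwT
    obtain ⟨W, hW⟩ := QuotientGroup.mk_surjective (w : Matrix.ProjectiveSpecialLinearGroup (Fin 2) F)
    refine ⟨W, ?_, ?_⟩
    · rw [hW]
      exact w.2
    · have e1 : (w : Matrix.ProjectiveSpecialLinearGroup (Fin 2) F) *
          (b : Matrix.ProjectiveSpecialLinearGroup (Fin 2) F) *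
          (w : Matrix.ProjectiveSpecialLinearGroup (Fin 2) F)⁻¹ =
          QuotientGroup.mk (W * diagD t₀ * W⁻¹) := by
        rw [← hW, hbD]
        rfl
      rw [e1, hbD, torusOf_mk, mk_mem_cenIm, Subgroup.mem_centralizer_singleton_iff] at hwN
      have hτ : (diagD t₀).1.trace * (diagD t₀).1.trace ≠ 4 := by
        apply upper_regular
        · simp [diagD_coe]
        · rw [diagD_coe]
          simpa using ht₀
      rcases regular_comm_cases (diagD t₀) (W * diagD t₀ * W⁻¹) hτ (trace_conj W _) hwN with h | h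
      · exfalso
        apply hwT
        rw [← hW, hbD, torusOf_mk, mk_mem_cenIm, conj_eq_iff_mem_centralizer]
        exact h
      · have h' : W * diagD t₀ = (diagD t₀)⁻¹ * W := by
          rw [← h]
          group
        have h'' := congrArg Subtype.val h'
        rw [Matrix.SpecialLinearGroup.coe_mul, Matrix.SpecialLinearGroup.coe_mul,
          Matrix.SpecialLinearGroup.coe_inv, Matrix.adjugate_fin_two, diagD_coe] at h''
        have h00 := congrFun (congrFun h'' 0) 0
        have h11 := congrFun (congrFun h'' 1) 1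
        simp [Matrix.mul_apply, Fin.sum_univ_two] at h00 h11
        have hsub : (t₀ : F) - ((t₀⁻¹ : Fˣ) : F) ≠ 0 := sub_ne_zero.mpr ht₀
        constructor
        · have h5 : W.1 0 0 * ((t₀ : F) - ((t₀⁻¹ : Fˣ) : F)) = 0 := by
            rw [Units.val_inv_eq_inv_val]
            linear_combination h00
          exact (mul_eq_zero.mp h5).resolve_right hsub
        · have h5 : W.1 1 1 * ((t₀ : F) - ((t₀⁻¹ : Fˣ) : F)) = 0 := by
            rw [Units.val_inv_eq_inv_val]
            linear_combination -h11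
          exact (mul_eq_zero.mp h5).resolve_right hsub
  · exact hH

/-- the Lie-type case of Dickson's theorem -/
theorem recog_lie [Fintype F]
    (H : Subgroup (Matrix.ProjectiveSpecialLinearGroup (Fin 2) F)) (a b : H) (e : ℕ)
    (ha : a ≠ 1) (haU : IsUni (a : Matrix.ProjectiveSpecialLinearGroup (Fin 2) F))
    (hb : b ≠ 1) (hbU : ¬ IsUni (b : Matrix.ProjectiveSpecialLinearGroup (Fin 2) F))
    (hle : hTorus H b ≤ Subgroup.normalizer ((hTorus H a : Subgroup H) : Set H))
    (hcardN : Nat.card (hTorus H b) * Nat.card (hTorus H a) =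
      Nat.card (Subgroup.normalizer ((hTorus H a : Subgroup H) : Set H)))
    (hlt : Nat.card (hTorus H b) <
      Nat.card (Subgroup.normalizer ((hTorus H b : Subgroup H) : Set H)))
    (he : e = 1 ∨ e = 2)
    (hH : e * Nat.card H = Nat.card (hTorus H a) * (Nat.card (hTorus H a) ^ 2 - 1))
    (hk : e * Nat.card (hTorus H b) + 1 = Nat.card (hTorus H a)) :
    ∃ (K : Type) (_ : Field K) (_ : Fintype K) (m : ℕ), Fintype.card K ^ m = Fintype.card F ∧
      (Nonempty (H ≃* Matrix.ProjectiveSpecialLinearGroup (Fin 2) K) ∨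
        Nonempty (H ≃* Matrix.ProjGenLinGroup (Fin 2) K)) := by
  classical
  obtain ⟨A, hA⟩ := QuotientGroup.mk_surjective (a : Matrix.ProjectiveSpecialLinearGroup (Fin 2) F)
  obtain ⟨B, hB⟩ := QuotientGroup.mk_surjective (b : Matrix.ProjectiveSpecialLinearGroup (Fin 2) F)
  have haU' := haU
  rw [← hA, isUni_mk] at haU'
  have hb_mem : b ∈ hTorus H b := (mem_hTorus H b b).mpr (self_mem_torusOf _)
  have h1 := hle hb_mem
  rw [mem_normalizer_hTorus H ha] at h1
  have e1 : (b : Matrix.ProjectiveSpecialLinearGroup (Fin 2) F) *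
      (a : Matrix.ProjectiveSpecialLinearGroup (Fin 2) F) *
      (b : Matrix.ProjectiveSpecialLinearGroup (Fin 2) F)⁻¹ = QuotientGroup.mk (B * A * B⁻¹) := by
    rw [← hA, ← hB]
    rfl
  rw [e1, ← hA, torusOf_mk, mk_mem_cenIm] at h1
  have h2 : B ∉ Subgroup.centralizer ({A} : Set (Matrix.SpecialLinearGroup (Fin 2) F)) := by
    intro h
    apply hbU
    apply isUni_of_mem_torusOf haU (coe_ne_one hb)
    rw [← hA, ← hB, torusOf_mk, mk_mem_cenIm]
    exact h
  obtain ⟨Γ, σ, s, t, hs, ht, hΓA, hΓB⟩ := frame_pair A B haU'.1 haU'.2 h1 h2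
  obtain ⟨γ, hγ⟩ : ∃ γ : Matrix.ProjectiveSpecialLinearGroup (Fin 2) F, γ = QuotientGroup.mk Γ :=
    ⟨_, rfl⟩
  let φ : H ≃* H.map (MulAut.conj γ).toMonoidHom :=
    H.equivMapOfInjective _ (MulAut.conj γ).injective
  have hφ : ∀ x : H, ((φ x : H.map (MulAut.conj γ).toMonoidHom) :
      Matrix.ProjectiveSpecialLinearGroup (Fin 2) F) =
      γ * (x : Matrix.ProjectiveSpecialLinearGroup (Fin 2) F) * γ⁻¹ := fun x => rfl
  have key : ∀ x z : H, φ z ∈ hTorus (H.map (MulAut.conj γ).toMonoidHom) (φ x) ↔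
      z ∈ hTorus H x := by
    intro x z
    rw [mem_hTorus, mem_hTorus, hφ, hφ, torusOf_conj, mem_map_conj_iff]
    have e2 : γ⁻¹ * (γ * (z : Matrix.ProjectiveSpecialLinearGroup (Fin 2) F) * γ⁻¹) * γ =
        (z : Matrix.ProjectiveSpecialLinearGroup (Fin 2) F) := by group
    rw [e2]
  have hT : ∀ x : H, hTorus (H.map (MulAut.conj γ).toMonoidHom) (φ x) =
      (hTorus H x).map φ.toMonoidHom := by
    intro x
    ext y
    obtain ⟨z, rfl⟩ := φ.surjective y
    rw [key, Subgroup.mem_map_equiv, MulEquiv.symm_apply_apply]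
  have hcT : ∀ x : H, Nat.card (hTorus (H.map (MulAut.conj γ).toMonoidHom) (φ x)) =
      Nat.card (hTorus H x) := by
    intro x
    rw [hT]
    exact Subgroup.card_map_of_injective φ.injective
  have hN : ∀ x : H, Subgroup.normalizer
      ((hTorus (H.map (MulAut.conj γ).toMonoidHom) (φ x) :
        Subgroup (H.map (MulAut.conj γ).toMonoidHom)) :
        Set (H.map (MulAut.conj γ).toMonoidHom)) =
      (Subgroup.normalizer ((hTorus H x : Subgroup H) : Set H)).map φ.toMonoidHom := by
    intro x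
    rw [hT, Subgroup.map_equiv_normalizer_eq]
  have hcN : ∀ x : H, Nat.card (Subgroup.normalizer
      ((hTorus (H.map (MulAut.conj γ).toMonoidHom) (φ x) :
        Subgroup (H.map (MulAut.conj γ).toMonoidHom)) :
        Set (H.map (MulAut.conj γ).toMonoidHom))) =
      Nat.card (Subgroup.normalizer ((hTorus H x : Subgroup H) : Set H)) := by
    intro x
    rw [hN]
    exact Subgroup.card_map_of_injective φ.injective
  have hcH : Nat.card (H.map (MulAut.conj γ).toMonoidHom) = Nat.card H :=
    Nat.card_congr φ.symm.toEquiv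
  have hstd := recog_lie_std (H.map (MulAut.conj γ).toMonoidHom) (Γ * A * Γ⁻¹) σ s t hs hΓA ht
    (φ a) (φ b) (by rw [hφ, ← hA, hγ]; rfl) (by rw [hφ, ← hB, hγ, ← hΓB]; rfl)
    ((MulEquiv.map_ne_one_iff φ).mpr ha) (by rw [hφ]; exact isUni_conj _ _ haU)
    ((MulEquiv.map_ne_one_iff φ).mpr hb) (by
      rw [hφ]
      intro h
      apply hbU
      have h3 := isUni_conj γ⁻¹ _ h
      have e3 : γ⁻¹ * (γ * (b : Matrix.ProjectiveSpecialLinearGroup (Fin 2) F) * γ⁻¹) * γ⁻¹⁻¹ =
          (b : Matrix.ProjectiveSpecialLinearGroup (Fin 2) F) := by group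
      rw [e3] at h3
      exact h3) e
    (by
      rw [hN, hT]
      exact Subgroup.map_mono hle)
    (by rw [hcT, hcT, hcN]; exact hcardN)
    (by rw [hcT, hcN]; exact hlt) he
    (by rw [hcT, hcH]; exact hH)
    (by rw [hcT, hcT]; exact hk)
  obtain ⟨K, iK, iK', m, hm, hiso⟩ := hstd
  refine ⟨K, iK, iK', m, hm, ?_⟩
  rcases hiso with hf | hf
  · obtain ⟨f⟩ := hf
    exact Or.inl ⟨φ.trans f⟩
  · obtain ⟨f⟩ := hf
    exact Or.inr ⟨φ.trans f⟩

end Cfsg.Agent.Lib.Helper41
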