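import Mathlib
import Cfsg.Agent.Lib.Helper5.PSL2
import Cfsg.Agent.Lib.Helper41.DicksonBridge

set_option autoImplicit false

namespace Cfsg.Agent.Lib.Helper41

open Matrix

variable {F : Type*} [Field F]

/-- parity of the order of a finite field -/
theorem gcd_two_card_sub_one [Fintype F] :
    ((2 : F) ≠ 0 → Nat.gcd 2 (Fintype.card F - 1) = 2) ∧
      ((2 : F) = 0 → Nat.gcd 2 (Fintype.card F - 1) = 1) := by
  obtain ⟨p, hp⟩ := CharP.exists F
  haveI := hp
  obtain ⟨n, hpp, hn⟩ := FiniteField.card F p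
  have hq1 : 1 < Fintype.card F := Fintype.one_lt_card
  constructor
  · intro h2
    have hp2 : p ≠ 2 := by
      rintro rfl
      exact h2 (CharTwo.two_eq_zero)
    have hodd : Odd (Fintype.card F) := by
      rw [hn]
      exact (hpp.odd_of_ne_two hp2).pow
    obtain ⟨k, hk⟩ := hodd
    rw [hk, Nat.add_sub_cancel]
    simp
  · intro h2
    have hp2 : p = 2 := by
      have h := (CharP.cast_eq_zero_iff F p 2).mp (by exact_mod_cast h2)
      exact ((Nat.prime_dvd_prime_iff_eq hpp Nat.prime_two).mp h)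
    have heven : Even (Fintype.card F) := by
      rw [hn, hp2]
      exact (Nat.even_pow.mpr ⟨even_two, n.ne_zero⟩)
    obtain ⟨k, hk⟩ := heven
    have hk1 : 1 ≤ k := by omega
    obtain ⟨j, rfl⟩ : ∃ j, k = j + 1 := ⟨k - 1, by omega⟩
    have e : Fintype.card F - 1 = 2 * j + 1 := by omega
    rw [e]
    simp

/-- the order of the centre of `SL₂(F)` -/
theorem card_center_sl2 [Fintype F] :
    Nat.card (Subgroup.center (Matrix.SpecialLinearGroup (Fin 2) F)) =
      Nat.gcd 2 (Fintype.card F - 1) := by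
  by_cases h2 : (2 : F) = 0
  · rw [(gcd_two_card_sub_one (F := F)).2 h2,
      Cfsg.Agent.Lib.Helper5.center_SL2_eq_bot_of_two_eq_zero h2]
    exact Subgroup.card_bot
  · rw [(gcd_two_card_sub_one (F := F)).1 h2,
      Cfsg.Agent.Lib.Helper5.card_center_SL2_of_two_ne_zero h2]

/-- the order of `PSL₂(F)` -/
theorem card_psl2_mul_gcd [Fintype F] :
    Nat.card (Matrix.ProjectiveSpecialLinearGroup (Fin 2) F) *
      Nat.gcd 2 (Fintype.card F - 1) = Fintype.card F * (Fintype.card F ^ 2 - 1) := by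
  rw [← card_center_sl2, Cfsg.Agent.Lib.Helper5.card_PSL_mul_card_center,
    Cfsg.Agent.Lib.Helper5.card_SL2]

/-- the upper triangular subgroup of `SL₂(F)` -/
def upperSub (F : Type*) [Field F] : Subgroup (Matrix.SpecialLinearGroup (Fin 2) F) where
  carrier := {Y | Y.1 1 0 = 0}
  mul_mem' := fun {Y Z} hY hZ => (upper_mul Y Z hY hZ).1
  one_mem' := by
    show (1 : Matrix.SpecialLinearGroup (Fin 2) F).1 1 0 = 0
    simp
  inv_mem' := fun {Y} hY => upper_inv Y hY

theorem mem_upperSub (Y : Matrix.SpecialLinearGroup (Fin 2) F) :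
    Y ∈ upperSub F ↔ Y.1 1 0 = 0 := Iff.rfl

theorem card_upperSub [Fintype F] :
    Nat.card (upperSub F) = Fintype.card F * (Fintype.card F - 1) := by
  classical
  have hequiv : upperSub F ≃ F × Fˣ := by
    refine Equiv.ofBijective (fun Y => (Y.1.1 0 1, Units.mk0 (Y.1.1 0 0) ?_)) ⟨?_, ?_⟩
    · intro h
      have hd := upper_diag Y.1 Y.2
      rw [h, zero_mul] at hd
      exact zero_ne_one hd
    · rintro ⟨Y, hY⟩ ⟨Z, hZ⟩ h
      have h1 : Y.1 0 1 = Z.1 0 1 := congrArg Prod.fst h
      have h2 : Y.1 0 0 = Z.1 0 0 := congrArg (fun x => ((x.2 : Fˣ) : F)) h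
      have hY' : Y.1 1 0 = 0 := hY
      have hZ' : Z.1 1 0 = 0 := hZ
      have hdY := upper_diag Y hY
      have hdZ := upper_diag Z hZ
      have hne : Y.1 0 0 ≠ 0 := by
        intro h0
        rw [h0, zero_mul] at hdY
        exact zero_ne_one hdY
      have h3 : Y.1 1 1 = Z.1 1 1 := by
        apply mul_left_cancel₀ hne
        rw [hdY, h2, hdZ]
      apply Subtype.ext
      apply Subtype.ext
      ext i j
      fin_cases i <;> fin_cases j
      · exact h2
      · exact h1
      · exact hY'.trans hZ'.symm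
      · exact h3
    · rintro ⟨c, t⟩
      refine ⟨⟨⟨!![(t : F), c; 0, ((t⁻¹ : Fˣ) : F)], ?_⟩, ?_⟩, ?_⟩
      · rw [Matrix.det_fin_two]
        simp
      · show (!![(t : F), c; 0, ((t⁻¹ : Fˣ) : F)] : Matrix (Fin 2) (Fin 2) F) 1 0 = 0
        simp
      · apply Prod.ext
        · simp
        · apply Units.ext
          simp
  rw [Nat.card_congr hequiv, Nat.card_prod, Nat.card_eq_fintype_card, Nat.card_units,
    Nat.card_eq_fintype_card]

/-- the preimage of a Borel subgroup -/
theorem comap_borelP (Γ : Matrix.SpecialLinearGroup (Fin 2) F) :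
    (borelP Γ).comap (QuotientGroup.mk' (Subgroup.center (Matrix.SpecialLinearGroup (Fin 2) F))) =
      (upperSub F).map (MulAut.conj Γ⁻¹).toMonoidHom := by
  ext Y
  rw [Subgroup.mem_comap, mem_map_conj_iff, inv_inv, mem_upperSub]
  exact mk_mem_borelP Γ Y

/-- the order of a Borel subgroup of `PSL₂(F)` -/
theorem card_borelP [Fintype F] (Γ : Matrix.SpecialLinearGroup (Fin 2) F) :
    Nat.card (borelP Γ) * Nat.gcd 2 (Fintype.card F - 1) =
      Fintype.card F * (Fintype.card F - 1) := by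
  have h1 := Cfsg.Agent.Lib.Helper89.card_comap_eq_mul
    (QuotientGroup.mk' (Subgroup.center (Matrix.SpecialLinearGroup (Fin 2) F))) (borelP Γ)
  rw [comap_borelP, Subgroup.card_map_of_injective (MulAut.conj Γ⁻¹).injective, card_upperSub,
    QuotientGroup.ker_mk', card_center_sl2] at h1
  have h2 : Set.range (QuotientGroup.mk' (Subgroup.center (Matrix.SpecialLinearGroup (Fin 2) F))) =
      Set.univ := Set.range_eq_univ.mpr (QuotientGroup.mk'_surjective _)
  rw [h2, Set.inter_univ] at h1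
  rw [h1]
  rfl

/-- the normalizer of a unipotent torus is a Borel subgroup -/
theorem exists_borelP {a : Matrix.ProjectiveSpecialLinearGroup (Fin 2) F} (ha : IsUni a) :
    ∃ Γ : Matrix.SpecialLinearGroup (Fin 2) F,
      ∀ g, g ∈ borelP Γ ↔ g * a * g⁻¹ ∈ torusOf a := by
  obtain ⟨X, rfl⟩ := QuotientGroup.mk_surjective a
  rw [isUni_mk] at ha
  obtain ⟨P, hP1, -⟩ := uni_frame X ha.1 ha.2
  refine ⟨P, ?_⟩
  intro g
  obtain ⟨G, rfl⟩ := QuotientGroup.mk_surjective g
  have e : (QuotientGroup.mk G : Matrix.ProjectiveSpecialLinearGroup (Fin 2) F) *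
      QuotientGroup.mk X * (QuotientGroup.mk G)⁻¹ = QuotientGroup.mk (G * X * G⁻¹) := rfl
  rw [e, torusOf_mk, mk_mem_cenIm, mk_mem_borelP, hP1]

/-- the normalizer of the torus of a non-trivial element -/
theorem mem_normalizer_torusOf {a g : Matrix.ProjectiveSpecialLinearGroup (Fin 2) F}
    (ha : a ≠ 1) :
    g ∈ Subgroup.normalizer ((torusOf a : Subgroup (Matrix.ProjectiveSpecialLinearGroup (Fin 2) F)) :
      Set (Matrix.ProjectiveSpecialLinearGroup (Fin 2) F)) ↔ g * a * g⁻¹ ∈ torusOf a := by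
  rw [Subgroup.mem_normalizer_iff_map_conj_eq]
  constructor
  · intro h
    have h' : (torusOf a).map (MulAut.conj g).toMonoidHom = torusOf a := h
    rw [← torusOf_conj] at h'
    rw [← h']
    exact self_mem_torusOf _
  · intro h
    have h' := torusOf_eq_of_mem ha (DPart.conj_ne_one ha) h
    rw [torusOf_conj] at h'
    exact h'

/-- a Sylow `p`-subgroup of `PSL₂(F)` is the torus of a unipotent element -/
theorem sylow_eq_torusOf [Fintype F] (p : ℕ) [Fact p.Prime] [CharP F p]
    (P : Sylow p (Matrix.ProjectiveSpecialLinearGroup (Fin 2) F)) :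
    ∃ a : Matrix.ProjectiveSpecialLinearGroup (Fin 2) F, IsUni a ∧
      (P : Subgroup (Matrix.ProjectiveSpecialLinearGroup (Fin 2) F)) = torusOf a := by
  have hu : IsUni (QuotientGroup.mk (upperU (1 : F)) :
      Matrix.ProjectiveSpecialLinearGroup (Fin 2) F) := by
    rw [isUni_mk]
    constructor
    · intro h
      have h1 := (std_mem_centralizer_iff (weylW : Matrix.SpecialLinearGroup (Fin 2) F)
        (upperU (1 : F)) 1 1 one_ne_zero (upperU_coe 1)).mp (by
          rw [Subgroup.mem_centralizer_singleton_iff]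
          exact (Subgroup.mem_center_iff.mp h weylW))
      have h2 : (weylW : Matrix.SpecialLinearGroup (Fin 2) F).1 1 0 = -1 := by
        simp [weylW]
      rw [h2] at h1
      exact one_ne_zero (neg_eq_zero.mp h1.1)
    · rw [upperU_coe, Matrix.trace_fin_two]
      simp
      norm_num
  have hup : (QuotientGroup.mk (upperU (1 : F)) :
      Matrix.ProjectiveSpecialLinearGroup (Fin 2) F) ^ p = 1 := isUni_pow p hu
  have hord : orderOf (QuotientGroup.mk (upperU (1 : F)) :
      Matrix.ProjectiveSpecialLinearGroup (Fin 2) F) = p :=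
    orderOf_eq_prime hup hu.1
  have hdvd : p ∣ Nat.card (Matrix.ProjectiveSpecialLinearGroup (Fin 2) F) := by
    rw [← hord]
    exact orderOf_dvd_natCard _
  have hne := P.ne_bot_of_dvd_card hdvd
  obtain ⟨a, ha1⟩ := (Subgroup.ne_bot_iff_exists_ne_one.mp hne)
  have ha1' : (a : Matrix.ProjectiveSpecialLinearGroup (Fin 2) F) ≠ 1 :=
    fun h => ha1 (Subtype.ext h)
  obtain ⟨k, hk⟩ := P.isPGroup' a
  have hk' : (a : Matrix.ProjectiveSpecialLinearGroup (Fin 2) F) ^ (p ^ k) = 1 := by
    have := congrArg Subtype.val hk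
    rwa [Subgroup.coe_pow] at this
  have haU : IsUni (a : Matrix.ProjectiveSpecialLinearGroup (Fin 2) F) :=
    isUni_of_pow p ha1' k hk'
  refine ⟨a, haU, ?_⟩
  have hle := le_torusOf_of_isPGroup p P P.isPGroup' a.2 haU
  exact (P.is_maximal' (isPGroup_torusOf p haU) hle).symm

/-- the normalizer of a Sylow `p`-subgroup of `PSL₂(F)` is a Borel subgroup -/
theorem sylow_normalizer_eq_borelP [Fintype F] (p : ℕ) [Fact p.Prime] [CharP F p]
    (P : Sylow p (Matrix.ProjectiveSpecialLinearGroup (Fin 2) F)) :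
    ∃ Γ : Matrix.SpecialLinearGroup (Fin 2) F,
      Subgroup.normalizer ((P : Subgroup (Matrix.ProjectiveSpecialLinearGroup (Fin 2) F)) :
        Set (Matrix.ProjectiveSpecialLinearGroup (Fin 2) F)) = borelP Γ := by
  obtain ⟨a, haU, hP⟩ := sylow_eq_torusOf p P
  obtain ⟨Γ, hΓ⟩ := exists_borelP haU
  refine ⟨Γ, ?_⟩
  ext g
  rw [hP, mem_normalizer_torusOf haU.1, hΓ]

end Cfsg.Agent.Lib.Helper41
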