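import Cfsg.Agent.Lib.Helper41.KleinCount
import Cfsg.Agent.S0228

set_option autoImplicit false

namespace Cfsg.Agent.Lib.Helper41

/-- order of a product `V U` with `U` normalizing `V` and trivial intersection -/
theorem card_sup_of_le_normalizer {G : Type*} [Group G] (V U : Subgroup G)
    (hLE : U ≤ Subgroup.normalizer (V : Set G)) (hd : Disjoint V U) :
    Nat.card (V ⊔ U : Subgroup G) = Nat.card V * Nat.card U := by
  have h1 : ((V ⊔ U : Subgroup G) : Set G) = Set.range (fun g : V × U => (g.1 : G) * g.2) := by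
    rw [Subgroup.coe_mul_of_right_le_normalizer_left V U hLE]
    ext a
    constructor
    · rintro ⟨v, hv, u, hu, rfl⟩
      exact ⟨(⟨v, hv⟩, ⟨u, hu⟩), rfl⟩
    · rintro ⟨⟨v, u⟩, rfl⟩
      exact ⟨v.1, v.2, u.1, u.2, rfl⟩
  rw [← Nat.card_prod]
  have h2 : Nat.card (V ⊔ U : Subgroup G) =
      Nat.card (Set.range (fun g : V × U => (g.1 : G) * g.2)) := by
    rw [← h1]
    rfl
  rw [h2]
  exact Nat.card_range_of_injective (Subgroup.mul_injective_of_disjoint hd)

/-- class equation for one element inside a subgroup -/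
theorem card_eq_card_conj_mul_card_inf_centralizer {G : Type*} [Group G] [Finite G]
    (K : Subgroup G) (a : G) (T : Finset G)
    (hT : ∀ b : G, b ∈ T ↔ ∃ k ∈ K, k * a * k⁻¹ = b) :
    Nat.card K = T.card * Nat.card (K ⊓ Subgroup.centralizer ({a} : Set G) : Subgroup G) := by
  classical
  haveI := Fintype.ofFinite G
  obtain ⟨sK, hsK⟩ : ∃ sK : Finset G, sK = Finset.univ.filter (fun k => k ∈ K) := ⟨_, rfl⟩
  obtain ⟨sC, hsC⟩ : ∃ sC : Finset G, sC = Finset.univ.filter
      (fun k => k ∈ K ⊓ Subgroup.centralizer ({a} : Set G)) := ⟨_, rfl⟩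
  have hKmem : ∀ k : G, k ∈ sK ↔ k ∈ K := by
    intro k
    rw [hsK]
    simp
  have hCmem : ∀ k : G, k ∈ sC ↔ k ∈ K ⊓ Subgroup.centralizer ({a} : Set G) := by
    intro k
    rw [hsC]
    simp
  have hK : Nat.card K = sK.card := Nat.subtype_card sK hKmem
  have hC : Nat.card (K ⊓ Subgroup.centralizer ({a} : Set G) : Subgroup G) = sC.card :=
    Nat.subtype_card sC hCmem
  rw [hK, hC]
  have hmaps : ∀ k ∈ sK, k * a * k⁻¹ ∈ T := by
    intro k hk
    rw [hT]
    exact ⟨k, (hKmem k).mp hk, rfl⟩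
  rw [Finset.card_eq_sum_card_fiberwise hmaps]
  have hfib : ∀ b ∈ T, (sK.filter (fun k => k * a * k⁻¹ = b)).card = sC.card := by
    intro b hb
    obtain ⟨k₀, hk₀, rfl⟩ := (hT b).mp hb
    have hset : sK.filter (fun k => k * a * k⁻¹ = k₀ * a * k₀⁻¹) =
        sC.image (fun c => k₀ * c) := by
      ext k
      rw [Finset.mem_filter, Finset.mem_image, hKmem]
      constructor
      · rintro ⟨hk, he⟩
        refine ⟨k₀⁻¹ * k, ?_, by group⟩
        rw [hCmem, Subgroup.mem_inf, Subgroup.mem_centralizer_singleton_iff]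
        refine ⟨K.mul_mem (K.inv_mem hk₀) hk, ?_⟩
        have e : k₀⁻¹ * k * a = k₀⁻¹ * (k * a * k⁻¹) * k := by group
        rw [e, he]
        group
      · rintro ⟨c, hc, rfl⟩
        rw [hCmem, Subgroup.mem_inf, Subgroup.mem_centralizer_singleton_iff] at hc
        refine ⟨K.mul_mem hk₀ hc.1, ?_⟩
        have e : k₀ * c * a * (k₀ * c)⁻¹ = k₀ * (c * a) * c⁻¹ * k₀⁻¹ := by group
        rw [e, hc.2]
        group
    rw [hset, Finset.card_image_of_injective _ (mul_right_injective k₀)]
  rw [Finset.sum_congr rfl hfib, Finset.sum_const, smul_eq_mul]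

/-- the number of conjugates of a subgroup is the index of its normalizer -/
theorem card_conj_class_subgroup {G : Type*} [Group G] (V : Subgroup G) :
    Nat.card {W : Subgroup G // ∃ g : G, W = V.map (MulAut.conj g).toMonoidHom} =
      (Subgroup.normalizer (V : Set G)).index := by
  open Pointwise in
  letI : MulAction G (Subgroup G) := MulAction.compHom (Subgroup G) (MulAut.conj : G →* MulAut G)
  have hsmul : ∀ g : G, g • V = V.map (MulAut.conj g).toMonoidHom := fun g => rfl
  have hs : MulAction.stabilizer G V = Subgroup.normalizer (V : Set G) := by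
    ext g
    rw [MulAction.mem_stabilizer_iff, Subgroup.mem_normalizer_iff_map_conj_eq, hsmul]
    rfl
  rw [← hs, MulAction.index_stabilizer, ← Nat.card_coe_set_eq]
  apply Nat.card_congr
  apply Equiv.subtypeEquivRight
  intro W
  rw [MulAction.mem_orbit_iff]
  constructor
  · rintro ⟨g, rfl⟩
    exact ⟨g, (hsmul g).symm⟩
  · rintro ⟨g, rfl⟩
    exact ⟨g, (hsmul g).symm⟩

section klein

variable {G : Type*} [Group G]

/-- relations forcing a subgroup isomorphic to the alternating group of degree four -/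
theorem exists_A4_of_relations (x y u : G) (hx : x * x = 1) (hy : y * y = 1)
    (hyx : y * x = x * y) (hx1 : x ≠ 1) (hy1 : y ≠ 1) (hxy : x ≠ y)
    (hu1 : u * x * u⁻¹ = x * y) (hu2 : u * y * u⁻¹ = x) (hu3 : u ^ 3 = 1) :
    ∃ H : Subgroup G, Nonempty (H ≃* alternatingGroup (Fin 4)) := by
  obtain ⟨V, hV⟩ : ∃ V : Subgroup G, V = kleinOf x y hx hy hyx := ⟨_, rfl⟩
  have hVmem : ∀ a, a ∈ V ↔ a = 1 ∨ a = x ∨ a = y ∨ a = x * y := by
    intro a
    rw [hV]
    exact mem_kleinOf x y hx hy hyx a
  have hVcard : Nat.card V = 4 := by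
    rw [hV]
    exact card_kleinOf x y hx hy hyx hx1 hy1 hxy
  have hu_ne : u ≠ 1 := by
    intro h
    rw [h] at hu1
    apply hy1
    have e : x * y = x * 1 := by
      rw [← hu1]
      group
    exact mul_left_cancel e
  have h3p : Fact (Nat.Prime 3) := ⟨by norm_num⟩
  have hou : orderOf u = 3 := orderOf_eq_prime hu3 hu_ne
  obtain ⟨U, hU⟩ : ∃ U : Subgroup G, U = Subgroup.zpowers u := ⟨_, rfl⟩
  have hUcard : Nat.card U = 3 := by
    rw [hU, Nat.card_zpowers, hou]
  have huxy : u * (x * y) * u⁻¹ = y := by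
    have e : u * (x * y) * u⁻¹ = (u * x * u⁻¹) * (u * y * u⁻¹) := by group
    rw [e, hu1, hu2, mul_assoc, hyx, ← mul_assoc, hx, one_mul]
  have hVfin : Finite V := Nat.finite_of_card_ne_zero (by rw [hVcard]; norm_num)
  have huN : u ∈ Subgroup.normalizer (V : Set G) := by
    apply Subgroup.mem_normalizer_fintype
    intro n hn
    rw [SetLike.mem_coe, hVmem] at hn ⊢
    rcases hn with rfl | rfl | rfl | rfl
    · left
      group
    · right; right; right
      exact hu1
    · right; left
      exact hu2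
    · right; right; left
      exact huxy
  have hLE : U ≤ Subgroup.normalizer (V : Set G) := by
    rw [hU, Subgroup.zpowers_le]
    exact huN
  have hUpow : ∀ g ∈ U, g ^ 3 = 1 := by
    intro g hgU
    rw [hU] at hgU
    obtain ⟨k, rfl⟩ := Subgroup.mem_zpowers_iff.mp hgU
    rw [← zpow_natCast, ← zpow_mul, mul_comm, zpow_mul, zpow_natCast, hu3, one_zpow]
  have hxyxy : (x * y) * (x * y) = 1 := by
    calc (x * y) * (x * y) = x * (y * x) * y := by group
      _ = 1 := by rw [hyx, ← mul_assoc, hx, one_mul, hy]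
  have hVsq : ∀ g ∈ V, g * g = 1 := by
    intro g hgV
    rcases (hVmem g).mp hgV with rfl | rfl | rfl | rfl
    · exact one_mul 1
    · exact hx
    · exact hy
    · exact hxyxy
  have hdisj : Disjoint V U := by
    rw [Subgroup.disjoint_def]
    intro g hgV hgU
    have h2 := hVsq g hgV
    have h3 := hUpow g hgU
    calc g = g ^ 3 * (g * g)⁻¹ := by group
      _ = 1 := by rw [h3, h2]; simp
  have hcard : Nat.card (V ⊔ U : Subgroup G) = 12 := by
    rw [card_sup_of_le_normalizer V U hLE hdisj, hVcard, hUcard]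
  refine ⟨V ⊔ U, ?_⟩
  haveI : Finite (V ⊔ U : Subgroup G) := Nat.finite_of_card_ne_zero (by rw [hcard]; norm_num)
  apply Cfsg.Agent.S0228.result hcard
  rintro ⟨z, hz⟩ hoz hzc
  rw [Subgroup.orderOf_mk] at hoz
  have hzz : z * z = 1 := by
    have := pow_orderOf_eq_one z
    rwa [hoz, pow_two] at this
  have hz1 : z ≠ 1 := by
    intro h
    rw [h, orderOf_one] at hoz
    omega
  have huH : u ∈ (V ⊔ U : Subgroup G) := by
    apply (le_sup_right : U ≤ V ⊔ U)
    rw [hU]
    exact Subgroup.mem_zpowers u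
  have hzu : z * u = u * z := by
    have := Subgroup.mem_center_iff.mp hzc ⟨u, huH⟩
    have h' := congrArg Subtype.val this
    exact h'.symm
  have hzmem : z ∈ ((V ⊔ U : Subgroup G) : Set G) := hz
  rw [Subgroup.coe_mul_of_right_le_normalizer_left V U hLE] at hzmem
  obtain ⟨v, hv, w, hw, rfl⟩ := Set.mem_mul.mp hzmem
  rw [SetLike.mem_coe] at hv hw
  have hwv : w * v * w⁻¹ ∈ V := (Subgroup.mem_normalizer_iff.mp (hLE hw) v).mp hv
  have hww : w * w = 1 := by
    have hmemV : w * w ∈ V := by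
      have e : w * w = (v * (w * v * w⁻¹))⁻¹ * ((v * w) * (v * w)) := by group
      rw [e, hzz, mul_one]
      exact V.inv_mem (V.mul_mem hv hwv)
    exact (Subgroup.disjoint_def.mp hdisj) hmemV (U.mul_mem hw hw)
  have hw1 : w = 1 := by
    have h3 := hUpow w hw
    calc w = w ^ 3 * (w * w)⁻¹ := by group
      _ = 1 := by rw [h3, hww]; simp
  rw [hw1, mul_one] at hz1 hzu
  have hconj : u * v * u⁻¹ = v := by
    rw [← hzu]
    group
  rcases (hVmem v).mp hv with rfl | rfl | rfl | rfl
  · exact hz1 rfl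
  · rw [hu1] at hconj
    apply hy1
    have e : v * y = v * 1 := by rw [hconj, mul_one]
    exact mul_left_cancel e
  · rw [hu2] at hconj
    exact hxy hconj
  · rw [huxy] at hconj
    apply hx1
    have e : x * y = 1 * y := by rw [← hconj, one_mul]
    exact mul_right_cancel e

end klein

end Cfsg.Agent.Lib.Helper41
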