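import Cfsg.Agent.Lib.Helper41.PSL2Klein
import Cfsg.Agent.Lib.Helper41.KleinNormalizer
import Cfsg.Agent.S2503

set_option autoImplicit false

namespace Cfsg.Agent.Lib.Helper41

open Matrix

variable {F : Type*} [Field F]

theorem psl2_mk_injective_of_two_eq_zero (h2 : (2 : F) = 0) :
    Function.Injective (QuotientGroup.mk : Matrix.SpecialLinearGroup (Fin 2) F →
      Matrix.ProjectiveSpecialLinearGroup (Fin 2) F) := by
  intro U V h
  rw [psl2_mk_eq_iff] at h
  apply Subtype.ext
  rcases h with h | h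
  · exact h.symm
  · rw [h]
    ext i j
    rw [Matrix.neg_apply]
    linear_combination (U.1 i j) * h2

/-- the alternating group of degree four inside `PSL₂` in odd characteristic -/
theorem psl2_exists_A4_of_two_ne_zero [Fintype F] (h2 : (2 : F) ≠ 0) :
    ∃ H : Subgroup (Matrix.ProjectiveSpecialLinearGroup (Fin 2) F),
      Nonempty (H ≃* alternatingGroup (Fin 4)) := by
  obtain ⟨i, j, hi, hj, hij⟩ := exists_quat_pair h2
  obtain ⟨u, hu1, hu2, hu3, -⟩ := exists_hurwitz h2 i j hi hj hij
  have hinv := quat_inverts i j hi hj hij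
  have hc := (psl2_comm_involutions_iff h2 i j hi hj).mpr hinv
  have hoi := (psl2_orderOf_eq_two_iff h2 i).mpr hi
  have hoj := (psl2_orderOf_eq_two_iff h2 j).mpr hj
  apply exists_A4_of_relations
    (QuotientGroup.mk i : Matrix.ProjectiveSpecialLinearGroup (Fin 2) F)
    (QuotientGroup.mk j) (QuotientGroup.mk u)
  · have h := pow_orderOf_eq_one
      (QuotientGroup.mk i : Matrix.ProjectiveSpecialLinearGroup (Fin 2) F)
    rwa [hoi, pow_two] at h
  · have h := pow_orderOf_eq_one
      (QuotientGroup.mk j : Matrix.ProjectiveSpecialLinearGroup (Fin 2) F)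
    rwa [hoj, pow_two] at h
  · exact hc.2.symm
  · intro h
    rw [h, orderOf_one] at hoi
    omega
  · intro h
    rw [h, orderOf_one] at hoj
    omega
  · exact fun h => hc.1 h.symm
  · rw [← QuotientGroup.mk_inv, ← QuotientGroup.mk_mul, ← QuotientGroup.mk_mul, hu1,
      QuotientGroup.mk_mul]
  · rw [← QuotientGroup.mk_inv, ← QuotientGroup.mk_mul, ← QuotientGroup.mk_mul, hu2]
  · rw [← QuotientGroup.mk_pow]
    have h : u ^ 3 = 1 := by
      rw [pow_succ, pow_two]
      exact hu3
    rw [h]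
    rfl

/-- the alternating group of degree four inside `PSL₂` over a field of characteristic two
containing a primitive cube root of unity -/
theorem psl2_exists_A4_of_two_eq_zero (h2 : (2 : F) = 0) (ω : F) (hω : ω * ω + ω + 1 = 0) :
    ∃ H : Subgroup (Matrix.ProjectiveSpecialLinearGroup (Fin 2) F),
      Nonempty (H ≃* alternatingGroup (Fin 4)) := by
  have hinj := psl2_mk_injective_of_two_eq_zero h2
  have hω0 : ω ≠ 0 := by
    rintro rfl
    simp at hω
  have hω1 : ω ≠ 1 := by
    rintro rfl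
    have h : (1 : F) = 0 := by linear_combination hω - h2
    exact one_ne_zero h
  obtain ⟨w, hw⟩ : ∃ w : Fˣ, (w : F) = ω := ⟨Units.mk0 ω hω0, rfl⟩
  have hw3 : w ^ 3 = 1 := by
    apply Units.ext
    rw [Units.val_pow_eq_pow_val, hw, Units.val_one]
    linear_combination (ω - 1) * hω
  have hconj : ∀ s : F, diagD w * upperU s * (diagD w)⁻¹ = upperU (ω * ω * s) := by
    intro s
    have e : diagD w * upperU s = upperU (ω * ω * s) * diagD w := by
      apply Subtype.ext
      rw [Matrix.SpecialLinearGroup.coe_mul, Matrix.SpecialLinearGroup.coe_mul, diagD_coe,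
        upperU_coe, upperU_coe, Units.val_inv_eq_inv_val, hw]
      ext i j
      fin_cases i <;> fin_cases j <;> simp [Matrix.mul_apply, Fin.sum_univ_two]
      field_simp
    rw [e]
    group
  have hmk1 : ∀ s : F, (QuotientGroup.mk (upperU s) :
      Matrix.ProjectiveSpecialLinearGroup (Fin 2) F) = 1 → s = 0 := by
    intro s h
    have h' : (QuotientGroup.mk (upperU s) : Matrix.ProjectiveSpecialLinearGroup (Fin 2) F) =
        QuotientGroup.mk (1 : Matrix.SpecialLinearGroup (Fin 2) F) := h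
    have h3 := hinj h'
    rw [← Cfsg.Agent.S2503.upperU_zero] at h3
    exact Cfsg.Agent.S2503.upperU_injective h3
  apply exists_A4_of_relations
    (QuotientGroup.mk (upperU (1 : F)) : Matrix.ProjectiveSpecialLinearGroup (Fin 2) F)
    (QuotientGroup.mk (upperU ω)) (QuotientGroup.mk (diagD w))
  · rw [← QuotientGroup.mk_mul, Cfsg.Agent.S2503.upperU_mul, one_add_one_eq_two, h2,
      Cfsg.Agent.S2503.upperU_zero]
    rfl
  · have h : ω + ω = 0 := by linear_combination ω * h2
    rw [← QuotientGroup.mk_mul, Cfsg.Agent.S2503.upperU_mul, h, Cfsg.Agent.S2503.upperU_zero]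
    rfl
  · rw [← QuotientGroup.mk_mul, ← QuotientGroup.mk_mul, Cfsg.Agent.S2503.upperU_mul,
      Cfsg.Agent.S2503.upperU_mul, add_comm]
  · intro h
    exact one_ne_zero (hmk1 1 h)
  · intro h
    exact hω0 (hmk1 ω h)
  · intro h
    have h3 := Cfsg.Agent.S2503.upperU_injective (hinj h)
    exact hω1 h3.symm
  · rw [← QuotientGroup.mk_inv, ← QuotientGroup.mk_mul, ← QuotientGroup.mk_mul, hconj,
      ← QuotientGroup.mk_mul, Cfsg.Agent.S2503.upperU_mul]
    have h : ω * ω * 1 = 1 + ω := by linear_combination hω - (ω + 1) * h2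
    rw [h]
  · rw [← QuotientGroup.mk_inv, ← QuotientGroup.mk_mul, ← QuotientGroup.mk_mul, hconj]
    have h : ω * ω * ω = 1 := by linear_combination (ω - 1) * hω
    rw [h]
  · rw [← QuotientGroup.mk_pow]
    have h : diagD w ^ 3 = 1 := by
      have e : diagD w = diagHom w := rfl
      rw [e, ← map_pow, hw3, map_one]
    rw [h]
    rfl

/-- in characteristic two the relations of the alternating group of degree four force a
primitive cube root of unity -/
theorem exists_root_of_relations_char_two (h2 : (2 : F) = 0)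
    (x y u : Matrix.ProjectiveSpecialLinearGroup (Fin 2) F)
    (hx : x * x = 1) (hyx : y * x = x * y) (hx1 : x ≠ 1)
    (hu1 : u * x * u⁻¹ = x * y) (hu2 : u * y * u⁻¹ = x) : ∃ b : F, b * b + b + 1 = 0 := by
  have hinj := psl2_mk_injective_of_two_eq_zero h2
  obtain ⟨X, rfl⟩ := QuotientGroup.mk_surjective x
  obtain ⟨Y, rfl⟩ := QuotientGroup.mk_surjective y
  obtain ⟨U, rfl⟩ := QuotientGroup.mk_surjective u
  have hX : X * X = 1 := by
    have h : (QuotientGroup.mk (X * X) : Matrix.ProjectiveSpecialLinearGroup (Fin 2) F) =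
        QuotientGroup.mk (1 : Matrix.SpecialLinearGroup (Fin 2) F) := hx
    exact hinj h
  have hYX : Y * X = X * Y := by
    have h : (QuotientGroup.mk (Y * X) : Matrix.ProjectiveSpecialLinearGroup (Fin 2) F) =
        QuotientGroup.mk (X * Y) := hyx
    exact hinj h
  have hU1 : U * X = X * Y * U := by
    have h : (QuotientGroup.mk (U * X * U⁻¹) : Matrix.ProjectiveSpecialLinearGroup (Fin 2) F) =
        QuotientGroup.mk (X * Y) := hu1
    rw [← hinj h]
    group
  have hU2 : U * Y = X * U := by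
    have h : (QuotientGroup.mk (U * Y * U⁻¹) : Matrix.ProjectiveSpecialLinearGroup (Fin 2) F) =
        QuotientGroup.mk X := hu2
    have h' := hinj h
    calc U * Y = (U * Y * U⁻¹) * U := by group
      _ = X * U := by rw [h']
  have hX1 : X ≠ 1 := by
    intro h
    apply hx1
    rw [h]
    rfl
  have hXc : X ∉ Subgroup.center (Matrix.SpecialLinearGroup (Fin 2) F) := by
    intro h
    rw [sl2_mem_center_iff] at h
    apply hX1
    apply Subtype.ext
    rw [Matrix.SpecialLinearGroup.coe_one]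
    rcases h with h | h
    · exact h
    · rw [h]
      ext i j
      rw [Matrix.neg_apply]
      linear_combination (-((1 : Matrix (Fin 2) (Fin 2) F) i j)) * h2
  have hns := nonscalar_of_not_mem_center X hXc
  have hMM : X.1 * X.1 = 1 := by
    rw [← Matrix.SpecialLinearGroup.coe_mul, hX, Matrix.SpecialLinearGroup.coe_one]
  have htr : X.1.trace = 0 := by
    have hcay := cayley2_det_one X.det_coe
    rw [hMM] at hcay
    have h3 : scalar (Fin 2) (0 : F) + X.1.trace • X.1 =
        scalar (Fin 2) (2 : F) + (0 : F) • X.1 := by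
      rw [scalar_eq_smul_one, scalar_eq_smul_one, zero_smul, zero_smul, zero_add, add_zero,
        two_smul]
      exact sub_eq_iff_eq_add.mp hcay.symm
    exact (scalar_add_smul_inj hns h3).2.trans rfl
  have hYc : Y.1 * X.1 = X.1 * Y.1 := by
    rw [← Matrix.SpecialLinearGroup.coe_mul, hYX, Matrix.SpecialLinearGroup.coe_mul]
  obtain ⟨⟨a, b⟩, hp⟩ := comm_form hns hYc
  simp only at hp
  have hdetY := Y.det_coe
  rw [hp, det_scalar_add_smul X.1 X.det_coe a b, htr] at hdetY
  have hab : a + b + 1 = 0 := by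
    have h : (a + b + 1) * (a + b + 1) = 0 := by
      linear_combination hdetY + (a * b + a + b + 1) * h2
    exact mul_self_eq_zero.mp h
  have hU1m : U.1 * X.1 = X.1 * Y.1 * U.1 := by
    rw [← Matrix.SpecialLinearGroup.coe_mul, hU1, Matrix.SpecialLinearGroup.coe_mul,
      Matrix.SpecialLinearGroup.coe_mul]
  have hU2m : U.1 * Y.1 = X.1 * U.1 := by
    rw [← Matrix.SpecialLinearGroup.coe_mul, hU2, Matrix.SpecialLinearGroup.coe_mul]
  have hUi : U.1 * (U⁻¹).1 = 1 := by
    rw [← Matrix.SpecialLinearGroup.coe_mul, mul_inv_cancel, Matrix.SpecialLinearGroup.coe_one]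
  have key : scalar (Fin 2) (a + b * b) + (a * b) • X.1 =
      scalar (Fin 2) (0 : F) + (1 : F) • X.1 := by
    have h5 : (scalar (Fin 2) (a + b * b) + (a * b) • X.1) * U.1 = X.1 * U.1 := by
      rw [← hU2m, hp, scalar_eq_smul_one, scalar_eq_smul_one]
      simp only [Matrix.add_mul, Matrix.mul_add, Matrix.smul_mul, Matrix.mul_smul,
        Matrix.one_mul, Matrix.mul_one]
      rw [hU1m, hp, scalar_eq_smul_one]
      simp only [Matrix.add_mul, Matrix.mul_add, Matrix.smul_mul, Matrix.mul_smul,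
        Matrix.one_mul, Matrix.mul_one, hMM]
      module
    calc scalar (Fin 2) (a + b * b) + (a * b) • X.1
        = (scalar (Fin 2) (a + b * b) + (a * b) • X.1) * (U.1 * (U⁻¹).1) := by
          rw [hUi, Matrix.mul_one]
      _ = X.1 * U.1 * (U⁻¹).1 := by rw [← Matrix.mul_assoc, h5]
      _ = scalar (Fin 2) (0 : F) + (1 : F) • X.1 := by
          rw [Matrix.mul_assoc, hUi, Matrix.mul_one, one_smul, map_zero, zero_add]
  obtain ⟨h6, -⟩ := scalar_add_smul_inj hns key
  exact ⟨b, by linear_combination h6 - hab + (b + 1) * h2⟩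

/-- relations inside the alternating group of degree four -/
theorem alt4_relations : ∃ x y u : alternatingGroup (Fin 4), x * x = 1 ∧ y * x = x * y ∧
    x ≠ 1 ∧ u * x * u⁻¹ = x * y ∧ u * y * u⁻¹ = x := by
  have h1 : Equiv.swap (0 : Fin 4) 1 * Equiv.swap 2 3 ∈ alternatingGroup (Fin 4) :=
    Equiv.Perm.mem_alternatingGroup.mpr (by decide)
  have h2 : Equiv.swap (0 : Fin 4) 2 * Equiv.swap 1 3 ∈ alternatingGroup (Fin 4) :=
    Equiv.Perm.mem_alternatingGroup.mpr (by decide)
  have h3 : Equiv.swap (1 : Fin 4) 3 * Equiv.swap 3 2 ∈ alternatingGroup (Fin 4) :=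
    Equiv.Perm.mem_alternatingGroup.mpr (by decide)
  refine ⟨⟨Equiv.swap 0 1 * Equiv.swap 2 3, h1⟩, ⟨Equiv.swap 0 2 * Equiv.swap 1 3, h2⟩,
    ⟨Equiv.swap 1 3 * Equiv.swap 3 2, h3⟩, ?_, ?_, ?_, ?_, ?_⟩
  · exact Subtype.ext (show (Equiv.swap (0 : Fin 4) 1 * Equiv.swap 2 3) *
      (Equiv.swap (0 : Fin 4) 1 * Equiv.swap 2 3) = 1 by decide)
  · exact Subtype.ext (show (Equiv.swap (0 : Fin 4) 2 * Equiv.swap 1 3) *
      (Equiv.swap (0 : Fin 4) 1 * Equiv.swap 2 3) =
      (Equiv.swap (0 : Fin 4) 1 * Equiv.swap 2 3) * (Equiv.swap (0 : Fin 4) 2 * Equiv.swap 1 3)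
      by decide)
  · intro h
    have h' := congrArg Subtype.val h
    exact absurd h' (show ¬ (Equiv.swap (0 : Fin 4) 1 * Equiv.swap 2 3 = 1) by decide)
  · exact Subtype.ext (show (Equiv.swap (1 : Fin 4) 3 * Equiv.swap 3 2) *
      (Equiv.swap (0 : Fin 4) 1 * Equiv.swap 2 3) * (Equiv.swap (1 : Fin 4) 3 * Equiv.swap 3 2)⁻¹ =
      (Equiv.swap (0 : Fin 4) 1 * Equiv.swap 2 3) * (Equiv.swap (0 : Fin 4) 2 * Equiv.swap 1 3)
      by decide)
  · exact Subtype.ext (show (Equiv.swap (1 : Fin 4) 3 * Equiv.swap 3 2) *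
      (Equiv.swap (0 : Fin 4) 2 * Equiv.swap 1 3) * (Equiv.swap (1 : Fin 4) 3 * Equiv.swap 3 2)⁻¹ =
      (Equiv.swap (0 : Fin 4) 1 * Equiv.swap 2 3) by decide)

end Cfsg.Agent.Lib.Helper41
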