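import Mathlib
import Cfsg.Agent.Lib.Helper41.PSL2Order

set_option autoImplicit false

namespace Cfsg.Agent.Lib.Helper41

open Matrix

variable {F : Type*} [Field F]

/-- dihedral groups are solvable -/
theorem isSolvable_dihedralGroup (k : ℕ) : Group.IsSolvable (DihedralGroup k) := by
  let f : DihedralGroup k →* Multiplicative (ZMod 2) :=
    { toFun := fun x => match x with
        | DihedralGroup.r _ => Multiplicative.ofAdd 0
        | DihedralGroup.sr _ => Multiplicative.ofAdd 1
      map_one' := rfl
      map_mul' := by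
        rintro (i | i) (j | j)
        · rfl
        · rfl
        · rfl
        · show (Multiplicative.ofAdd (0 : ZMod 2)) =
            Multiplicative.ofAdd (1 : ZMod 2) * Multiplicative.ofAdd (1 : ZMod 2)
          rw [← ofAdd_add]
          rfl }
  have hker : ∀ x : f.ker, ∃ i, (x : DihedralGroup k) = DihedralGroup.r i := by
    rintro ⟨x, hx⟩
    rcases x with i | i
    · exact ⟨i, rfl⟩
    · exfalso
      rw [MonoidHom.mem_ker] at hx
      have h1 : (Multiplicative.ofAdd (1 : ZMod 2)) = 1 := hx
      have h2 : (1 : ZMod 2) = 0 := Multiplicative.ofAdd.injective h1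
      exact absurd h2 (by decide)
  haveI : Group.IsSolvable f.ker := by
    apply Group.isSolvable_of_comm
    intro x y
    obtain ⟨i, hi⟩ := hker x
    obtain ⟨j, hj⟩ := hker y
    apply Subtype.ext
    rw [Subgroup.coe_mul, Subgroup.coe_mul, hi, hj, DihedralGroup.r_mul_r, DihedralGroup.r_mul_r,
      add_comm]
  exact Group.isSolvable_of_ker_le_range f.ker.subtype f (by
    intro x hx
    exact ⟨⟨x, hx⟩, rfl⟩)

/-- the alternating group of degree 5 is not solvable -/
theorem not_isSolvable_alternatingGroup_five : ¬ Group.IsSolvable (alternatingGroup (Fin 5)) := by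
  intro h
  haveI := h
  apply Equiv.Perm.not_isSolvable_fin_5
  exact Group.isSolvable_of_ker_le_range (alternatingGroup (Fin 5)).subtype
    (Equiv.Perm.sign (α := Fin 5)) (by
      intro x hx
      exact ⟨⟨x, hx⟩, rfl⟩)

theorem isUni_upperU_one :
    IsUni (QuotientGroup.mk (upperU (1 : F)) : Matrix.ProjectiveSpecialLinearGroup (Fin 2) F) := by
  rw [isUni_mk]
  constructor
  · intro h
    have h1 := (std_mem_centralizer_iff (weylW : Matrix.SpecialLinearGroup (Fin 2) F)
      (upperU (1 : F)) 1 1 one_ne_zero (upperU_coe 1)).mp (by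
        rw [Subgroup.mem_centralizer_singleton_iff]
        exact (Subgroup.mem_center_iff.mp h weylW))
    have h2 : (weylW : Matrix.SpecialLinearGroup (Fin 2) F).1 1 0 = -1 := by
      simp [weylW]
    rw [h2] at h1
    exact one_ne_zero (neg_eq_zero.mp h1.1)
  · rw [upperU_coe, Matrix.trace_fin_two]
    simp
    norm_num

/-- `PSL₂(F)` is never commutative -/
theorem psl2_exists_not_comm :
    ∃ x y : Matrix.ProjectiveSpecialLinearGroup (Fin 2) F, x * y ≠ y * x := by
  refine ⟨QuotientGroup.mk (upperU (1 : F)), QuotientGroup.mk weylW, ?_⟩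
  intro h
  have h1 := mem_torusOf_of_comm isUni_upperU_one h
  rw [torusOf_mk, mk_mem_cenIm,
    std_mem_centralizer_iff _ (upperU (1 : F)) 1 1 one_ne_zero (upperU_coe 1)] at h1
  have h2 : (weylW : Matrix.SpecialLinearGroup (Fin 2) F).1 1 0 = -1 := by
    simp [weylW]
  rw [h2] at h1
  exact one_ne_zero (neg_eq_zero.mp h1.1)

/-- `PSL₂(F)` is not solvable for `|F| ≥ 4` -/
theorem not_isSolvable_psl2 [Fintype F] (h4 : 4 ≤ Fintype.card F) :
    ¬ Group.IsSolvable (Matrix.ProjectiveSpecialLinearGroup (Fin 2) F) := by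
  haveI : IsSimpleGroup (Matrix.ProjectiveSpecialLinearGroup (Fin 2) F) :=
    Matrix.ProjectiveSpecialLinearGroup.rank_two_simple (by
      rw [Nat.card_eq_fintype_card]
      exact h4)
  intro h
  obtain ⟨x, y, hxy⟩ := psl2_exists_not_comm (F := F)
  exact hxy (IsSimpleGroup.comm_iff_isSolvable.mpr h x y)

/-- the normalizer of a Sylow `p`-subgroup of `PSL₂(F)` is solvable -/
theorem isSolvable_normalizer_sylow [Fintype F] (p : ℕ) [Fact p.Prime] [CharP F p]
    (P : Sylow p (Matrix.ProjectiveSpecialLinearGroup (Fin 2) F)) :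
    Group.IsSolvable (Subgroup.normalizer
      ((P : Subgroup (Matrix.ProjectiveSpecialLinearGroup (Fin 2) F)) :
        Set (Matrix.ProjectiveSpecialLinearGroup (Fin 2) F))) := by
  obtain ⟨a, haU, hP⟩ := sylow_eq_torusOf p P
  obtain ⟨B, χ, hB, hχ, -⟩ := exists_borel haU
  have hN : Subgroup.normalizer
      ((P : Subgroup (Matrix.ProjectiveSpecialLinearGroup (Fin 2) F)) :
        Set (Matrix.ProjectiveSpecialLinearGroup (Fin 2) F)) = B := by
    ext g
    rw [hP, mem_normalizer_torusOf haU.1, hB]
  rw [hN]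
  haveI : Group.IsSolvable χ.ker := by
    apply Group.isSolvable_of_comm
    intro x y
    have hx : (x : B).1 ∈ torusOf a := (hχ x.1).mp x.2
    have hy : (y : B).1 ∈ torusOf a := (hχ y.1).mp y.2
    apply Subtype.ext
    apply Subtype.ext
    exact torusOf_comm haU.1 hx hy
  exact Group.isSolvable_of_ker_le_range χ.ker.subtype χ (by
    intro x hx
    exact ⟨⟨x, hx⟩, rfl⟩)

end Cfsg.Agent.Lib.Helper41
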