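import Mathlib
import Cfsg.Agent.Lib.Helper41.PSL2Solv
import Cfsg.Agent.Lib.Helper59.SubfieldPSL

set_option autoImplicit false

namespace Cfsg.Agent.Lib.Helper41

open Matrix

variable {F : Type*} [Field F]

/-- a subgroup of a cyclic subgroup has an element of large order -/
theorem exists_orderOf_of_le_cyclic {G : Type*} [Group G] (M H : Subgroup G) [Finite M]
    [IsCyclic M] (hH : H ≤ M) : ∃ h ∈ H, Nat.card H ≤ 2 * orderOf h := by
  haveI : IsCyclic H := isCyclic_of_le hH
  haveI : Finite H := Finite.of_injective (Subgroup.inclusion hH) (Subgroup.inclusion_injective hH)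
  obtain ⟨g, hg⟩ := IsCyclic.exists_generator (α := H)
  refine ⟨g.1, g.2, ?_⟩
  rw [Subgroup.orderOf_coe, orderOf_eq_card_of_forall_mem_zpowers hg]
  omega

/-- the sign homomorphism of a dihedral group -/
def dihedralSign (k : ℕ) : DihedralGroup k →* Multiplicative (ZMod 2) where
  toFun := fun x => match x with
    | DihedralGroup.r _ => Multiplicative.ofAdd 0
    | DihedralGroup.sr _ => Multiplicative.ofAdd 1
  map_one' := rfl
  map_mul' := by
    rintro (i | i) (j | j)
    · rfl
    · rfl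
    · rfl
    · show (Multiplicative.ofAdd (0 : ZMod 2)) =
        Multiplicative.ofAdd (1 : ZMod 2) * Multiplicative.ofAdd (1 : ZMod 2)
      rw [← ofAdd_add]
      rfl

theorem dihedralSign_ker (k : ℕ) (x : DihedralGroup k) (hx : dihedralSign k x = 1) :
    ∃ i, x = DihedralGroup.r i := by
  rcases x with i | i
  · exact ⟨i, rfl⟩
  · exfalso
    have h1 : (Multiplicative.ofAdd (1 : ZMod 2)) = 1 := hx
    have h2 : (1 : ZMod 2) = 0 := Multiplicative.ofAdd.injective h1
    exact absurd h2 (by decide)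

/-- the rotation index -/
def dihedralIdx (k : ℕ) (x : DihedralGroup k) : Multiplicative (ZMod k) :=
  match x with
  | DihedralGroup.r i => Multiplicative.ofAdd i
  | DihedralGroup.sr _ => 1

/-- rotations form a cyclic group -/
def dihedralRot (k : ℕ) : (dihedralSign k).ker →* Multiplicative (ZMod k) where
  toFun x := dihedralIdx k x.1
  map_one' := rfl
  map_mul' := by
    rintro ⟨x, hx⟩ ⟨y, hy⟩
    obtain ⟨i, rfl⟩ := dihedralSign_ker k x hx
    obtain ⟨j, rfl⟩ := dihedralSign_ker k y hy
    rfl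

theorem dihedralRot_injective (k : ℕ) : Function.Injective (dihedralRot k) := by
  rintro ⟨x, hx⟩ ⟨y, hy⟩ h
  obtain ⟨i, rfl⟩ := dihedralSign_ker k x hx
  obtain ⟨j, rfl⟩ := dihedralSign_ker k y hy
  have h' : Multiplicative.ofAdd i = Multiplicative.ofAdd j := h
  have h'' : i = j := Multiplicative.ofAdd.injective h'
  subst h''
  rfl

/-- a subgroup of a dihedral subgroup has an element of large order -/
theorem exists_orderOf_of_le_dihedral {G : Type*} [Group G] (M H : Subgroup G) [Finite M]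
    (k : ℕ) (f : M ≃* DihedralGroup k) (hH : H ≤ M) :
    ∃ h ∈ H, Nat.card H ≤ 2 * orderOf h := by
  haveI : Finite H := Finite.of_injective (Subgroup.inclusion hH) (Subgroup.inclusion_injective hH)
  let φ : H →* DihedralGroup k := f.toMonoidHom.comp (Subgroup.inclusion hH)
  have hφ : Function.Injective φ := f.injective.comp (Subgroup.inclusion_injective hH)
  let ψ : H →* Multiplicative (ZMod 2) := (dihedralSign k).comp φ
  let ρ₀ : ψ.ker →* (dihedralSign k).ker :=
    (φ.comp ψ.ker.subtype).codRestrict (dihedralSign k).ker (fun x => x.2)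
  have hρ₀ : Function.Injective ρ₀ := by
    intro x y h
    have h' : φ x.1 = φ y.1 := congrArg Subtype.val h
    exact Subtype.ext (hφ h')
  haveI : IsCyclic ψ.ker :=
    isCyclic_of_injective ((dihedralRot k).comp ρ₀) ((dihedralRot_injective k).comp hρ₀)
  obtain ⟨c, hc⟩ := IsCyclic.exists_generator (α := ψ.ker)
  refine ⟨c.1.1, c.1.2, ?_⟩
  rw [Subgroup.orderOf_coe, Subgroup.orderOf_coe, orderOf_eq_card_of_forall_mem_zpowers hc]
  have h1 := Subgroup.card_mul_index ψ.ker
  rw [Subgroup.index_ker] at h1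
  have h2 : Nat.card ψ.range ≤ 2 := by
    have := Subgroup.card_le_card_group ψ.range
    have h3 : Nat.card (Multiplicative (ZMod 2)) = 2 := by
      rw [Nat.card_eq_fintype_card]
      rfl
    omega
  calc Nat.card H = Nat.card ψ.ker * Nat.card ψ.range := h1.symm
    _ ≤ Nat.card ψ.ker * 2 := Nat.mul_le_mul_left _ h2
    _ = 2 * Nat.card ψ.ker := mul_comm _ _

/-- a `p'`-group embedded in the normalizer of a Sylow `p`-subgroup of `PSL₂(F)` is abelian -/
theorem comm_of_embeds_normalizer_sylow [Fintype F] (p : ℕ) [Fact p.Prime] [CharP F p]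
    (P : Sylow p (Matrix.ProjectiveSpecialLinearGroup (Fin 2) F))
    {H' : Type*} [Group H'] [Finite H']
    (g : H' →* Subgroup.normalizer
      ((P : Subgroup (Matrix.ProjectiveSpecialLinearGroup (Fin 2) F)) :
        Set (Matrix.ProjectiveSpecialLinearGroup (Fin 2) F)))
    (hg : Function.Injective g) (hcop : (Nat.card H').Coprime p) (x y : H') : x * y = y * x := by
  obtain ⟨a, haU, hP⟩ := sylow_eq_torusOf p P
  obtain ⟨B, χ, hB, hχ, -⟩ := exists_borel haU
  have hNB : ∀ z : Matrix.ProjectiveSpecialLinearGroup (Fin 2) F,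
      z ∈ Subgroup.normalizer
        ((P : Subgroup (Matrix.ProjectiveSpecialLinearGroup (Fin 2) F)) :
          Set (Matrix.ProjectiveSpecialLinearGroup (Fin 2) F)) → z ∈ B := by
    intro z hz
    have hz' : z ∈ Subgroup.normalizer
        ((torusOf a : Subgroup (Matrix.ProjectiveSpecialLinearGroup (Fin 2) F)) :
          Set (Matrix.ProjectiveSpecialLinearGroup (Fin 2) F)) := by
      rw [← hP]
      exact hz
    exact (hB z).mpr ((mem_normalizer_torusOf haU.1).mp hz')
  let g' : H' →* B :=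
    ((Subgroup.normalizer
      ((P : Subgroup (Matrix.ProjectiveSpecialLinearGroup (Fin 2) F)) :
        Set (Matrix.ProjectiveSpecialLinearGroup (Fin 2) F))).subtype.comp g).codRestrict B
      (fun z => hNB _ (g z).2)
  have hc : χ (g' (x * y * x⁻¹ * y⁻¹)) = 1 := by
    rw [map_mul, map_mul, map_mul, map_inv, map_inv, map_mul, map_mul, map_mul, map_inv, map_inv,
      mul_comm (χ (g' x)) (χ (g' y)), mul_inv_cancel_right, mul_inv_cancel]
  rw [hχ] at hc
  obtain ⟨k, hk⟩ := isPGroup_torusOf p haU ⟨_, hc⟩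
  have hk' : ((g (x * y * x⁻¹ * y⁻¹) : Subgroup.normalizer
      ((P : Subgroup (Matrix.ProjectiveSpecialLinearGroup (Fin 2) F)) :
        Set (Matrix.ProjectiveSpecialLinearGroup (Fin 2) F))) :
      Matrix.ProjectiveSpecialLinearGroup (Fin 2) F) ^ (p ^ k) = 1 := by
    have := congrArg Subtype.val hk
    exact this
  have hpow : (x * y * x⁻¹ * y⁻¹) ^ (p ^ k) = 1 := by
    apply hg
    apply Subtype.ext
    rw [map_pow, map_one, Subgroup.coe_pow, Subgroup.coe_one]
    exact hk'
  have hord : orderOf (x * y * x⁻¹ * y⁻¹) ∣ p ^ k := orderOf_dvd_of_pow_eq_one hpow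
  have hord2 : orderOf (x * y * x⁻¹ * y⁻¹) ∣ Nat.card H' := orderOf_dvd_natCard _
  have h1 : orderOf (x * y * x⁻¹ * y⁻¹) = 1 :=
    Nat.Coprime.eq_one_of_dvd (Nat.Coprime.coprime_dvd_left hord2 (hcop.pow_right k)) hord
  rw [orderOf_eq_one_iff] at h1
  calc x * y = (x * y * x⁻¹ * y⁻¹) * (y * x) := by group
    _ = y * x := by rw [h1, one_mul]

/-- a proper subgroup of Lie type lives over a proper subfield -/
theorem two_le_of_lie_type [Fintype F]
    (M : Subgroup (Matrix.ProjectiveSpecialLinearGroup (Fin 2) F)) (hM : M ≠ ⊤)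
    (K : Type) [Field K] [Fintype K] (m : ℕ) (hm : Fintype.card K ^ m = Fintype.card F)
    (hiso : Nonempty (M ≃* Matrix.ProjectiveSpecialLinearGroup (Fin 2) K) ∨
      Nonempty (M ≃* Matrix.ProjGenLinGroup (Fin 2) K)) : 2 ≤ m := by
  have hG := card_psl2_mul_gcd (F := F)
  have hq1 : 1 < Fintype.card F := Fintype.one_lt_card
  have hlt : Nat.card M < Nat.card (Matrix.ProjectiveSpecialLinearGroup (Fin 2) F) := by
    apply lt_of_le_of_ne (Subgroup.card_le_card_group M)
    intro h
    exact hM ((Subgroup.card_eq_iff_eq_top M).mp h)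
  have hd0 : 0 < Nat.gcd 2 (Fintype.card F - 1) := Nat.gcd_pos_of_pos_left _ (by norm_num)
  by_contra hcon
  have hm01 : m = 0 ∨ m = 1 := by omega
  rcases hm01 with rfl | rfl
  · rw [pow_zero] at hm
    omega
  · rw [pow_one] at hm
    rcases hiso with hf | hf
    · obtain ⟨f⟩ := hf
      have h1 := card_psl2_mul_gcd (F := K)
      rw [hm, ← hG, ← Nat.card_congr f.toEquiv] at h1
      have := Nat.eq_of_mul_eq_mul_right hd0 h1
      omega
    · obtain ⟨f⟩ := hf
      have h1 : Nat.card M = Fintype.card F * (Fintype.card F ^ 2 - 1) := by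
        rw [Nat.card_congr f.toEquiv, Cfsg.Agent.Lib.Helper59.card_pgl2, hm]
      rw [← hG] at h1
      have : Nat.card (Matrix.ProjectiveSpecialLinearGroup (Fin 2) F) ≤
          Nat.card (Matrix.ProjectiveSpecialLinearGroup (Fin 2) F) *
            Nat.gcd 2 (Fintype.card F - 1) :=
        Nat.le_mul_of_pos_right _ hd0
      omega

/-- the order of a subgroup of Lie type divides `r (r² - 1)` -/
theorem card_dvd_of_lie_type {G : Type*} [Group G] (M : Subgroup G)
    (K : Type) [Field K] [Fintype K]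
    (hiso : Nonempty (M ≃* Matrix.ProjectiveSpecialLinearGroup (Fin 2) K) ∨
      Nonempty (M ≃* Matrix.ProjGenLinGroup (Fin 2) K)) :
    Nat.card M ∣ Fintype.card K * (Fintype.card K ^ 2 - 1) := by
  rcases hiso with hf | hf
  · obtain ⟨f⟩ := hf
    rw [Nat.card_congr f.toEquiv, ← card_psl2_mul_gcd (F := K)]
    exact Dvd.intro _ rfl
  · obtain ⟨f⟩ := hf
    rw [Nat.card_congr f.toEquiv, Cfsg.Agent.Lib.Helper59.card_pgl2]

theorem a4_pow (g : alternatingGroup (Fin 4)) : g ^ 2 = 1 ∨ g ^ 3 = 1 := by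
  revert g
  decide

set_option maxRecDepth 100000 in
theorem s4_pow (g : Equiv.Perm (Fin 4)) : g ^ 2 = 1 ∨ g ^ 3 = 1 ∨ g ^ 4 = 1 := by
  revert g
  decide

theorem a4_not_comm : ∃ x y : alternatingGroup (Fin 4), x * y ≠ y * x := by decide

theorem s4_not_comm : ∃ x y : Equiv.Perm (Fin 4), x * y ≠ y * x := by decide

/-- elements of a copy of `A₄` have order at most 3 -/
theorem orderOf_le_of_a4 {G : Type*} [Group G] (H : Subgroup G)
    (f : H ≃* alternatingGroup (Fin 4)) (h : G) (hh : h ∈ H) : orderOf h ≤ 3 := by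
  have h1 := a4_pow (f ⟨h, hh⟩)
  have key : ∀ n : ℕ, 0 < n → (f ⟨h, hh⟩) ^ n = 1 → orderOf h ≤ n := by
    intro n hn hpow
    rw [← map_pow] at hpow
    have h2 : (⟨h, hh⟩ : H) ^ n = 1 := f.injective (by rw [hpow, map_one])
    have h3 : h ^ n = 1 := by
      have := congrArg Subtype.val h2
      rwa [Subgroup.coe_pow] at this
    exact Nat.le_of_dvd hn (orderOf_dvd_of_pow_eq_one h3)
  rcases h1 with h1 | h1
  · exact (key 2 (by norm_num) h1).trans (by norm_num)
  · exact key 3 (by norm_num) h1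

/-- elements of a copy of `S₄` have order at most 4 -/
theorem orderOf_le_of_s4 {G : Type*} [Group G] (H : Subgroup G)
    (f : H ≃* Equiv.Perm (Fin 4)) (h : G) (hh : h ∈ H) : orderOf h ≤ 4 := by
  have h1 := s4_pow (f ⟨h, hh⟩)
  have key : ∀ n : ℕ, 0 < n → (f ⟨h, hh⟩) ^ n = 1 → orderOf h ≤ n := by
    intro n hn hpow
    rw [← map_pow] at hpow
    have h2 : (⟨h, hh⟩ : H) ^ n = 1 := f.injective (by rw [hpow, map_one])
    have h3 : h ^ n = 1 := by
      have := congrArg Subtype.val h2
      rwa [Subgroup.coe_pow] at this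
    exact Nat.le_of_dvd hn (orderOf_dvd_of_pow_eq_one h3)
  rcases h1 with h1 | h1 | h1
  · exact (key 2 (by norm_num) h1).trans (by norm_num)
  · exact (key 3 (by norm_num) h1).trans (by norm_num)
  · exact key 4 (by norm_num) h1

end Cfsg.Agent.Lib.Helper41
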