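import Cfsg.Agent.Lib.Helper41.SL2Odd
import Cfsg.Agent.Lib.Helper41.SL2OddOrder

set_option autoImplicit false

namespace Cfsg.Agent.Lib.Helper41

open Matrix

variable {F : Type*} [Field F]

/-- an element of `SL₂` whose square is `-1` has trace zero -/
theorem trace_zero_of_sq (X : Matrix.SpecialLinearGroup (Fin 2) F) (h : X.1 * X.1 = -1) :
    X.1.trace = 0 := by
  have hc := cayley2_det_one X.det_coe
  rw [h] at hc
  have h0 : X.1.trace • X.1 = 0 := by
    have : X.1.trace • X.1 = (X.1.trace • X.1 - 1) + 1 := by abel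
    rw [this, ← hc]
    simp
  by_contra hne
  have hX : X.1 = 0 := by
    rcases smul_eq_zero.mp h0 with h' | h'
    · exact absurd h' hne
    · exact h'
  have hdet := X.det_coe
  rw [hX] at hdet
  simp at hdet

/-- an element of `SL₂` of trace zero has square `-1` -/
theorem sq_of_trace_zero (X : Matrix.SpecialLinearGroup (Fin 2) F) (h : X.1.trace = 0) :
    X.1 * X.1 = -1 := by
  rw [cayley2_det_one X.det_coe, h]
  simp

/-- the element `-1` of `SL₂` -/
def negOne : Matrix.SpecialLinearGroup (Fin 2) F := ⟨-1, by simp [det_fin_two]⟩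

theorem negOne_coe : (negOne : Matrix.SpecialLinearGroup (Fin 2) F).1 = -1 := rfl

theorem negOne_mul_self : (negOne : Matrix.SpecialLinearGroup (Fin 2) F) * negOne = 1 := by
  apply Subtype.ext
  rw [Matrix.SpecialLinearGroup.coe_mul, negOne_coe]
  simp

theorem negOne_ne_one (h2 : (2 : F) ≠ 0) : (negOne : Matrix.SpecialLinearGroup (Fin 2) F) ≠ 1 := by
  intro h
  have h1 := congrArg (fun M : Matrix.SpecialLinearGroup (Fin 2) F => M.1 0 0) h
  simp [negOne_coe] at h1
  apply h2
  linear_combination -h1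

theorem sq_eq_one_cases (h2 : (2 : F) ≠ 0) (t : Matrix.SpecialLinearGroup (Fin 2) F)
    (h : t * t = 1) : t = 1 ∨ t = negOne := by
  have h' : t.1 * t.1 = 1 := by
    rw [← Matrix.SpecialLinearGroup.coe_mul, h]
    rfl
  rcases sl2_sq_eq_one h2 t h' with h1 | h1
  · left
    exact Subtype.ext h1
  · right
    exact Subtype.ext h1

theorem sq_eq_negOne_iff (X : Matrix.SpecialLinearGroup (Fin 2) F) :
    X * X = negOne ↔ X.1.trace = 0 := by
  constructor
  · intro h
    apply trace_zero_of_sq
    rw [← Matrix.SpecialLinearGroup.coe_mul, h]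
    rfl
  · intro h
    apply Subtype.ext
    rw [Matrix.SpecialLinearGroup.coe_mul, sq_of_trace_zero X h]
    rfl

theorem weylW_sq : (weylW : Matrix.SpecialLinearGroup (Fin 2) F) * weylW = negOne := by
  rw [sq_eq_negOne_iff, weylW_coe]
  simp [Matrix.trace_fin_two]

/-- elements of trace zero in `SL₂` over a finite field of odd order are conjugate -/
theorem conj_of_trace_zero [Fintype F] (h2 : (2 : F) ≠ 0)
    (X Y : Matrix.SpecialLinearGroup (Fin 2) F) (hX : X.1.trace = 0) (hY : Y.1.trace = 0) :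
    ∃ P : Matrix.SpecialLinearGroup (Fin 2) F, P * X * P⁻¹ = Y := by
  apply conj_of_trace_eq h2 X Y
  · rw [hX]
    intro h
    apply h2
    have h4 : (4 : F) = 2 * 2 := by norm_num
    have : (2 : F) * 2 = 0 := by rw [← h4, ← h]; ring
    exact (mul_self_eq_zero.mp this)
  · rw [hX, hY]

/-- abstract involution structure of `SL₂` over a finite field of odd order -/
theorem sl2_involution_props [Fintype F] (h2 : (2 : F) ≠ 0) :
    ∃ z : Matrix.SpecialLinearGroup (Fin 2) F, z ≠ 1 ∧ z * z = 1 ∧
      (∀ t : Matrix.SpecialLinearGroup (Fin 2) F, t * t = 1 → t = 1 ∨ t = z) ∧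
      (∃ a : Matrix.SpecialLinearGroup (Fin 2) F, a * a = z) ∧
      (∀ a b : Matrix.SpecialLinearGroup (Fin 2) F, a * a = z → b * b = z →
        ∃ g : Matrix.SpecialLinearGroup (Fin 2) F, g * a * g⁻¹ = b) := by
  refine ⟨negOne, negOne_ne_one h2, negOne_mul_self, sq_eq_one_cases h2, ⟨weylW, weylW_sq⟩, ?_⟩
  intro a b ha hb
  exact conj_of_trace_zero h2 a b ((sq_eq_negOne_iff a).mp ha) ((sq_eq_negOne_iff b).mp hb)

end Cfsg.Agent.Lib.Helper41
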