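import Mathlib

set_option autoImplicit false

/-!
Generating pairs of `A₄`, `S₄`, `A₅` of type `(2, 3, n)` and their transport along isomorphisms.
-/

namespace Cfsg.Agent.Lib.Helper41

open Equiv

/-- transport of a pair of type `(2, 3, n)` along an isomorphism -/
theorem exists_pair_of_equiv {G X : Type*} [Group G] [Group X] (M : Subgroup G) (e : M ≃* X)
    (a b : X) (n : ℕ) (ha : orderOf a = 2) (hb : orderOf b = 3) (hab : orderOf (a * b) = n) :
    ∃ x y : G, x ∈ M ∧ y ∈ M ∧ orderOf x = 2 ∧ orderOf y = 3 ∧ orderOf (x * y) = n ∧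
      (Subgroup.closure ({a, b} : Set X) = ⊤ → Subgroup.closure ({x, y} : Set G) = M) := by
  refine ⟨(e.symm a : G), (e.symm b : G), (e.symm a).2, (e.symm b).2, ?_, ?_, ?_, ?_⟩
  · rw [Subgroup.orderOf_coe, MulEquiv.orderOf_eq, ha]
  · rw [Subgroup.orderOf_coe, MulEquiv.orderOf_eq, hb]
  · rw [← Subgroup.coe_mul, Subgroup.orderOf_coe, ← map_mul, MulEquiv.orderOf_eq, hab]
  · intro hgen
    have h1 : Subgroup.closure ({e.symm a, e.symm b} : Set M) = ⊤ := by
      have h2 := congrArg (Subgroup.map e.symm.toMonoidHom) hgen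
      rw [MonoidHom.map_closure, Subgroup.map_top_of_surjective _ e.symm.surjective,
        Set.image_pair] at h2
      exact h2
    have h3 := congrArg (Subgroup.map M.subtype) h1
    rw [MonoidHom.map_closure, Set.image_pair, ← MonoidHom.range_eq_map, Subgroup.range_subtype]
      at h3
    exact h3

/-- a pair of elements generating a subgroup whose order is a multiple of their orders -/
theorem orderOf_dvd_card_closure {G : Type*} [Group G] [Finite G] (S : Set G) (x : G) (hx : x ∈ S) :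
    orderOf x ∣ Nat.card (Subgroup.closure S) := by
  have h1 : orderOf (⟨x, Subgroup.subset_closure hx⟩ : Subgroup.closure S) ∣
      Nat.card (Subgroup.closure S) := orderOf_dvd_natCard _
  rwa [← Subgroup.orderOf_coe] at h1

/-! ### `A₄` -/

/-- the double transposition `(0 1)(2 3)` in `A₄` -/
def a4a : alternatingGroup (Fin 4) := ⟨swap 0 1 * swap 2 3, Equiv.Perm.mem_alternatingGroup.mpr (by decide)⟩

/-- the three-cycle `(0 1 2)` in `A₄` -/
def a4b : alternatingGroup (Fin 4) := ⟨swap 0 1 * swap 1 2, Equiv.Perm.mem_alternatingGroup.mpr (by decide)⟩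

theorem a4_gen : orderOf a4a = 2 ∧ orderOf a4b = 3 ∧ orderOf (a4a * a4b) = 3 ∧
    Subgroup.closure ({a4a, a4b} : Set (alternatingGroup (Fin 4))) = ⊤ := by
  haveI : Fact (Nat.Prime 2) := ⟨Nat.prime_two⟩
  haveI : Fact (Nat.Prime 3) := ⟨Nat.prime_three⟩
  refine ⟨orderOf_eq_prime (by decide) (by decide), orderOf_eq_prime (by decide) (by decide),
    orderOf_eq_prime (by decide) (by decide), ?_⟩
  rw [eq_top_iff]
  intro g _
  have key : ∀ g : alternatingGroup (Fin 4), ∃ i j : Fin 3, ∃ k : Fin 2,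
      g = a4b ^ (i : ℕ) * a4a ^ (k : ℕ) * a4b ^ (j : ℕ) := by decide
  obtain ⟨i, j, k, rfl⟩ := key g
  have ha : a4a ∈ Subgroup.closure ({a4a, a4b} : Set (alternatingGroup (Fin 4))) :=
    Subgroup.subset_closure (by simp)
  have hb : a4b ∈ Subgroup.closure ({a4a, a4b} : Set (alternatingGroup (Fin 4))) :=
    Subgroup.subset_closure (by simp)
  exact mul_mem (mul_mem (pow_mem hb _) (pow_mem ha _)) (pow_mem hb _)

/-! ### `S₄` -/

/-- the transposition `(0 1)` -/
def s4a : Perm (Fin 4) := swap 0 1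

/-- the three-cycle `(1 2 3)` -/
def s4b : Perm (Fin 4) := swap 1 2 * swap 2 3

theorem s4_gen : orderOf s4a = 2 ∧ orderOf s4b = 3 ∧ orderOf (s4a * s4b) = 4 ∧
    Subgroup.closure ({s4a, s4b} : Set (Perm (Fin 4))) = ⊤ := by
  haveI : Fact (Nat.Prime 2) := ⟨Nat.prime_two⟩
  haveI : Fact (Nat.Prime 3) := ⟨Nat.prime_three⟩
  have h4 : orderOf (s4a * s4b) = 4 :=
    orderOf_eq_prime_pow (p := 2) (n := 1) (by decide) (by decide)
  have h3 : orderOf s4b = 3 := orderOf_eq_prime (by decide) (by decide)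
  refine ⟨orderOf_eq_prime (by decide) (by decide), h3, h4, ?_⟩
  obtain ⟨H, hH⟩ : ∃ H : Subgroup (Perm (Fin 4)),
      H = Subgroup.closure ({s4a, s4b} : Set (Perm (Fin 4))) := ⟨_, rfl⟩
  rw [← hH]
  have ha : s4a ∈ H := by rw [hH]; exact Subgroup.subset_closure (by simp)
  have hb : s4b ∈ H := by rw [hH]; exact Subgroup.subset_closure (by simp)
  have hd3 : 3 ∣ Nat.card H := by
    rw [hH, ← h3]
    exact orderOf_dvd_card_closure _ _ (by simp)
  have hd4 : 4 ∣ Nat.card H := by
    have h5 : orderOf (⟨s4a * s4b, mul_mem ha hb⟩ : H) ∣ Nat.card H := orderOf_dvd_natCard _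
    rwa [← Subgroup.orderOf_coe, h4] at h5
  have hd12 : 12 ∣ Nat.card H :=
    Nat.Coprime.mul_dvd_of_dvd_of_dvd (by norm_num : Nat.Coprime 3 4) hd3 hd4
  have hcard : Nat.card (Perm (Fin 4)) = 24 := by
    rw [Nat.card_eq_fintype_card, Fintype.card_perm, Fintype.card_fin]
    rfl
  have hidx := Subgroup.card_mul_index H
  rw [hcard] at hidx
  obtain ⟨c, hc⟩ := hd12
  have hc0 : c ≠ 0 := by
    rintro rfl
    have : 0 < Nat.card H := Nat.card_pos
    omega
  have hc2 : c ≤ 2 := by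
    by_contra hcon
    push Not at hcon
    have h6 : 0 < H.index := Nat.pos_of_ne_zero (fun h => by rw [h] at hidx; omega)
    have : 12 * 3 * 1 ≤ 12 * c * H.index := Nat.mul_le_mul (Nat.mul_le_mul_left 12 hcon) h6
    rw [hc] at hidx
    omega
  have hc12 : c = 1 ∨ c = 2 := by omega
  rcases hc12 with rfl | rfl
  · have hidx2 : H.index = 2 := by
      rw [hc] at hidx
      omega
    haveI := Subgroup.normal_of_index_eq_two hidx2
    have hswap : ∀ σ : Perm (Fin 4), σ.IsSwap → σ ∈ H := by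
      rintro σ ⟨u, v, huv, rfl⟩
      have h7 := Equiv.Perm.isConj_swap (show (0 : Fin 4) ≠ 1 by decide) huv
      rw [isConj_iff] at h7
      obtain ⟨c, hc⟩ := h7
      rw [← hc]
      exact ‹H.Normal›.conj_mem _ ha c
    have h8 : Subgroup.closure {σ : Perm (Fin 4) | σ.IsSwap} ≤ H :=
      (Subgroup.closure_le H).mpr hswap
    rw [Equiv.Perm.closure_isSwap] at h8
    exact top_le_iff.mp h8
  · rw [← Subgroup.card_eq_iff_eq_top, hc, hcard]

/-! ### `A₅` -/

/-- the double transposition `(0 1)(2 3)` in `A₅` -/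
def a5a : alternatingGroup (Fin 5) := ⟨swap 0 1 * swap 2 3, Equiv.Perm.mem_alternatingGroup.mpr (by decide)⟩

/-- the three-cycle `(0 2 4)` in `A₅` -/
def a5b : alternatingGroup (Fin 5) := ⟨swap 0 2 * swap 2 4, Equiv.Perm.mem_alternatingGroup.mpr (by decide)⟩

theorem a5_gen : orderOf a5a = 2 ∧ orderOf a5b = 3 ∧ orderOf (a5a * a5b) = 5 ∧
    Subgroup.closure ({a5a, a5b} : Set (alternatingGroup (Fin 5))) = ⊤ := by
  haveI : Fact (Nat.Prime 2) := ⟨Nat.prime_two⟩
  haveI : Fact (Nat.Prime 3) := ⟨Nat.prime_three⟩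
  haveI : Fact (Nat.Prime 5) := ⟨by norm_num⟩
  have h2 : orderOf a5a = 2 := orderOf_eq_prime (by decide) (by decide)
  have h3 : orderOf a5b = 3 := orderOf_eq_prime (by decide) (by decide)
  have h5 : orderOf (a5a * a5b) = 5 := orderOf_eq_prime (by decide) (by decide)
  refine ⟨h2, h3, h5, ?_⟩
  obtain ⟨H, hH⟩ : ∃ H : Subgroup (alternatingGroup (Fin 5)),
      H = Subgroup.closure ({a5a, a5b} : Set (alternatingGroup (Fin 5))) := ⟨_, rfl⟩
  rw [← hH]
  have ha : a5a ∈ H := by rw [hH]; exact Subgroup.subset_closure (by simp)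
  have hb : a5b ∈ H := by rw [hH]; exact Subgroup.subset_closure (by simp)
  have hd2 : 2 ∣ Nat.card H := by
    rw [hH, ← h2]
    exact orderOf_dvd_card_closure _ _ (by simp)
  have hd3 : 3 ∣ Nat.card H := by
    rw [hH, ← h3]
    exact orderOf_dvd_card_closure _ _ (by simp)
  have hd5 : 5 ∣ Nat.card H := by
    have h6 : orderOf (⟨a5a * a5b, mul_mem ha hb⟩ : H) ∣ Nat.card H := orderOf_dvd_natCard _
    rwa [← Subgroup.orderOf_coe, h5] at h6
  have hd30 : 30 ∣ Nat.card H :=
    Nat.Coprime.mul_dvd_of_dvd_of_dvd (by norm_num : Nat.Coprime 6 5)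
      (Nat.Coprime.mul_dvd_of_dvd_of_dvd (by norm_num : Nat.Coprime 2 3) hd2 hd3) hd5
  have hcard : Nat.card (alternatingGroup (Fin 5)) = 60 := by
    rw [Nat.card_eq_fintype_card]
    decide
  have hidx := Subgroup.card_mul_index H
  rw [hcard] at hidx
  obtain ⟨c, hc⟩ := hd30
  have hc0 : c ≠ 0 := by
    rintro rfl
    have : 0 < Nat.card H := Nat.card_pos
    omega
  have hc2 : c ≤ 2 := by
    by_contra hcon
    push Not at hcon
    have h6 : 0 < H.index := Nat.pos_of_ne_zero (fun h => by rw [h] at hidx; omega)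
    have : 30 * 3 * 1 ≤ 30 * c * H.index := Nat.mul_le_mul (Nat.mul_le_mul_left 30 hcon) h6
    rw [hc] at hidx
    omega
  have hc12 : c = 1 ∨ c = 2 := by omega
  rcases hc12 with rfl | rfl
  · exfalso
    have hidx2 : H.index = 2 := by
      rw [hc] at hidx
      omega
    haveI := Subgroup.normal_of_index_eq_two hidx2
    haveI := alternatingGroup.isSimpleGroup_five
    rcases ‹H.Normal›.eq_bot_or_eq_top with h | h
    · rw [h, Subgroup.card_bot] at hc
      omega
    · rw [h, Subgroup.card_top, hcard] at hc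
      omega
  · rw [← Subgroup.card_eq_iff_eq_top, hc, hcard]

/-! ### further pairs -/

/-- a pair of type `(2, 3, 3)` in `S₄` -/
theorem s4_pair233 : ∃ a b : Perm (Fin 4), orderOf a = 2 ∧ orderOf b = 3 ∧ orderOf (a * b) = 3 := by
  haveI : Fact (Nat.Prime 2) := ⟨Nat.prime_two⟩
  haveI : Fact (Nat.Prime 3) := ⟨Nat.prime_three⟩
  exact ⟨swap 0 1 * swap 2 3, swap 0 1 * swap 1 2, orderOf_eq_prime (by decide) (by decide),
    orderOf_eq_prime (by decide) (by decide), orderOf_eq_prime (by decide) (by decide)⟩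

/-- the double transposition `(0 1)(2 3)` in `A₅` -/
def a5c : alternatingGroup (Fin 5) := ⟨swap 0 1 * swap 1 2, Equiv.Perm.mem_alternatingGroup.mpr (by decide)⟩

/-- a pair of type `(2, 3, 3)` in `A₅` -/
theorem a5_pair233 : ∃ a b : alternatingGroup (Fin 5),
    orderOf a = 2 ∧ orderOf b = 3 ∧ orderOf (a * b) = 3 := by
  haveI : Fact (Nat.Prime 2) := ⟨Nat.prime_two⟩
  haveI : Fact (Nat.Prime 3) := ⟨Nat.prime_three⟩
  exact ⟨a5a, a5c, orderOf_eq_prime (by decide) (by decide),
    orderOf_eq_prime (by decide) (by decide), orderOf_eq_prime (by decide) (by decide)⟩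

/-- an element of order three in `S₄` inverted by an involution -/
theorem s4_inverting : ∃ x y : Perm (Fin 4), orderOf x = 3 ∧ orderOf y = 2 ∧ y * x * y⁻¹ = x⁻¹ := by
  haveI : Fact (Nat.Prime 2) := ⟨Nat.prime_two⟩
  haveI : Fact (Nat.Prime 3) := ⟨Nat.prime_three⟩
  exact ⟨swap 0 1 * swap 1 2, swap 0 1, orderOf_eq_prime (by decide) (by decide),
    orderOf_eq_prime (by decide) (by decide), by decide⟩

/-- the five-cycle `(0 1 2 3 4)` in `A₅` -/
def a5x : alternatingGroup (Fin 5) := ⟨swap 0 1 * swap 1 2 * swap 2 3 * swap 3 4, Equiv.Perm.mem_alternatingGroup.mpr (by decide)⟩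

/-- the double transposition `(1 4)(2 3)` in `A₅` -/
def a5y : alternatingGroup (Fin 5) := ⟨swap 1 4 * swap 2 3, Equiv.Perm.mem_alternatingGroup.mpr (by decide)⟩

/-- an element of order five in `A₅` inverted by an involution -/
theorem a5_inverting : ∃ x y : alternatingGroup (Fin 5),
    orderOf x = 5 ∧ orderOf y = 2 ∧ y * x * y⁻¹ = x⁻¹ := by
  haveI : Fact (Nat.Prime 2) := ⟨Nat.prime_two⟩
  haveI : Fact (Nat.Prime 5) := ⟨by norm_num⟩
  exact ⟨a5x, a5y, orderOf_eq_prime (by decide) (by decide),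
    orderOf_eq_prime (by decide) (by decide), by decide⟩

/-- transport of an inverted element along an isomorphism -/
theorem exists_inverting_of_equiv {G X : Type*} [Group G] [Group X] (K : Subgroup G) (e : K ≃* X)
    (a b : X) (r : ℕ) (ha : orderOf a = r) (hb : orderOf b = 2) (hab : b * a * b⁻¹ = a⁻¹) :
    ∃ x y : G, x ∈ K ∧ y ∈ K ∧ orderOf x = r ∧ orderOf y = 2 ∧ y * x * y⁻¹ = x⁻¹ := by
  refine ⟨(e.symm a : G), (e.symm b : G), (e.symm a).2, (e.symm b).2, ?_, ?_, ?_⟩
  · rw [Subgroup.orderOf_coe, MulEquiv.orderOf_eq, ha]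
  · rw [Subgroup.orderOf_coe, MulEquiv.orderOf_eq, hb]
  · rw [← Subgroup.coe_inv, ← Subgroup.coe_mul, ← Subgroup.coe_mul, ← Subgroup.coe_inv, ← map_inv,
      ← map_mul, ← map_mul, ← map_inv, hab]

end Cfsg.Agent.Lib.Helper41
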