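import Cfsg.Agent.Lib.Helper41.SL2Torus

set_option autoImplicit false

namespace Cfsg.Agent.Lib.Helper41

open Matrix

variable {F : Type*} [Field F]

/-- a root of the characteristic polynomial gives an eigenvector -/
theorem no_root_of_no_eigenvector (g : Matrix.SpecialLinearGroup (Fin 2) F)
    (h : ∀ (c : F) (v : Fin 2 → F), v ≠ 0 → g.1.mulVec v ≠ c • v) :
    ∀ a : F, a * a - g.1.trace * a + 1 ≠ 0 := by
  intro a ha
  have hdet : (g.1 - scalar (Fin 2) a).det = 0 := by
    have hg := g.det_coe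
    rw [Matrix.det_fin_two] at hg
    rw [scalar_eq, Matrix.det_fin_two]
    rw [Matrix.trace_fin_two] at ha
    simp
    linear_combination ha + hg
  obtain ⟨v, hv, hv0⟩ := Matrix.exists_mulVec_eq_zero_iff.mpr hdet
  apply h a v hv
  rw [Matrix.sub_mulVec, sub_eq_zero] at hv0
  rw [hv0, scalar_eq_smul_one, Matrix.smul_mulVec, Matrix.one_mulVec]

theorem trace_sq_ne_four_of_nonsplit {τ : F} (hno : ∀ a : F, a * a - τ * a + 1 ≠ 0) :
    τ * τ ≠ 4 := by
  intro h
  have h1 : (τ - 2) * (τ + 2) = 0 := by linear_combination h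
  rcases mul_eq_zero.mp h1 with h' | h'
  · apply hno 1
    linear_combination -h'
  · apply hno (-1)
    linear_combination h'

/-- without a root the discriminant is not a square -/
theorem nonsplit_disc (h2 : (2 : F) ≠ 0) {τ : F} (hno : ∀ a : F, a * a - τ * a + 1 ≠ 0) :
    ¬ IsSquare (τ * τ - 4) := by
  rintro ⟨s, hs⟩
  have h4 : (4 : F) ≠ 0 := by
    have : (4 : F) = 2 * 2 := by norm_num
    rw [this]
    exact mul_ne_zero h2 h2
  obtain ⟨a, ha⟩ : ∃ a : F, 2 * a = τ + s := ⟨(τ + s) / 2, mul_div_cancel₀ _ h2⟩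
  apply hno a
  apply mul_left_cancel₀ h4
  linear_combination (2 * a + s - τ) * ha - hs

/-- the ratio of two non-squares of a finite field is a square -/
theorem exists_sqrt_ratio [Fintype F] {u v : F} (hu : ¬ IsSquare u) (hv : ¬ IsSquare v) :
    ∃ b : F, b * b * u = v := by
  classical
  have hu0 : u ≠ 0 := by
    rintro rfl
    exact hu (IsSquare.zero)
  have hv0 : v ≠ 0 := by
    rintro rfl
    exact hv (IsSquare.zero)
  have h1 : quadraticChar F (v * u) = 1 := by
    rw [map_mul, quadraticChar_neg_one_iff_not_isSquare.mpr hu,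
      quadraticChar_neg_one_iff_not_isSquare.mpr hv]
    norm_num
  obtain ⟨c, hc⟩ := (quadraticChar_one_iff_isSquare (mul_ne_zero hv0 hu0)).mp h1
  refine ⟨c / u, ?_⟩
  field_simp
  linear_combination -hc

section finite

variable [Fintype F]

/-- a non-split torus contains elements of every non-split trace -/
theorem exists_mem_centralizer_trace (h2 : (2 : F) ≠ 0)
    (W : Matrix.SpecialLinearGroup (Fin 2) F)
    (hW : ∀ a : F, a * a - W.1.trace * a + 1 ≠ 0) {τ : F}
    (hτ : ∀ a : F, a * a - τ * a + 1 ≠ 0) :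
    ∃ t ∈ Subgroup.centralizer ({W} : Set (Matrix.SpecialLinearGroup (Fin 2) F)),
      t.1.trace = τ := by
  have h4 : (4 : F) ≠ 0 := by
    have : (4 : F) = 2 * 2 := by norm_num
    rw [this]
    exact mul_ne_zero h2 h2
  obtain ⟨b, hb⟩ := exists_sqrt_ratio (nonsplit_disc h2 hW) (nonsplit_disc h2 hτ)
  obtain ⟨a, ha⟩ : ∃ a : F, 2 * a = τ - b * W.1.trace :=
    ⟨(τ - b * W.1.trace) / 2, mul_div_cancel₀ _ h2⟩
  have hp : ((a, b) : F × F) ∈ conic W.1.trace := by
    rw [mem_conic]
    apply mul_left_cancel₀ h4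
    linear_combination (2 * a + τ + b * W.1.trace) * ha - hb
  refine ⟨conicElt W ⟨(a, b), hp⟩, conicElt_mem W _, ?_⟩
  rw [conicElt_coe, scalar_eq]
  simp [Matrix.trace_fin_two]
  rw [Matrix.trace_fin_two] at ha
  linear_combination ha

/-- an element without eigenvalue is conjugate into any non-split torus -/
theorem nonsplit_conj_mem (h2 : (2 : F) ≠ 0) (W : Matrix.SpecialLinearGroup (Fin 2) F)
    (hW : ∀ a : F, a * a - W.1.trace * a + 1 ≠ 0) (g : Matrix.SpecialLinearGroup (Fin 2) F)
    (hg : ∀ a : F, a * a - g.1.trace * a + 1 ≠ 0) :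
    ∃ h : Matrix.SpecialLinearGroup (Fin 2) F,
      h * g * h⁻¹ ∈ Subgroup.centralizer ({W} : Set (Matrix.SpecialLinearGroup (Fin 2) F)) := by
  obtain ⟨t, htW, ht⟩ := exists_mem_centralizer_trace h2 W hW hg
  obtain ⟨P, hP⟩ := conj_of_trace_eq h2 g t (trace_sq_ne_four_of_nonsplit hg) ht
  exact ⟨P, by rw [hP]; exact htW⟩

/-- the three types of centralizers of noncentral elements -/
theorem card_centralizer_cases (h2 : (2 : F) ≠ 0) (A : Matrix.SpecialLinearGroup (Fin 2) F)
    (hA : A ∉ Subgroup.center (Matrix.SpecialLinearGroup (Fin 2) F)) :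
    (A.1.trace * A.1.trace = 4 ∧
      Nat.card (Subgroup.centralizer ({A} : Set (Matrix.SpecialLinearGroup (Fin 2) F))) =
        2 * Fintype.card F) ∨
    ((∃ l : F, l * l - A.1.trace * l + 1 = 0 ∧ l * l ≠ 1) ∧
      Nat.card (Subgroup.centralizer ({A} : Set (Matrix.SpecialLinearGroup (Fin 2) F))) =
        Fintype.card F - 1) ∨
    ((∀ a : F, a * a - A.1.trace * a + 1 ≠ 0) ∧
      Nat.card (Subgroup.centralizer ({A} : Set (Matrix.SpecialLinearGroup (Fin 2) F))) =
        Fintype.card F + 1) := by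
  rw [card_centralizer_eq_card_conic A hA]
  by_cases hτ : A.1.trace * A.1.trace = 4
  · left
    exact ⟨hτ, card_conic_unipotent h2 hτ⟩
  · right
    by_cases hno : ∀ a : F, a * a - A.1.trace * a + 1 ≠ 0
    · right
      exact ⟨hno, card_conic_nonsplit' h2 hno⟩
    · left
      push Not at hno
      obtain ⟨l, hl⟩ := hno
      have hl2 : l * l ≠ 1 := by
        intro h1
        apply hτ
        have h3 : A.1.trace * l = 2 := by linear_combination -hl + h1
        have : A.1.trace * A.1.trace * (l * l) = 4 := by linear_combination (A.1.trace * l + 2) * h3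
        rw [h1, mul_one] at this
        exact this
      exact ⟨⟨l, hl, hl2⟩, card_conic_split' hl hl2⟩

/-- existence of a cyclic non-split torus of order `q + 1` -/
theorem exists_nonsplit_torus (h2 : (2 : F) ≠ 0) :
    ∃ W : Matrix.SpecialLinearGroup (Fin 2) F, orderOf W = Fintype.card F + 1 ∧
      (∀ a : F, a * a - W.1.trace * a + 1 ≠ 0) ∧
      Nat.card (Subgroup.centralizer ({W} : Set (Matrix.SpecialLinearGroup (Fin 2) F))) =
        Fintype.card F + 1 ∧
      Subgroup.centralizer ({W} : Set (Matrix.SpecialLinearGroup (Fin 2) F)) =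
        Subgroup.zpowers W := by
  obtain ⟨p, hp⟩ := CharP.exists F
  have : Fact p.Prime := ⟨CharP.char_is_prime F p⟩
  obtain ⟨W, hW⟩ := exists_sl2_orderOf_card_add_one (F := F) p
  have hq1 : 1 < Fintype.card F := Fintype.one_lt_card
  have hq2 := card_mod_two_of_two_ne_zero h2
  have hWc : W ∉ Subgroup.center (Matrix.SpecialLinearGroup (Fin 2) F) := by
    intro hc
    rw [sl2_mem_center_iff] at hc
    have hWW : W ^ 2 = 1 := by
      apply Subtype.ext
      rw [pow_two, Matrix.SpecialLinearGroup.coe_mul]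
      rcases hc with h | h <;> rw [h] <;> simp
    have := orderOf_dvd_of_pow_eq_one hWW
    rw [hW] at this
    have := Nat.le_of_dvd (by norm_num) this
    omega
  have hle : Subgroup.zpowers W ≤
      Subgroup.centralizer ({W} : Set (Matrix.SpecialLinearGroup (Fin 2) F)) := by
    rw [Subgroup.zpowers_le, Subgroup.mem_centralizer_singleton_iff]
  have hdvd := Subgroup.card_dvd_of_le hle
  rw [Nat.card_zpowers, hW] at hdvd
  have hcard : (∀ a : F, a * a - W.1.trace * a + 1 ≠ 0) ∧
      Nat.card (Subgroup.centralizer ({W} : Set (Matrix.SpecialLinearGroup (Fin 2) F))) =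
        Fintype.card F + 1 := by
    rcases card_centralizer_cases h2 W hWc with ⟨_, h⟩ | ⟨_, h⟩ | h
    · exfalso
      rw [h] at hdvd
      have h3 : Fintype.card F + 1 ∣ 2 * (Fintype.card F + 1) - 2 * Fintype.card F :=
        Nat.dvd_sub (dvd_mul_left _ _) hdvd
      have h4 : 2 * (Fintype.card F + 1) - 2 * Fintype.card F = 2 := by omega
      rw [h4] at h3
      have := Nat.le_of_dvd (by norm_num) h3
      omega
    · exfalso
      rw [h] at hdvd
      have := Nat.le_of_dvd (by omega) hdvd
      omega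
    · exact h
  refine ⟨W, hW, hcard.1, hcard.2, ?_⟩
  symm
  apply Subgroup.eq_of_le_of_card_ge hle
  rw [Nat.card_zpowers, hW, hcard.2]

end finite

end Cfsg.Agent.Lib.Helper41
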