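import Mathlib
import Cfsg.Agent.Lib.Helper41.PSL2Part
import Cfsg.Agent.Lib.Helper41.PSL2Order
import Cfsg.Agent.Lib.Helper41.SL2Nonsplit
import Cfsg.Agent.Lib.Helper41.PSL2ExcGen
import Cfsg.Agent.Lib.Helper89.DicksonLie

set_option autoImplicit false

/-!
Sylow arguments excluding small dihedral maximal subgroups, and the exact order of the tori of
`PSL₂(F)` in odd characteristic.
-/

namespace Cfsg.Agent.Lib.Helper41

section general

open scoped Pointwise

variable {G : Type*} [Group G] [Finite G]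

/-- two subgroups of the full `r`-power order are conjugate -/
theorem exists_conj_of_card_pow (r : ℕ) [Fact r.Prime] (n : ℕ) (P Q : Subgroup G)
    (hP : Nat.card P = r ^ n) (hQ : Nat.card Q = r ^ n) (hG : ¬ r ^ (n + 1) ∣ Nat.card G) :
    ∃ g : G, ∀ x ∈ P, g * x * g⁻¹ ∈ Q := by
  have hidx : ∀ H : Subgroup G, Nat.card H = r ^ n → ¬ r ∣ H.index := by
    intro H hH hdvd
    apply hG
    rw [← Subgroup.card_mul_index H, hH, pow_succ]
    exact Nat.mul_dvd_mul_left _ hdvd
  obtain ⟨P', hP'⟩ : ∃ P' : Sylow r G, (P' : Subgroup G) = P :=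
    ⟨(IsPGroup.of_card hP).toSylow (hidx P hP), IsPGroup.toSylow_coe _ _⟩
  obtain ⟨Q', hQ'⟩ : ∃ Q' : Sylow r G, (Q' : Subgroup G) = Q :=
    ⟨(IsPGroup.of_card hQ).toSylow (hidx Q hQ), IsPGroup.toSylow_coe _ _⟩
  obtain ⟨g, hg⟩ := MulAction.exists_smul_eq G P' Q'
  refine ⟨g, fun x hx => ?_⟩
  have h1 : MulAut.conj g • x ∈ MulAut.conj g • (P' : Subgroup G) :=
    Subgroup.smul_mem_pointwise_smul x (MulAut.conj g) _ (by rw [hP']; exact hx)
  rw [← Sylow.coe_subgroup_smul, hg, hQ'] at h1
  exact h1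

/-- a coatom is not properly contained in a proper subgroup -/
theorem coatom_not_le (M : Subgroup G) (hM : IsCoatom M) (K : Subgroup G) (hle : M ≤ K)
    (h1 : Nat.card M < Nat.card K) (h2 : Nat.card K < Nat.card G) : False := by
  have hne : K ≠ ⊤ := by
    intro h
    rw [h, Subgroup.card_top] at h2
    omega
  have heq := (hM.le_iff_eq hne).mp hle
  rw [heq] at h1
  omega

/-- a maximal subgroup which is a Sylow subgroup is not properly embedded in a conjugate of a
subgroup of larger order -/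
theorem coatom_sylow_excl (M : Subgroup G) (hM : IsCoatom M) (r : ℕ) [Fact r.Prime] (n : ℕ)
    (hMc : Nat.card M = r ^ n) (hG : ¬ r ^ (n + 1) ∣ Nat.card G) (K : Subgroup G)
    (hK : r ^ n ∣ Nat.card K) (hK1 : Nat.card M < Nat.card K) (hK2 : Nat.card K < Nat.card G) :
    False := by
  obtain ⟨H, hH⟩ := Sylow.exists_subgroup_card_pow_prime (G := K) r hK
  have hH' : Nat.card (H.map K.subtype) = r ^ n := by
    rw [Subgroup.card_map_of_injective K.subtype_injective, hH]
  obtain ⟨g, hg⟩ := exists_conj_of_card_pow r n M (H.map K.subtype) hMc hH' hG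
  apply coatom_not_le M hM (K.map (MulAut.conj g⁻¹).toMonoidHom)
  · intro x hx
    rw [mem_map_conj_iff, inv_inv]
    obtain ⟨z, -, hz⟩ := hg x hx
    rw [← hz]
    exact z.2
  · rw [Subgroup.card_map_of_injective (MulAut.conj g⁻¹).injective]
    exact hK1
  · rw [Subgroup.card_map_of_injective (MulAut.conj g⁻¹).injective]
    exact hK2

/-- the normalizer of a Sylow subgroup of prime order `r`, of order `2r`, is not maximal if
a subgroup of larger order contains an element of order `r` inverted by an involution -/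
theorem coatom_normalizer_excl (M : Subgroup G) (hM : IsCoatom M) (T : Subgroup G)
    (hN : Subgroup.normalizer (T : Set G) = M) (r : ℕ) [Fact r.Prime] (hr2 : r ≠ 2)
    (hT : Nat.card T = r) (hG : ¬ r ^ 2 ∣ Nat.card G) (hMc : Nat.card M = 2 * r)
    (K : Subgroup G) (hK1 : 2 * r < Nat.card K) (hK2 : Nat.card K < Nat.card G)
    (x y : G) (hx : x ∈ K) (hy : y ∈ K) (hox : orderOf x = r) (hoy : orderOf y = 2)
    (hxy : y * x * y⁻¹ = x⁻¹) : False := by
  have hr : r.Prime := Fact.out
  have hR : Nat.card (Subgroup.zpowers x) = r ^ 1 := by rw [Nat.card_zpowers, hox, pow_one]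
  obtain ⟨g, hg⟩ := exists_conj_of_card_pow r 1 (Subgroup.zpowers x) T hR
    (by rw [pow_one]; exact hT) hG
  obtain ⟨x', hx'⟩ : ∃ x' : G, x' = g * x * g⁻¹ := ⟨_, rfl⟩
  obtain ⟨y', hy'⟩ : ∃ y' : G, y' = g * y * g⁻¹ := ⟨_, rfl⟩
  have hx'T : x' ∈ T := by
    rw [hx']
    exact hg x (Subgroup.mem_zpowers x)
  have hox' : orderOf x' = r := by
    rw [hx', ← hox]
    exact MulEquiv.orderOf_eq (MulAut.conj g) x
  have hoy' : orderOf y' = 2 := by
    rw [hy', ← hoy]
    exact MulEquiv.orderOf_eq (MulAut.conj g) y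
  have hTz : Subgroup.zpowers x' = T := by
    apply Subgroup.eq_of_le_of_card_ge
    · rw [Subgroup.zpowers_le]
      exact hx'T
    · rw [Nat.card_zpowers, hox', hT]
  have hinv : y' * x' * y'⁻¹ = x'⁻¹ := by
    rw [hx', hy']
    calc g * y * g⁻¹ * (g * x * g⁻¹) * (g * y * g⁻¹)⁻¹ = g * (y * x * y⁻¹) * g⁻¹ := by group
      _ = (g * x * g⁻¹)⁻¹ := by rw [hxy]; group
  have hy'N : y' ∈ Subgroup.normalizer (T : Set G) := by
    apply Subgroup.mem_normalizer_fintype
    intro n hn
    have hn' : n ∈ Subgroup.zpowers x' := by rw [hTz]; exact hn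
    obtain ⟨i, rfl⟩ := Subgroup.mem_zpowers_iff.mp hn'
    have e : y' * x' ^ i * y'⁻¹ = (x'⁻¹) ^ i := by
      have h1 : (MulAut.conj y') (x' ^ i) = ((MulAut.conj y') x') ^ i := map_zpow _ _ _
      rw [MulAut.conj_apply, MulAut.conj_apply, hinv] at h1
      exact h1
    rw [e]
    exact zpow_mem (inv_mem hx'T) i
  have hx'M : x' ∈ M := by
    rw [← hN]
    exact Subgroup.le_normalizer hx'T
  have hy'M : y' ∈ M := by
    rw [← hN]
    exact hy'N
  have hLM : Subgroup.closure ({x', y'} : Set G) ≤ M := by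
    rw [Subgroup.closure_le]
    intro z hz
    rcases hz with rfl | rfl
    · exact hx'M
    · exact hy'M
  have hd1 : r ∣ Nat.card (Subgroup.closure ({x', y'} : Set G)) := by
    rw [← hox']
    exact orderOf_dvd_card_closure _ _ (by simp)
  have hd2 : 2 ∣ Nat.card (Subgroup.closure ({x', y'} : Set G)) := by
    rw [← hoy']
    exact orderOf_dvd_card_closure _ _ (by simp)
  have hcop : Nat.Coprime 2 r := by
    rw [Nat.coprime_primes Nat.prime_two hr]
    exact fun h => hr2 h.symm
  have hd3 : 2 * r ∣ Nat.card (Subgroup.closure ({x', y'} : Set G)) :=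
    Nat.Coprime.mul_dvd_of_dvd_of_dvd hcop hd2 hd1
  have hLeq : Subgroup.closure ({x', y'} : Set G) = M := by
    apply Subgroup.eq_of_le_of_card_ge hLM
    rw [hMc]
    exact Nat.le_of_dvd Nat.card_pos hd3
  apply coatom_not_le M hM (K.map (MulAut.conj g).toMonoidHom)
  · rw [← hLeq, Subgroup.closure_le]
    intro z hz
    rcases hz with rfl | rfl
    · rw [hx']
      exact ⟨x, hx, rfl⟩
    · rw [hy']
      exact ⟨y, hy, rfl⟩
  · rw [Subgroup.card_map_of_injective (MulAut.conj g).injective, hMc]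
    exact hK1
  · rw [Subgroup.card_map_of_injective (MulAut.conj g).injective]
    exact hK2

end general

section torus

open Matrix

variable {F : Type*} [Field F] [Fintype F]

/-- the exact order of a non-unipotent torus in odd characteristic -/
theorem card_torusOf_odd (h2 : (2 : F) ≠ 0)
    {a : Matrix.ProjectiveSpecialLinearGroup (Fin 2) F} (ha : a ≠ 1) (haU : ¬ IsUni a) :
    2 * Nat.card (torusOf a) = Fintype.card F - 1 ∨
      2 * Nat.card (torusOf a) = Fintype.card F + 1 := by
  obtain ⟨A, rfl⟩ := QuotientGroup.mk_surjective a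
  have hA : A ∉ Subgroup.center (Matrix.SpecialLinearGroup (Fin 2) F) := by
    rwa [Ne, QuotientGroup.eq_one_iff] at ha
  rw [torusOf_mk]
  have hcomap : (cenIm A).comap
      (QuotientGroup.mk' (Subgroup.center (Matrix.SpecialLinearGroup (Fin 2) F))) =
      Subgroup.centralizer ({A} : Set (Matrix.SpecialLinearGroup (Fin 2) F)) := by
    ext Y
    rw [Subgroup.mem_comap]
    exact mk_mem_cenIm A Y
  have hcard : Nat.card (Subgroup.centralizer ({A} : Set (Matrix.SpecialLinearGroup (Fin 2) F))) =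
      Nat.card (cenIm A) * 2 := by
    rw [← hcomap, Cfsg.Agent.Lib.Helper89.card_comap_eq_mul, QuotientGroup.ker_mk',
      card_center_sl2, (gcd_two_card_sub_one (F := F)).1 h2]
    congr 1
    have hint : ((cenIm A : Subgroup (Matrix.ProjectiveSpecialLinearGroup (Fin 2) F)) :
        Set (Matrix.ProjectiveSpecialLinearGroup (Fin 2) F)) ∩
        Set.range (QuotientGroup.mk' (Subgroup.center (Matrix.SpecialLinearGroup (Fin 2) F))) =
        (cenIm A : Set (Matrix.ProjectiveSpecialLinearGroup (Fin 2) F)) := by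
      rw [Set.inter_eq_left]
      intro h _
      exact QuotientGroup.mk'_surjective _ h
    rw [hint]
    exact (Nat.card_coe_set_eq _).symm
  rcases card_centralizer_cases h2 A hA with ⟨h4, -⟩ | ⟨-, h⟩ | ⟨-, h⟩
  · exfalso
    exact haU ((isUni_mk A).mpr ⟨hA, h4⟩)
  · left
    rw [hcard] at h
    omega
  · right
    rw [hcard] at h
    omega

end torus

end Cfsg.Agent.Lib.Helper41
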