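import Cfsg.Agent.Lib.Helper41.SL2Nonsplit

set_option autoImplicit false

namespace Cfsg.Agent.Lib.Helper41

open Matrix

theorem orderOf_inv_mul_mul {G : Type*} [Group G] (a b : G) :
    orderOf (a⁻¹ * b * a) = orderOf b := by
  have := (MulAut.conj a⁻¹).orderOf_eq b
  simpa [MulAut.conj_apply] using this

variable {F : Type*} [Field F] [Fintype F]

/-- the centralizer of a regular element contains an element whose order is the order of the
centralizer -/
theorem exists_mem_centralizer_orderOf (h2 : (2 : F) ≠ 0)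
    (x : Matrix.SpecialLinearGroup (Fin 2) F) (hτ : x.1.trace * x.1.trace ≠ 4) :
    ∃ u ∈ Subgroup.centralizer ({x} : Set (Matrix.SpecialLinearGroup (Fin 2) F)),
      orderOf u =
        Nat.card (Subgroup.centralizer ({x} : Set (Matrix.SpecialLinearGroup (Fin 2) F))) := by
  have hx := not_mem_center_of_trace h2 x hτ
  rcases card_centralizer_cases h2 x hx with ⟨h, _⟩ | ⟨⟨l, hl, hl2⟩, hcard⟩ | ⟨hno, hcard⟩
  · exact absurd h hτ
  · have hl0 : l ≠ 0 := by
      rintro rfl
      simp at hl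
    obtain ⟨P₀, hP₀⟩ := split_conj_diag x (Units.mk0 l hl0) hl hl2
    obtain ⟨ζ, hζ⟩ := IsCyclic.exists_generator (α := Fˣ)
    have hx' : x = P₀⁻¹ * diagHom (Units.mk0 l hl0) * P₀ := by
      have : diagHom (Units.mk0 l hl0) = P₀ * x * P₀⁻¹ := hP₀.symm
      rw [this]
      group
    refine ⟨P₀⁻¹ * diagHom ζ * P₀, ?_, ?_⟩
    · rw [Subgroup.mem_centralizer_singleton_iff]
      nth_rewrite 1 [hx']
      nth_rewrite 1 [hx']
      calc P₀⁻¹ * diagHom ζ * P₀ * (P₀⁻¹ * diagHom (Units.mk0 l hl0) * P₀)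
          = P₀⁻¹ * (diagHom ζ * diagHom (Units.mk0 l hl0)) * P₀ := by group
        _ = P₀⁻¹ * (diagHom (Units.mk0 l hl0) * diagHom ζ) * P₀ := by
          rw [← map_mul, ← map_mul, mul_comm]
        _ = P₀⁻¹ * diagHom (Units.mk0 l hl0) * P₀ * (P₀⁻¹ * diagHom ζ * P₀) := by group
    · rw [orderOf_inv_mul_mul, orderOf_injective diagHom diagHom_injective,
        orderOf_eq_card_of_forall_mem_zpowers hζ, Nat.card_units, hcard, Nat.card_eq_fintype_card]
  · obtain ⟨W, hW, hWno, _, _⟩ := exists_nonsplit_torus h2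
    obtain ⟨h, hh⟩ := nonsplit_conj_mem h2 W hWno x hno
    rw [Subgroup.mem_centralizer_singleton_iff] at hh
    refine ⟨h⁻¹ * W * h, ?_, ?_⟩
    · rw [Subgroup.mem_centralizer_singleton_iff]
      calc h⁻¹ * W * h * x = h⁻¹ * (W * (h * x * h⁻¹)) * h := by group
        _ = h⁻¹ * ((h * x * h⁻¹) * W) * h := by rw [hh]
        _ = x * (h⁻¹ * W * h) := by group
    · rw [orderOf_inv_mul_mul, hW, hcard]

/-- the centralizer of a regular element of `SL₂(q)`, `q` odd, is cyclic -/
theorem isCyclic_centralizer_of_regular (h2 : (2 : F) ≠ 0)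
    (x : Matrix.SpecialLinearGroup (Fin 2) F) (hτ : x.1.trace * x.1.trace ≠ 4) :
    IsCyclic (Subgroup.centralizer ({x} : Set (Matrix.SpecialLinearGroup (Fin 2) F))) := by
  obtain ⟨u, hu, ho⟩ := exists_mem_centralizer_orderOf h2 x hτ
  apply isCyclic_of_orderOf_eq_card (⟨u, hu⟩ :
    Subgroup.centralizer ({x} : Set (Matrix.SpecialLinearGroup (Fin 2) F)))
  rw [Subgroup.orderOf_mk, ho]

end Cfsg.Agent.Lib.Helper41
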