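import Cfsg.Agent.Lib.Helper41.SL2Quat
import Cfsg.Agent.Lib.Helper41.SL2TorusCyclic
import Cfsg.Agent.Lib.Helper5.PSL2

set_option autoImplicit false

namespace Cfsg.Agent.Lib.Helper41

open Matrix

theorem eq_one_of_pow_odd_of_pow_two {G : Type*} [Group G] (g : G) (m k : ℕ) (hm : Odd m)
    (h1 : g ^ m = 1) (h2 : g ^ (2 ^ k) = 1) : g = 1 := by
  have hcop : Nat.Coprime m (2 ^ k) := Nat.Coprime.pow_right k (Nat.coprime_two_right.mpr hm)
  have := Nat.eq_one_of_dvd_coprimes hcop (orderOf_dvd_of_pow_eq_one h1)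
    (orderOf_dvd_of_pow_eq_one h2)
  exact orderOf_eq_one_iff.mp this

variable {F : Type*} [Field F]

theorem negOne_comm (x : Matrix.SpecialLinearGroup (Fin 2) F) : negOne * x = x * negOne := by
  apply Subtype.ext
  rw [Matrix.SpecialLinearGroup.coe_mul, Matrix.SpecialLinearGroup.coe_mul, negOne_coe]
  simp

theorem negOne_mem_center : (negOne : Matrix.SpecialLinearGroup (Fin 2) F) ∈
    Subgroup.center (Matrix.SpecialLinearGroup (Fin 2) F) := by
  rw [sl2_mem_center_iff]
  right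
  rfl

theorem mem_center_cases (x : Matrix.SpecialLinearGroup (Fin 2) F)
    (hx : x ∈ Subgroup.center (Matrix.SpecialLinearGroup (Fin 2) F)) : x = 1 ∨ x = negOne := by
  rw [sl2_mem_center_iff] at hx
  rcases hx with h | h
  · left
    exact Subtype.ext h
  · right
    exact Subtype.ext h

theorem mul_self_of_mem_center (x : Matrix.SpecialLinearGroup (Fin 2) F)
    (hx : x ∈ Subgroup.center (Matrix.SpecialLinearGroup (Fin 2) F)) : x * x = 1 := by
  rcases mem_center_cases x hx with h | h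
  · rw [h, mul_one]
  · rw [h, negOne_mul_self]

section finite

variable [Fintype F]

/-- arithmetic of the order of a Sylow 2-subgroup of `SL₂(q)`, `q` odd -/
theorem sylow_two_card (hodd : Odd (Fintype.card F))
    (S : Sylow 2 (Matrix.SpecialLinearGroup (Fin 2) F)) :
    ∃ n : ℕ, Nat.card S = 2 ^ n ∧ 3 ≤ n ∧ ¬ 2 ^ n ∣ Fintype.card F - 1 ∧
      ¬ 2 ^ n ∣ Fintype.card F + 1 ∧ ¬ 2 ^ n ∣ 2 * Fintype.card F ∧
      (16 ∣ Fintype.card F ^ 2 - 1 → 4 ≤ n) ∧ (¬ 16 ∣ Fintype.card F ^ 2 - 1 → n = 3) := by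
  have hq1 : 1 < Fintype.card F := Fintype.one_lt_card
  have hq2 : Fintype.card F % 2 = 1 := Nat.odd_iff.mp hodd
  have hcardG := Cfsg.Agent.Lib.Helper5.card_SL2 (F := F)
  obtain ⟨q, hq⟩ : ∃ q : ℕ, q = Fintype.card F := ⟨_, rfl⟩
  rw [← hq] at hq1 hq2 hcardG ⊢
  have hfac : q ^ 2 - 1 = (q - 1) * (q + 1) := by
    obtain ⟨m, hm⟩ : ∃ m, q = m + 1 := ⟨q - 1, by omega⟩
    rw [hm]
    have : (m + 1) ^ 2 = m * (m + 1 + 1) + 1 := by ring
    rw [this]
    simp
  have h8 : 8 ∣ q ^ 2 - 1 := by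
    obtain ⟨m, hm⟩ : ∃ m, q = 2 * m + 1 := ⟨q / 2, by omega⟩
    rw [hfac, hm]
    have e : (2 * m + 1 - 1) * (2 * m + 1 + 1) = 4 * (m * (m + 1)) := by
      have : 2 * m + 1 - 1 = 2 * m := by omega
      rw [this]
      ring
    rw [e]
    have h2 : 2 ∣ m * (m + 1) := (Nat.even_mul_succ_self m).two_dvd
    obtain ⟨c, hc⟩ := h2
    rw [hc]
    exact ⟨c, by ring⟩
  have hGpos : q * (q ^ 2 - 1) ≠ 0 := by
    have : 0 < q ^ 2 - 1 := by
      rw [hfac]
      exact Nat.mul_pos (by omega) (by omega)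
    exact Nat.mul_ne_zero (by omega) this.ne'
  have hcard := S.card_eq_multiplicity
  rw [hcardG] at hcard
  obtain ⟨n, hn⟩ : ∃ n : ℕ, n = (q * (q ^ 2 - 1)).factorization 2 := ⟨_, rfl⟩
  rw [← hn] at hcard
  have hdvd : ∀ k : ℕ, 2 ^ k ∣ q * (q ^ 2 - 1) ↔ k ≤ n := by
    intro k
    rw [hn]
    exact Nat.Prime.pow_dvd_iff_le_factorization Nat.prime_two hGpos
  have hcop : ∀ k : ℕ, Nat.Coprime (2 ^ k) q := by
    intro k
    apply Nat.Coprime.pow_left
    rw [Nat.coprime_two_left]
    exact Nat.odd_iff.mpr hq2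
  have hdvd' : ∀ k : ℕ, 2 ^ k ∣ q ^ 2 - 1 ↔ k ≤ n := by
    intro k
    rw [← hdvd]
    constructor
    · intro h
      exact Dvd.dvd.mul_left h q
    · intro h
      exact (hcop k).dvd_of_dvd_mul_left h
  have hn3 : 3 ≤ n := (hdvd' 3).mp h8
  refine ⟨n, hcard, hn3, ?_, ?_, ?_, ?_, ?_⟩
  · intro h
    have : 2 ^ (n + 1) ∣ q ^ 2 - 1 := by
      rw [hfac, pow_succ]
      exact Nat.mul_dvd_mul h (by omega)
    have := (hdvd' (n + 1)).mp this
    omega
  · intro h
    have : 2 ^ (n + 1) ∣ q ^ 2 - 1 := by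
      rw [hfac, pow_succ, mul_comm (q - 1)]
      exact Nat.mul_dvd_mul h (by omega)
    have := (hdvd' (n + 1)).mp this
    omega
  · intro h
    have h8' : 8 ∣ 2 * q := dvd_trans (pow_dvd_pow 2 hn3) h
    omega
  · intro h
    exact (hdvd' 4).mp h
  · intro h
    have : ¬ 4 ≤ n := fun h4 => h ((hdvd' 4).mpr h4)
    omega

/-- a Sylow 2-subgroup of `SL₂(q)` does not centralize a noncentral element -/
theorem sylow_two_not_le_centralizer (hodd : Odd (Fintype.card F))
    (S : Sylow 2 (Matrix.SpecialLinearGroup (Fin 2) F))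
    (g : Matrix.SpecialLinearGroup (Fin 2) F)
    (hg : g ∉ Subgroup.center (Matrix.SpecialLinearGroup (Fin 2) F)) :
    ¬ ((S : Subgroup (Matrix.SpecialLinearGroup (Fin 2) F)) ≤
      Subgroup.centralizer ({g} : Set (Matrix.SpecialLinearGroup (Fin 2) F))) := by
  have h2 : (2 : F) ≠ 0 := Cfsg.Agent.Lib.Helper5.two_ne_zero_of_odd_card hodd
  obtain ⟨n, hn, hn3, h1, h2', h3, _, _⟩ := sylow_two_card hodd S
  intro hle
  have hdvd := Subgroup.card_dvd_of_le hle
  rw [hn] at hdvd
  rcases card_centralizer_cases h2 g hg with ⟨_, h⟩ | ⟨_, h⟩ | ⟨_, h⟩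
  · rw [h] at hdvd
    exact h3 hdvd
  · rw [h] at hdvd
    exact h1 hdvd
  · rw [h] at hdvd
    exact h2' hdvd

/-- the centralizer of a Sylow 2-subgroup of `SL₂(q)`, `q` odd, is the center -/
theorem centralizer_sylow_two (hodd : Odd (Fintype.card F))
    (S : Sylow 2 (Matrix.SpecialLinearGroup (Fin 2) F)) :
    Subgroup.centralizer ((S : Subgroup (Matrix.SpecialLinearGroup (Fin 2) F)) :
      Set (Matrix.SpecialLinearGroup (Fin 2) F)) =
      Subgroup.center (Matrix.SpecialLinearGroup (Fin 2) F) := by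
  apply le_antisymm
  · intro g hg
    by_contra hgc
    apply sylow_two_not_le_centralizer hodd S g hgc
    intro s hs
    rw [Subgroup.mem_centralizer_singleton_iff]
    rw [Subgroup.mem_centralizer_iff] at hg
    exact hg s hs
  · exact Subgroup.center_le_centralizer _

/-- structure of a Sylow 2-subgroup of `SL₂(q)`, `q` odd: a cyclic subgroup `⟨t⟩` of index two,
equal to the intersection with the torus `C(t)` -/
theorem sylow_two_structure (hodd : Odd (Fintype.card F))
    (S : Sylow 2 (Matrix.SpecialLinearGroup (Fin 2) F)) :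
    ∃ (n : ℕ) (t : Matrix.SpecialLinearGroup (Fin 2) F), Nat.card S = 2 ^ n ∧ 3 ≤ n ∧
      t ∈ (S : Subgroup (Matrix.SpecialLinearGroup (Fin 2) F)) ∧ orderOf t = 2 ^ (n - 1) ∧
      t.1.trace * t.1.trace ≠ 4 ∧
      (∀ s ∈ (S : Subgroup (Matrix.SpecialLinearGroup (Fin 2) F)),
        s ∈ Subgroup.centralizer ({t} : Set (Matrix.SpecialLinearGroup (Fin 2) F)) →
          s ∈ Subgroup.zpowers t) ∧
      ((Subgroup.zpowers t).subgroupOf
        (S : Subgroup (Matrix.SpecialLinearGroup (Fin 2) F))).index = 2 := by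
  have h2 : (2 : F) ≠ 0 := Cfsg.Agent.Lib.Helper5.two_ne_zero_of_odd_card hodd
  have hq2 : Fintype.card F % 2 = 1 := Nat.odd_iff.mp hodd
  obtain ⟨n, hn, hn3, h1, h2', h3, _, _⟩ := sylow_two_card hodd S
  obtain ⟨P, hP⟩ : ∃ P : Subgroup (Matrix.SpecialLinearGroup (Fin 2) F),
      P = (S : Subgroup (Matrix.SpecialLinearGroup (Fin 2) F)) := ⟨_, rfl⟩
  have hPp : IsPGroup 2 P := by rw [hP]; exact S.isPGroup'
  have hnP : Nat.card P = 2 ^ n := by rw [hP]; exact hn
  have hPnle : ∀ g : Matrix.SpecialLinearGroup (Fin 2) F,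
      g ∉ Subgroup.center (Matrix.SpecialLinearGroup (Fin 2) F) →
      ¬ (P ≤ Subgroup.centralizer ({g} : Set (Matrix.SpecialLinearGroup (Fin 2) F))) := by
    intro g hg
    rw [hP]
    exact sylow_two_not_le_centralizer hodd S g hg
  have hPcent : Subgroup.centralizer (P : Set (Matrix.SpecialLinearGroup (Fin 2) F)) =
      Subgroup.center (Matrix.SpecialLinearGroup (Fin 2) F) := by
    rw [hP]
    exact centralizer_sylow_two hodd S
  rw [← hP]
  -- a noncentral element of `P`
  have hex : ∃ s ∈ P, s ∉ Subgroup.center (Matrix.SpecialLinearGroup (Fin 2) F) := by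
    by_contra hno
    push Not at hno
    have hle : P ≤ Subgroup.center (Matrix.SpecialLinearGroup (Fin 2) F) := hno
    have hc := Subgroup.card_le_of_le hle
    rw [hnP, Cfsg.Agent.Lib.Helper5.card_center_SL2_of_two_ne_zero h2] at hc
    have : 2 ^ 3 ≤ 2 ^ n := Nat.pow_le_pow_right (by norm_num) hn3
    omega
  obtain ⟨s₁, hs₁P, hs₁c⟩ := hex
  have hZ : Subgroup.center ↥P ≠ ⊤ := by
    intro htop
    apply hPnle s₁ hs₁c
    intro y hy
    rw [Subgroup.mem_centralizer_singleton_iff]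
    have hmem : (⟨s₁, hs₁P⟩ : ↥P) ∈ Subgroup.center ↥P := by
      rw [htop]
      trivial
    have h' := Subgroup.mem_center_iff.mp hmem ⟨y, hy⟩
    exact congrArg Subtype.val h'
  have hQnt : Nontrivial (↥P ⧸ Subgroup.center ↥P) := by
    rw [← Finite.one_lt_card_iff_nontrivial]
    have hidx : (Subgroup.center ↥P).index ≠ 1 := fun h => hZ (Subgroup.index_eq_one.mp h)
    have hidx0 : (Subgroup.center ↥P).index ≠ 0 := Subgroup.index_ne_zero_of_finite
    have : Nat.card (↥P ⧸ Subgroup.center ↥P) = (Subgroup.center ↥P).index := rfl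
    omega
  have hQp : IsPGroup 2 (↥P ⧸ Subgroup.center ↥P) := hPp.to_quotient _
  have hcnt := hQp.center_nontrivial
  obtain ⟨w, hw⟩ := exists_ne (1 : Subgroup.center (↥P ⧸ Subgroup.center ↥P))
  obtain ⟨v', hv'⟩ := QuotientGroup.mk_surjective (w : ↥P ⧸ Subgroup.center ↥P)
  have hv'Z : v' ∉ Subgroup.center ↥P := by
    intro h
    apply hw
    apply Subtype.ext
    rw [← hv']
    exact (QuotientGroup.eq_one_iff v').mpr h
  have hcomm : ∀ s : ↥P, (s * v')⁻¹ * (v' * s) ∈ Subgroup.center ↥P := by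
    intro s
    rw [← QuotientGroup.eq]
    have := Subgroup.mem_center_iff.mp w.2 (QuotientGroup.mk s)
    rw [← hv'] at this
    exact this
  obtain ⟨v, hvdef⟩ : ∃ v : Matrix.SpecialLinearGroup (Fin 2) F,
      v = (v' : Matrix.SpecialLinearGroup (Fin 2) F) := ⟨_, rfl⟩
  have hvP : v ∈ P := by
    rw [hvdef]
    exact v'.2
  have hcases : ∀ s ∈ P, v * s = s * v ∨ v * s = s * v * negOne := by
    intro s hs
    have hz := hcomm ⟨s, hs⟩
    have hzc : (s * v)⁻¹ * (v * s) ∈
        Subgroup.centralizer (P : Set (Matrix.SpecialLinearGroup (Fin 2) F)) := by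
      rw [Subgroup.mem_centralizer_iff]
      intro y hy
      have := Subgroup.mem_center_iff.mp hz ⟨y, hy⟩
      have h' := congrArg Subtype.val this
      rw [hvdef]
      exact h'
    rw [hPcent] at hzc
    rcases mem_center_cases _ hzc with h | h
    · left
      exact (inv_mul_eq_one.mp h).symm
    · right
      rw [← h]
      group
  have hvc : v ∉ Subgroup.center (Matrix.SpecialLinearGroup (Fin 2) F) := by
    intro hc
    apply hv'Z
    rw [Subgroup.mem_center_iff]
    intro y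
    apply Subtype.ext
    have := Subgroup.mem_center_iff.mp hc y.1
    rw [Subgroup.coe_mul, Subgroup.coe_mul, ← hvdef]
    exact this
  obtain ⟨s₀, hs₀P, hs₀C⟩ : ∃ s₀ ∈ P,
      s₀ ∉ Subgroup.centralizer ({v} : Set (Matrix.SpecialLinearGroup (Fin 2) F)) := by
    by_contra hno
    push Not at hno
    exact hPnle v hvc hno
  have hidxA : ((P ⊓ Subgroup.centralizer
      ({v} : Set (Matrix.SpecialLinearGroup (Fin 2) F))).subgroupOf P).index = 2 := by
    rw [Subgroup.index_eq_two_iff]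
    refine ⟨⟨s₀, hs₀P⟩, ?_⟩
    rintro ⟨b, hb⟩
    rw [Subgroup.mem_subgroupOf, Subgroup.mem_subgroupOf]
    simp only [Subgroup.coe_mul, Subgroup.mem_inf]
    by_cases hbC : b ∈ Subgroup.centralizer ({v} : Set (Matrix.SpecialLinearGroup (Fin 2) F))
    · right
      refine ⟨⟨hb, hbC⟩, ?_⟩
      rintro ⟨_, h⟩
      apply hs₀C
      have : s₀ = b⁻¹ * (b * s₀) := by group
      rw [this]
      exact Subgroup.mul_mem _ (Subgroup.inv_mem _ hbC) h
    · left
      refine ⟨⟨P.mul_mem hb hs₀P, ?_⟩, fun h => hbC h.2⟩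
      rw [Subgroup.mem_centralizer_singleton_iff]
      have hb' : v * b = b * v * negOne := (hcases b hb).resolve_left (fun h => hbC (by
        rw [Subgroup.mem_centralizer_singleton_iff]
        exact h.symm))
      have hs' : v * s₀ = s₀ * v * negOne := (hcases s₀ hs₀P).resolve_left (fun h => hs₀C (by
        rw [Subgroup.mem_centralizer_singleton_iff]
        exact h.symm))
      symm
      calc v * (b * s₀) = (v * b) * s₀ := by group
        _ = b * v * negOne * s₀ := by rw [hb']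
        _ = b * (v * s₀) * negOne := by
          rw [mul_assoc (b * v), negOne_comm s₀]
          group
        _ = b * (s₀ * v * negOne) * negOne := by rw [hs']
        _ = b * s₀ * v * (negOne * negOne) := by group
        _ = b * s₀ * v := by rw [negOne_mul_self, mul_one]
  have hcardA : Nat.card (P ⊓ Subgroup.centralizer
      ({v} : Set (Matrix.SpecialLinearGroup (Fin 2) F)) :
        Subgroup (Matrix.SpecialLinearGroup (Fin 2) F)) = 2 ^ (n - 1) := by
    have h := Subgroup.index_mul_card ((P ⊓ Subgroup.centralizer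
      ({v} : Set (Matrix.SpecialLinearGroup (Fin 2) F))).subgroupOf P)
    rw [hidxA, Nat.card_congr (Subgroup.subgroupOfEquivOfLe inf_le_left).toEquiv, hnP] at h
    have : 2 ^ n = 2 * 2 ^ (n - 1) := by
      rw [← pow_succ']
      congr 1
      omega
    omega
  have h4A : 4 ∣ Nat.card (P ⊓ Subgroup.centralizer
      ({v} : Set (Matrix.SpecialLinearGroup (Fin 2) F)) :
        Subgroup (Matrix.SpecialLinearGroup (Fin 2) F)) := by
    rw [hcardA]
    exact pow_dvd_pow 2 (by omega : 2 ≤ n - 1)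
  have hτv : v.1.trace * v.1.trace ≠ 4 := by
    intro h
    have hc : Nat.card (Subgroup.centralizer
        ({v} : Set (Matrix.SpecialLinearGroup (Fin 2) F))) = 2 * Fintype.card F := by
      rw [card_centralizer_eq_card_conic v hvc, card_conic_unipotent h2 h]
    have hd := Subgroup.card_dvd_of_le (inf_le_right : P ⊓ Subgroup.centralizer
      ({v} : Set (Matrix.SpecialLinearGroup (Fin 2) F)) ≤ Subgroup.centralizer
      ({v} : Set (Matrix.SpecialLinearGroup (Fin 2) F)))
    rw [hc] at hd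
    have := dvd_trans h4A hd
    omega
  have hcycC := isCyclic_centralizer_of_regular h2 v hτv
  have hcycA : IsCyclic ↥(P ⊓ Subgroup.centralizer
      ({v} : Set (Matrix.SpecialLinearGroup (Fin 2) F))) :=
    isCyclic_of_injective (Subgroup.inclusion (inf_le_right : P ⊓ Subgroup.centralizer
      ({v} : Set (Matrix.SpecialLinearGroup (Fin 2) F)) ≤ Subgroup.centralizer
      ({v} : Set (Matrix.SpecialLinearGroup (Fin 2) F)))) (Subgroup.inclusion_injective _)
  obtain ⟨t', ht'⟩ := IsCyclic.exists_generator (α := ↥(P ⊓ Subgroup.centralizer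
      ({v} : Set (Matrix.SpecialLinearGroup (Fin 2) F))))
  obtain ⟨t, htdef⟩ : ∃ t : Matrix.SpecialLinearGroup (Fin 2) F,
      t = (t' : Matrix.SpecialLinearGroup (Fin 2) F) := ⟨_, rfl⟩
  have htA : t ∈ P ⊓ Subgroup.centralizer
      ({v} : Set (Matrix.SpecialLinearGroup (Fin 2) F)) := by
    rw [htdef]
    exact t'.2
  have hot : orderOf t = 2 ^ (n - 1) := by
    rw [htdef, Subgroup.orderOf_coe, orderOf_eq_card_of_forall_mem_zpowers ht', hcardA]
  have hAz : ∀ s ∈ P ⊓ Subgroup.centralizer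
      ({v} : Set (Matrix.SpecialLinearGroup (Fin 2) F)), s ∈ Subgroup.zpowers t := by
    intro s hs
    obtain ⟨k, hk⟩ := Subgroup.mem_zpowers_iff.mp (ht' ⟨s, hs⟩)
    rw [Subgroup.mem_zpowers_iff]
    refine ⟨k, ?_⟩
    have := congrArg Subtype.val hk
    rw [htdef]
    simpa using this
  have htc : t ∉ Subgroup.center (Matrix.SpecialLinearGroup (Fin 2) F) := by
    intro hc
    have htt := mul_self_of_mem_center t hc
    have hdvd : orderOf t ∣ 2 := orderOf_dvd_of_pow_eq_one (by rw [pow_two]; exact htt)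
    rw [hot] at hdvd
    have hle := Nat.le_of_dvd (by norm_num) hdvd
    have : 2 ^ 2 ≤ 2 ^ (n - 1) := Nat.pow_le_pow_right (by norm_num) (by omega)
    omega
  have hCeq : Subgroup.centralizer ({t} : Set (Matrix.SpecialLinearGroup (Fin 2) F)) =
      Subgroup.centralizer ({v} : Set (Matrix.SpecialLinearGroup (Fin 2) F)) :=
    centralizer_eq_of_mem v t hvc htc htA.2
  have hτt : t.1.trace * t.1.trace ≠ 4 := by
    intro h
    have hc : Nat.card (Subgroup.centralizer
        ({t} : Set (Matrix.SpecialLinearGroup (Fin 2) F))) = 2 * Fintype.card F := by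
      rw [card_centralizer_eq_card_conic t htc, card_conic_unipotent h2 h]
    rw [hCeq] at hc
    have hd := Subgroup.card_dvd_of_le (inf_le_right : P ⊓ Subgroup.centralizer
      ({v} : Set (Matrix.SpecialLinearGroup (Fin 2) F)) ≤ Subgroup.centralizer
      ({v} : Set (Matrix.SpecialLinearGroup (Fin 2) F)))
    rw [hc] at hd
    have := dvd_trans h4A hd
    omega
  have hzA : Subgroup.zpowers t = P ⊓ Subgroup.centralizer
      ({v} : Set (Matrix.SpecialLinearGroup (Fin 2) F)) :=
    le_antisymm (by rw [Subgroup.zpowers_le]; exact htA) hAz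
  refine ⟨n, t, hnP, hn3, htA.1, hot, hτt, ?_, ?_⟩
  · intro s hs hsC
    rw [hCeq] at hsC
    exact hAz s ⟨hs, hsC⟩
  · rw [hzA]
    exact hidxA

end finite

end Cfsg.Agent.Lib.Helper41
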