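import Mathlib

set_option autoImplicit false

namespace Cfsg.Agent.Lib.Helper41

/-- A prime dividing the lcm of a multiset of naturals divides one of its members. -/
theorem prime_dvd_multiset_lcm {p : ℕ} (hp : p.Prime) (s : Multiset ℕ) (h : p ∣ s.lcm) :
    ∃ a ∈ s, p ∣ a := by
  induction s using Multiset.induction_on with
  | empty =>
    simp at h
    exact absurd h hp.one_lt.ne'
  | cons a s ih =>
    rw [Multiset.lcm_cons, lcm_eq_nat_lcm] at h
    have h' : p ∣ a * s.lcm := h.trans (Nat.lcm_dvd_mul a s.lcm)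
    rcases (Nat.Prime.dvd_mul hp).mp h' with h1 | h1
    · exact ⟨a, Multiset.mem_cons_self a s, h1⟩
    · obtain ⟨b, hb, hpb⟩ := ih h1
      exact ⟨b, Multiset.mem_cons_of_mem hb, hpb⟩

/-- If all members are odd then sum plus cardinality is even. -/
theorem even_sum_add_card_of_odd (s : Multiset ℕ) (h : ∀ a ∈ s, Odd a) :
    Even (s.sum + Multiset.card s) := by
  induction s using Multiset.induction_on with
  | empty => simp
  | cons a s ih =>
    rw [Multiset.sum_cons, Multiset.card_cons]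
    have h1 := ih (fun b hb => h b (Multiset.mem_cons_of_mem hb))
    have h2 := h a (Multiset.mem_cons_self a s)
    obtain ⟨k, hk⟩ := h1
    obtain ⟨l, hl⟩ := h2
    exact ⟨k + l + 1, by omega⟩

/-- membership bound -/
theorem le_sum_of_mem' {s : Multiset ℕ} {a : ℕ} (h : a ∈ s) : a ≤ s.sum := by
  obtain ⟨t, rfl⟩ := Multiset.exists_cons_of_mem h
  rw [Multiset.sum_cons]
  omega

/-- The cycle type of an element of the alternating group. -/
theorem alt_cycleType_props {n : ℕ} (σ : alternatingGroup (Fin n)) :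
    (∀ a ∈ (σ : Equiv.Perm (Fin n)).cycleType, 2 ≤ a) ∧
    (σ : Equiv.Perm (Fin n)).cycleType.sum ≤ n ∧
    Even ((σ : Equiv.Perm (Fin n)).cycleType.sum +
      Multiset.card (σ : Equiv.Perm (Fin n)).cycleType) ∧
    (σ : Equiv.Perm (Fin n)).cycleType.lcm = orderOf σ := by
  refine ⟨fun a ha => Equiv.Perm.two_le_of_mem_cycleType ha, ?_, ?_, ?_⟩
  · have := Equiv.Perm.sum_cycleType_le (σ : Equiv.Perm (Fin n))
    rwa [Fintype.card_fin] at this
  · have h1 : Equiv.Perm.sign (σ : Equiv.Perm (Fin n)) = 1 :=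
      Equiv.Perm.mem_alternatingGroup.mp σ.2
    rw [Equiv.Perm.sign_of_cycleType] at h1
    by_contra hodd
    rw [Nat.not_even_iff_odd] at hodd
    rw [Odd.neg_one_pow hodd] at h1
    exact absurd h1 (by decide)
  · rw [Equiv.Perm.lcm_cycleType, Subgroup.orderOf_coe]

/-- Existence of an even permutation with a given admissible cycle type. -/
theorem exists_alt_of_cycleType {n : ℕ} (m : Multiset ℕ) (h2 : ∀ a ∈ m, 2 ≤ a)
    (hsum : m.sum ≤ n) (hev : Even (m.sum + Multiset.card m)) :
    m.lcm ∈ Set.range (orderOf : alternatingGroup (Fin n) → ℕ) := by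
  obtain ⟨g, hg⟩ := (Equiv.Perm.exists_with_cycleType_iff (α := Fin n) (m := m)).mpr
    ⟨by rwa [Fintype.card_fin], h2⟩
  have hsign : Equiv.Perm.sign g = 1 := by
    rw [Equiv.Perm.sign_of_cycleType, hg]
    exact Even.neg_one_pow hev
  refine ⟨⟨g, Equiv.Perm.mem_alternatingGroup.mpr hsign⟩, ?_⟩
  rw [← Subgroup.orderOf_coe, ← Equiv.Perm.lcm_cycleType]
  simp [hg]

end Cfsg.Agent.Lib.Helper41
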