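import Mathlib

set_option autoImplicit false

/-!
The monomial `p`-subgroup `μ_p ≀ C_p` of `GL_p(F)` and the `p`-part of the order of `GL_p(F)`
when `p` exactly divides `|F| - 1`.
-/

namespace Cfsg.Agent.Lib.Helper41.GLMon

open Matrix

section mon

variable {F : Type*} [Field F] {p : ℕ} [NeZero p]

/-- the monomial matrix with entry `d i` at position `(i, i + k)` -/
def mon (d : Fin p → F) (k : Fin p) : Matrix (Fin p) (Fin p) F :=
  Matrix.of fun i j => if j = i + k then d i else 0

theorem mon_apply (d : Fin p → F) (k i j : Fin p) :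
    mon d k i j = if j = i + k then d i else 0 := rfl

theorem mon_mul (d d' : Fin p → F) (k k' : Fin p) :
    mon d k * mon d' k' = mon (fun i => d i * d' (i + k)) (k + k') := by
  ext i j
  rw [Matrix.mul_apply, Finset.sum_eq_single (i + k)]
  · rw [mon_apply, mon_apply, mon_apply, if_pos rfl, add_assoc]
    split_ifs <;> simp
  · intro l _ hl
    rw [mon_apply, if_neg hl, zero_mul]
  · intro h
    exact absurd (Finset.mem_univ _) h

theorem mon_zero_eq (d : Fin p → F) : mon d (0 : Fin p) = Matrix.diagonal d := by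
  ext i j
  rw [mon_apply, add_zero, Matrix.diagonal_apply]
  by_cases h : i = j
  · rw [if_pos h.symm, if_pos h]
  · rw [if_neg (Ne.symm h), if_neg h]

theorem mon_one : mon (fun _ => (1 : F)) (0 : Fin p) = 1 := by
  rw [mon_zero_eq]
  exact Matrix.diagonal_one

theorem add_ne_self {i k : Fin p} (hk : k ≠ 0) : i + k ≠ i :=
  fun h => hk (add_left_cancel (a := i) (by rw [h, add_zero]))

theorem trace_mon (d : Fin p → F) {k : Fin p} (hk : k ≠ 0) : (mon d k).trace = 0 := by
  unfold Matrix.trace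
  apply Finset.sum_eq_zero
  intro i _
  rw [Matrix.diag_apply, mon_apply, if_neg]
  exact fun h => add_ne_self hk h.symm

theorem ne_zero_of_pow (x : F) (h : x ^ p = 1) : x ≠ 0 := by
  rintro rfl
  rw [zero_pow (NeZero.ne p)] at h
  exact zero_ne_one h

theorem mon_injective {d d' : Fin p → F} {k k' : Fin p} (hd : ∀ i, d i ≠ 0)
    (h : mon d k = mon d' k') : k = k' ∧ d = d' := by
  have key : ∀ i, i + k = i + k' ∧ d i = d' i := by
    intro i
    have h1 := congrFun (congrFun h i) (i + k)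
    rw [mon_apply, mon_apply, if_pos rfl] at h1
    by_cases h2 : i + k = i + k'
    · rw [if_pos h2] at h1
      exact ⟨h2, h1⟩
    · rw [if_neg h2] at h1
      exact absurd h1 (hd i)
  exact ⟨add_left_cancel (key 0).1, funext fun i => (key i).2⟩

/-- the monomial matrix as an invertible matrix -/
def monUnit (d : Fin p → F) (k : Fin p) (hd : ∀ i, d i ≠ 0) : GL (Fin p) F where
  val := mon d k
  inv := mon (fun i => (d (i - k))⁻¹) (-k)
  val_inv := by
    rw [mon_mul]
    have e : (fun i => d i * (d (i + k - k))⁻¹) = fun _ => (1 : F) := by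
      funext i
      rw [add_sub_cancel_right, mul_inv_cancel₀ (hd i)]
    rw [e, add_neg_cancel, mon_one]
  inv_val := by
    rw [mon_mul]
    have e : (fun i => (d (i - k))⁻¹ * d (i + -k)) = fun _ => (1 : F) := by
      funext i
      rw [← sub_eq_add_neg, inv_mul_cancel₀ (hd (i - k))]
    rw [e, neg_add_cancel, mon_one]

theorem monUnit_coe (d : Fin p → F) (k : Fin p) (hd : ∀ i, d i ≠ 0) :
    ((monUnit d k hd : GL (Fin p) F) : Matrix (Fin p) (Fin p) F) = mon d k := rfl

variable (F p) in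
/-- the monomial `p`-subgroup of `GL_p(F)` -/
def monSub : Subgroup (GL (Fin p) F) where
  carrier := {g | ∃ (d : Fin p → F) (k : Fin p), (∀ i, d i ^ p = 1) ∧
    (g : Matrix (Fin p) (Fin p) F) = mon d k}
  mul_mem' := by
    rintro a b ⟨d, k, hd, ha⟩ ⟨d', k', hd', hb⟩
    refine ⟨fun i => d i * d' (i + k), k + k', fun i => by rw [mul_pow, hd, hd', one_mul], ?_⟩
    rw [Units.val_mul, ha, hb, mon_mul]
  one_mem' := ⟨fun _ => 1, 0, fun _ => one_pow _, by rw [Units.val_one, mon_one]⟩
  inv_mem' := by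
    rintro a ⟨d, k, hd, ha⟩
    refine ⟨fun i => (d (i - k))⁻¹, -k, fun i => by rw [inv_pow, hd, inv_one], ?_⟩
    apply Units.inv_eq_of_mul_eq_one_right
    rw [ha, mon_mul]
    have e : (fun i => d i * (d (i + k - k))⁻¹) = fun _ => (1 : F) := by
      funext i
      rw [add_sub_cancel_right, mul_inv_cancel₀ (ne_zero_of_pow _ (hd i))]
    rw [e, add_neg_cancel, mon_one]

theorem mem_monSub (g : GL (Fin p) F) :
    g ∈ monSub F p ↔ ∃ (d : Fin p → F) (k : Fin p), (∀ i, d i ^ p = 1) ∧
      (g : Matrix (Fin p) (Fin p) F) = mon d k := Iff.rfl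

theorem monUnit_mem (d : Fin p → F) (k : Fin p) (hd : ∀ i, d i ^ p = 1) :
    monUnit d k (fun i => ne_zero_of_pow _ (hd i)) ∈ monSub F p :=
  ⟨d, k, hd, rfl⟩

theorem mon_pow (d : Fin p → F) (k : Fin p) (hd : ∀ i, d i ^ p = 1) (m : ℕ) :
    ∃ d' : Fin p → F, (∀ i, d' i ^ p = 1) ∧ (mon d k) ^ m = mon d' (m • k) := by
  induction m with
  | zero => exact ⟨fun _ => 1, fun _ => one_pow _, by rw [pow_zero, zero_smul, mon_one]⟩
  | succ m ih =>
    obtain ⟨d', hd', h⟩ := ih
    refine ⟨fun i => d' i * d (i + m • k), fun i => by rw [mul_pow, hd', hd, one_mul], ?_⟩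
    rw [pow_succ, h, mon_mul, succ_nsmul]

theorem nsmul_self_fin (k : Fin p) : p • k = 0 := by
  have h := card_nsmul_eq_zero' (G := Fin p) (x := k)
  rwa [Nat.card_eq_fintype_card, Fintype.card_fin] at h

/-- the `p`-th power of a monomial matrix is diagonal -/
theorem mon_pow_p (d : Fin p → F) (k : Fin p) (hd : ∀ i, d i ^ p = 1) :
    ∃ δ : Fin p → F, (∀ i, δ i ^ p = 1) ∧ (mon d k) ^ p = mon δ 0 := by
  obtain ⟨δ, hδ, h⟩ := mon_pow d k hd p
  exact ⟨δ, hδ, by rw [h, nsmul_self_fin]⟩

theorem isPGroup_monSub [Fact p.Prime] : IsPGroup p (monSub F p) := by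
  rintro ⟨g, d, k, hd, hg⟩
  refine ⟨2, ?_⟩
  apply Subtype.ext
  apply Units.ext
  rw [Subgroup.coe_pow, Units.val_pow_eq_pow_val, Subgroup.coe_one, Units.val_one]
  show (g : Matrix (Fin p) (Fin p) F) ^ (p ^ 2) = 1
  obtain ⟨δ, hδ, h⟩ := mon_pow_p d k hd
  rw [hg, pow_two, pow_mul, h, mon_zero_eq, Matrix.diagonal_pow]
  have e : (δ ^ p) = fun _ => (1 : F) := funext fun i => hδ i
  rw [e]
  exact Matrix.diagonal_one

end mon

section order

variable {F : Type*} [Field F] [Fintype F] {p : ℕ} [NeZero p]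

/-- the monomial subgroup has at least `p ^ (p + 1)` elements -/
theorem le_card_monSub [Fact p.Prime] (h1 : p ∣ Fintype.card F - 1) :
    p ^ (p + 1) ≤ Nat.card (monSub F p) := by
  classical
  have hcard : Nat.card Fˣ = Fintype.card F - 1 := by
    rw [Nat.card_eq_fintype_card, Fintype.card_units]
  obtain ⟨ζ, hζ⟩ := exists_prime_orderOf_dvd_card' (G := Fˣ) p (by rw [hcard]; exact h1)
  have hζp : ∀ n : ℕ, ((ζ : F) ^ n) ^ p = 1 := by
    intro n
    rw [← pow_mul, mul_comm, pow_mul, ← Units.val_pow_eq_pow_val, ← hζ, pow_orderOf_eq_one,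
      Units.val_one, one_pow]
  let f : (Fin p → Fin p) × Fin p → monSub F p := fun ek =>
    ⟨monUnit (fun i => (ζ : F) ^ (ek.1 i : ℕ)) ek.2
      (fun i => ne_zero_of_pow _ (hζp _)), monUnit_mem _ _ (fun i => hζp _)⟩
  have hf : Function.Injective f := by
    rintro ⟨e, k⟩ ⟨e', k'⟩ h
    have h1 : mon (fun i => (ζ : F) ^ (e i : ℕ)) k = mon (fun i => (ζ : F) ^ (e' i : ℕ)) k' := by
      have h2 := congrArg (fun x : monSub F p => ((x : GL (Fin p) F) : Matrix (Fin p) (Fin p) F)) h
      exact h2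
    obtain ⟨hk, hd⟩ := mon_injective (fun i => ne_zero_of_pow _ (hζp _)) h1
    have he : e = e' := by
      funext i
      have h3 := congrFun hd i
      have h4 : ζ ^ (e i : ℕ) = ζ ^ (e' i : ℕ) := by
        apply Units.ext
        rw [Units.val_pow_eq_pow_val, Units.val_pow_eq_pow_val]
        exact h3
      apply Fin.ext
      exact pow_injOn_Iio_orderOf (by rw [hζ]; exact (e i).2) (by rw [hζ]; exact (e' i).2) h4
    rw [hk, he]
  have h2 := Nat.card_le_card_of_injective f hf
  have h3 : Nat.card ((Fin p → Fin p) × Fin p) = p ^ (p + 1) := by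
    rw [Nat.card_prod, Nat.card_eq_fintype_card, Nat.card_eq_fintype_card, Fintype.card_fun,
      Fintype.card_fin, pow_succ]
  rw [h3] at h2
  exact h2

omit [NeZero p] in
/-- the `p`-part of the order of `GL_p(F)` -/
theorem not_dvd_card_GL [Fact p.Prime] (hp2 : p ≠ 2) (h1 : p ∣ Fintype.card F - 1)
    (h2 : ¬ p ^ 2 ∣ Fintype.card F - 1) : ¬ p ^ (p + 2) ∣ Nat.card (GL (Fin p) F) := by
  have hp : p.Prime := Fact.out
  obtain ⟨q, hq⟩ : ∃ q, q = Fintype.card F := ⟨_, rfl⟩
  have hq1 : 1 < q := by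
    rw [hq]
    exact Fintype.one_lt_card
  rw [← hq] at h1 h2
  have hpq : ¬ p ∣ q := by
    intro h
    have h3 : p ∣ q - (q - 1) := Nat.dvd_sub h h1
    have e : q - (q - 1) = 1 := by omega
    rw [e] at h3
    exact hp.one_lt.ne' (Nat.dvd_one.mp h3)
  have hv1 : padicValNat p (q - 1) = 1 := by
    have hne : q - 1 ≠ 0 := by omega
    have hle : 1 ≤ padicValNat p (q - 1) := one_le_padicValNat_of_dvd hne h1
    have hlt : ¬ 2 ≤ padicValNat p (q - 1) := fun h => h2 ((padicValNat_dvd_iff_le hne).mpr h)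
    omega
  have hodd : Odd p := hp.odd_of_ne_two hp2
  have hA : ∀ j : ℕ, j ≠ 0 → padicValNat p (q ^ j - 1) = 1 + padicValNat p j := by
    intro j hj
    have h3 := padicValNat.pow_sub_pow hodd hq1 h1 hpq hj
    rwa [one_pow, hv1] at h3
  have hterm : ∀ i ∈ Finset.range p, q ^ p - q ^ i ≠ 0 ∧
      padicValNat p (q ^ p - q ^ i) = 1 + padicValNat p (p - i) := by
    intro i hi
    have hi' : i < p := Finset.mem_range.mp hi
    have e : q ^ p - q ^ i = q ^ i * (q ^ (p - i) - 1) := by
      rw [Nat.mul_sub, mul_one, ← pow_add]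
      congr 2
      omega
    have hpos1 : q ^ i ≠ 0 := pow_ne_zero _ (by omega)
    have hpos2 : q ^ (p - i) - 1 ≠ 0 := by
      have h3 : 1 < q ^ (p - i) := Nat.one_lt_pow (by omega) hq1
      omega
    constructor
    · rw [e]
      exact mul_ne_zero hpos1 hpos2
    · rw [e, padicValNat.mul hpos1 hpos2, padicValNat.pow, padicValNat.eq_zero_of_not_dvd hpq,
        mul_zero, zero_add, hA _ (by omega)]
  have hne : ∏ i ∈ Finset.range p, (q ^ p - q ^ i) ≠ 0 :=
    Finset.prod_ne_zero_iff.mpr fun i hi => (hterm i hi).1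
  have hval : padicValNat p (∏ i ∈ Finset.range p, (q ^ p - q ^ i)) = p + 1 := by
    rw [← Nat.factorization_def _ hp, Nat.factorization_prod (fun i hi => (hterm i hi).1),
      Finsupp.finsetSum_apply]
    have e1 : ∀ i ∈ Finset.range p, (q ^ p - q ^ i).factorization p =
        1 + padicValNat p (p - i) := by
      intro i hi
      rw [Nat.factorization_def _ hp]
      exact (hterm i hi).2
    rw [Finset.sum_congr rfl e1, Finset.sum_add_distrib, Finset.sum_const, Finset.card_range,
      smul_eq_mul, mul_one]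
    have e2 : ∑ i ∈ Finset.range p, padicValNat p (p - i) = 1 := by
      rw [Finset.sum_eq_single 0]
      · rw [Nat.sub_zero, padicValNat_self]
      · intro i hi hi0
        have hi' : i < p := Finset.mem_range.mp hi
        apply padicValNat.eq_zero_of_not_dvd
        intro hdvd
        have h3 := Nat.le_of_dvd (by omega) hdvd
        omega
      · intro h
        exact absurd (Finset.mem_range.mpr hp.pos) h
    rw [e2]
  rw [Matrix.card_GL_field, ← hq, Fin.prod_univ_eq_prod_range (fun i => q ^ p - q ^ i) p,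
    padicValNat_dvd_iff_le hne, hval]
  omega

/-- the monomial subgroup is a Sylow `p`-subgroup -/
theorem monSub_index [Fact p.Prime] (hp2 : p ≠ 2) (h1 : p ∣ Fintype.card F - 1)
    (h2 : ¬ p ^ 2 ∣ Fintype.card F - 1) : ¬ p ∣ (monSub F p).index := by
  have hp : p.Prime := Fact.out
  intro hdvd
  apply not_dvd_card_GL hp2 h1 h2
  obtain ⟨n, hn⟩ := (IsPGroup.iff_card (p := p)).mp (isPGroup_monSub (F := F) (p := p))
  have hle := le_card_monSub (F := F) (p := p) h1
  rw [hn] at hle
  have hn1 : p + 1 ≤ n := (Nat.pow_le_pow_iff_right hp.one_lt).mp hle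
  rw [← Subgroup.card_mul_index (monSub F p), hn]
  have e : p ^ (p + 2) = p ^ (p + 1) * p := by rw [pow_succ]
  rw [e]
  exact Nat.mul_dvd_mul (pow_dvd_pow p hn1) hdvd

end order

end Cfsg.Agent.Lib.Helper41.GLMon
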