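import Mathlib
import Cfsg.Agent.Lib.Helper41.GLMon

set_option autoImplicit false

/-!
`GL_p(F)` has a redundant Sylow `p`-subgroup when `p` is odd and exactly divides `|F| - 1`.
-/

namespace Cfsg.Agent.Lib.Helper41.GLMon

open Matrix

section general

theorem other_sylow_of_conj {G : Type*} [Group G] {p : ℕ} (Q : Sylow p G) (x g : G)
    (hx : g * x * g⁻¹ ∈ Q) (hg : g ∉ Subgroup.normalizer ((Q : Subgroup G) : Set G)) :
    ∃ P : Sylow p G, P ≠ Q ∧ x ∈ P := by
  refine ⟨g⁻¹ • Q, ?_, ?_⟩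
  · intro h
    rw [Sylow.smul_eq_iff_mem_normalizer] at h
    exact hg (inv_mem_iff.mp h)
  · exact ⟨g * x * g⁻¹, hx, by show g⁻¹ * (g * x * g⁻¹) * g⁻¹⁻¹ = x; group⟩

end general

section K1

variable {F : Type*} [Field F] {p : ℕ} [NeZero p]

theorem trace_diag_update (i : Fin p) (ζ : F) :
    (mon (Function.update (fun _ => (1 : F)) i ζ) 0).trace = ((p : F) - 1) + ζ := by
  classical
  rw [mon_zero_eq, Matrix.trace_diagonal, Finset.sum_update_of_mem (Finset.mem_univ i),
    Finset.sum_const, Finset.card_univ_diff, Fintype.card_fin, Finset.card_singleton, nsmul_one,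
    Nat.cast_sub (NeZero.one_le), Nat.cast_one, add_comm]

/-- an element normalizing the monomial subgroup has at most one non-zero entry per column -/
theorem col_of_mem_normalizer (ζ : F) (hζ : ζ ^ p = 1) (hζ1 : ζ ≠ 1)
    (htr : ((p : F) - 1) + ζ ≠ 0) (g : GL (Fin p) F)
    (hg : g ∈ Subgroup.normalizer ((monSub F p : Subgroup (GL (Fin p) F)) : Set (GL (Fin p) F)))
    (i j l : Fin p) (hij : (g : Matrix (Fin p) (Fin p) F) i j ≠ 0) (hl : l ≠ i) :
    (g : Matrix (Fin p) (Fin p) F) l j = 0 := by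
  classical
  obtain ⟨u, hu⟩ : ∃ u : Fin p → F, u = Function.update (fun _ => (1 : F)) i ζ := ⟨_, rfl⟩
  have hui : u i = ζ := by rw [hu, Function.update_self]
  have hul : u l = 1 := by rw [hu, Function.update_of_ne hl]
  have hup : ∀ m, u m ^ p = 1 := by
    intro m
    by_cases hm : m = i
    · rw [hm, hui]
      exact hζ
    · rw [hu, Function.update_of_ne hm]
      exact one_pow _
  have hu0 : ∀ m, u m ≠ 0 := fun m => ne_zero_of_pow _ (hup m)
  have hmem : monUnit u 0 hu0 ∈ monSub F p := monUnit_mem u 0 hup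
  obtain ⟨c, hcdef⟩ : ∃ c : GL (Fin p) F, c = g⁻¹ * monUnit u 0 hu0 * g := ⟨_, rfl⟩
  have hcmem : c ∈ monSub F p := by
    rw [hcdef]
    exact (Subgroup.mem_normalizer_iff''.mp hg _).mp hmem
  obtain ⟨d', k', hd', hc⟩ := hcmem
  have htrace : (mon d' k').trace = ((p : F) - 1) + ζ := by
    rw [← hc, hcdef, Units.val_mul, Units.val_mul, monUnit_coe, Matrix.trace_units_conj', hu,
      trace_diag_update]
  have hk' : k' = 0 := by
    by_contra hne
    rw [trace_mon d' hne] at htrace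
    exact htr htrace.symm
  rw [hk'] at hc
  have e : monUnit u 0 hu0 * g = g * c := by
    rw [hcdef]
    group
  have e' : ((monUnit u 0 hu0 * g : GL (Fin p) F) : Matrix (Fin p) (Fin p) F) =
      ((g * c : GL (Fin p) F) : Matrix (Fin p) (Fin p) F) := congrArg _ e
  rw [Units.val_mul, Units.val_mul, hc, monUnit_coe] at e'
  have hentry : ∀ m, u m * (g : Matrix (Fin p) (Fin p) F) m j =
      (g : Matrix (Fin p) (Fin p) F) m j * d' j := by
    intro m
    have h := congrFun (congrFun e' m) j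
    rwa [mon_zero_eq, mon_zero_eq, Matrix.diagonal_mul, Matrix.mul_diagonal] at h
  have h1 := hentry i
  rw [hui] at h1
  have hd'j : d' j = ζ := by
    have h3 : (g : Matrix (Fin p) (Fin p) F) i j * (d' j - ζ) = 0 := by
      rw [mul_sub, ← h1]
      ring
    rcases mul_eq_zero.mp h3 with h | h
    · exact absurd h hij
    · exact sub_eq_zero.mp h
  have h2 := hentry l
  rw [hul, one_mul, hd'j] at h2
  have h3 : (g : Matrix (Fin p) (Fin p) F) l j * (1 - ζ) = 0 := by
    rw [mul_sub, mul_one, ← h2, sub_self]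
  rcases mul_eq_zero.mp h3 with h | h
  · exact h
  · exact absurd (sub_eq_zero.mp h).symm hζ1

end K1

section witness

variable {F : Type*} [Field F] {p : ℕ} [NeZero p]

/-- a conjugator moving `x` into the monomial subgroup while not normalizing it -/
def Witness (x : GL (Fin p) F) : Prop :=
  ∃ g : GL (Fin p) F, g * x * g⁻¹ ∈ monSub F p ∧
    ∃ i j l : Fin p, l ≠ i ∧ (g : Matrix (Fin p) (Fin p) F) i j ≠ 0 ∧
      (g : Matrix (Fin p) (Fin p) F) l j ≠ 0

theorem witness_diag_repeat (x : GL (Fin p) F) (hx : x ∈ monSub F p) (d : Fin p → F)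
    (hxd : (x : Matrix (Fin p) (Fin p) F) = mon d 0) (i j : Fin p) (hij : i ≠ j)
    (hd : d i = d j) : Witness x := by
  classical
  let g : GL (Fin p) F := ⟨Matrix.transvection i j 1, Matrix.transvection i j (-1),
    by rw [Matrix.transvection_mul_transvection_same i j hij, add_neg_cancel,
      Matrix.transvection_zero],
    by rw [Matrix.transvection_mul_transvection_same i j hij, neg_add_cancel,
      Matrix.transvection_zero]⟩
  have hgv : (g : Matrix (Fin p) (Fin p) F) = Matrix.transvection i j 1 := rfl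
  have hcomm : g * x = x * g := by
    apply Units.ext
    rw [Units.val_mul, Units.val_mul, hxd, mon_zero_eq, hgv]
    ext a b
    rw [Matrix.mul_diagonal, Matrix.diagonal_mul]
    unfold Matrix.transvection
    rw [Matrix.add_apply, Matrix.one_apply, Matrix.single_apply]
    by_cases hab : a = b
    · rw [hab]
      ring
    · rw [if_neg hab, zero_add]
      by_cases h : i = a ∧ j = b
      · rw [if_pos h, ← h.1, ← h.2, hd]
        ring
      · rw [if_neg h]
        ring
  refine ⟨g, ?_, i, j, j, hij.symm, ?_, ?_⟩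
  · have e : g * x * g⁻¹ = x := by rw [hcomm, mul_inv_cancel_right]
    rw [e]
    exact hx
  · have e1 : Matrix.transvection i j (1 : F) i j = 1 := by
      simp [Matrix.transvection, Matrix.one_apply_ne hij]
    rw [hgv, e1]
    exact one_ne_zero
  · have e2 : Matrix.transvection i j (1 : F) j j = 1 := by
      simp [Matrix.transvection, Matrix.single_apply, hij]
    rw [hgv, e2]
    exact one_ne_zero

theorem witness_diag_inj (x : GL (Fin p) F) (d : Fin p → F) (hd : ∀ i, d i ^ p = 1)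
    (hxd : (x : Matrix (Fin p) (Fin p) F) = mon d 0) (hinj : Function.Injective d)
    (hp1 : 1 < p) : Witness x := by
  classical
  obtain ⟨V, hV⟩ : ∃ V : Matrix (Fin p) (Fin p) F, V = (Matrix.vandermonde d)ᵀ := ⟨_, rfl⟩
  have hdet : V.det ≠ 0 := by
    rw [hV, Matrix.det_transpose]
    exact Matrix.det_vandermonde_ne_zero_iff.mpr hinj
  obtain ⟨g, hg⟩ : ∃ g : GL (Fin p) F, (g : Matrix (Fin p) (Fin p) F) = V :=
    ⟨Matrix.GeneralLinearGroup.mkOfDetNeZero V hdet, rfl⟩
  have hVapp : ∀ m i, V m i = d i ^ (m : ℕ) := by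
    intro m i
    rw [hV, Matrix.transpose_apply, Matrix.vandermonde_apply]
  have hs : ∀ i : Fin p, (fun _ : Fin p => (1 : F)) i ^ p = 1 := fun _ => one_pow _
  have hs0 : ∀ i : Fin p, (fun _ : Fin p => (1 : F)) i ≠ 0 := fun _ => one_ne_zero
  have hcomm : g * x = monUnit (fun _ => 1) 1 hs0 * g := by
    apply Units.ext
    rw [Units.val_mul, Units.val_mul, hxd, hg, monUnit_coe, mon_zero_eq]
    ext m i
    rw [Matrix.mul_diagonal, Matrix.mul_apply, Finset.sum_eq_single (m + 1)]
    · rw [mon_apply, if_pos rfl, one_mul, hVapp, hVapp, ← pow_succ,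
        pow_eq_pow_mod ((m : ℕ) + 1) (hd i), Fin.val_add, Fin.val_one', Nat.add_mod_mod]
    · intro l _ hl
      rw [mon_apply, if_neg hl, zero_mul]
    · intro h
      exact absurd (Finset.mem_univ _) h
  refine ⟨g, ?_, 0, 0, 1, ?_, ?_, ?_⟩
  · have e : g * x * g⁻¹ = monUnit (fun _ => 1) 1 hs0 := by rw [hcomm, mul_inv_cancel_right]
    rw [e]
    exact ⟨fun _ => 1, 1, hs, rfl⟩
  · intro h
    have h' := congrArg Fin.val h
    rw [Fin.val_one', Nat.mod_eq_of_lt hp1] at h'
    simp at h'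
  · rw [hg, hVapp]
    exact pow_ne_zero _ (ne_zero_of_pow _ (hd 0))
  · rw [hg, hVapp]
    exact pow_ne_zero _ (ne_zero_of_pow _ (hd 0))

variable [Fact p.Prime]

theorem addOrderOf_fin {k : Fin p} (hk : k ≠ 0) : addOrderOf k = p := by
  have hp : p.Prime := Fact.out
  have h1 : addOrderOf k ∣ p := by
    have h := addOrderOf_dvd_natCard k
    rwa [Nat.card_eq_fintype_card, Fintype.card_fin] at h
  rcases (Nat.dvd_prime hp).mp h1 with h | h
  · exact absurd (AddMonoid.addOrderOf_eq_one_iff.mp h) hk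
  · exact h

theorem nsmul_inj_fin {k : Fin p} (hk : k ≠ 0) {m m' : ℕ} (hm : m < p) (hm' : m' < p)
    (h : m • k = m' • k) : m = m' :=
  nsmul_injOn_Iio_addOrderOf (by rw [addOrderOf_fin hk]; exact hm)
    (by rw [addOrderOf_fin hk]; exact hm') h

theorem exists_nsmul_fin {k : Fin p} (hk : k ≠ 0) (a b : Fin p) :
    ∃ m : ℕ, m < p ∧ b = a + m • k := by
  have hinj : Function.Injective (fun m : Fin p => (m : ℕ) • k) := by
    intro m m' h
    exact Fin.ext (nsmul_inj_fin hk m.2 m'.2 h)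
  obtain ⟨m, hm⟩ := (Finite.injective_iff_surjective.mp hinj) (b - a)
  have hm' : (m : ℕ) • k = b - a := hm
  exact ⟨m, m.2, by rw [hm']; abel⟩

/-- the `p`-th power of a monomial matrix with non-trivial shift is a scalar -/
theorem pow_p_scalar (d : Fin p → F) {k : Fin p} (hk : k ≠ 0) (hd : ∀ i, d i ^ p = 1) :
    ∃ lam : F, lam ^ p = 1 ∧ (mon d k) ^ p = lam • (1 : Matrix (Fin p) (Fin p) F) := by
  obtain ⟨δ, hδ, h⟩ := mon_pow_p d k hd
  have hc : mon d k * mon δ 0 = mon δ 0 * mon d k := by rw [← h, ← pow_succ', ← pow_succ]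
  rw [mon_mul, mon_mul] at hc
  have hne : ∀ i, d i * δ (i + k) ≠ 0 :=
    fun i => mul_ne_zero (ne_zero_of_pow _ (hd i)) (ne_zero_of_pow _ (hδ _))
  obtain ⟨-, hfun⟩ := mon_injective hne hc
  have hstep : ∀ i, δ (i + k) = δ i := by
    intro i
    have h1 := congrFun hfun i
    simp only [add_zero] at h1
    exact mul_left_cancel₀ (ne_zero_of_pow _ (hd i)) (by rw [h1, mul_comm])
  have hiter : ∀ (m : ℕ) (i : Fin p), δ (i + m • k) = δ i := by
    intro m
    induction m with
    | zero =>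
      intro i
      rw [zero_smul, add_zero]
    | succ m ih =>
      intro i
      rw [succ_nsmul, ← add_assoc, hstep, ih]
  have hconst : ∀ j, δ j = δ 0 := by
    intro j
    obtain ⟨m, -, hm⟩ := exists_nsmul_fin hk 0 j
    rw [hm, hiter]
  refine ⟨δ 0, hδ 0, ?_⟩
  rw [h, mon_zero_eq]
  ext a b
  rw [Matrix.diagonal_apply, Matrix.smul_apply, Matrix.one_apply]
  by_cases hab : a = b
  · rw [if_pos hab, if_pos hab, hconst a, smul_eq_mul, mul_one]
  · rw [if_neg hab, if_neg hab, smul_zero]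

omit [Fact p.Prime] in
theorem witness_shift_ne (x : GL (Fin p) F) (hx : x ∈ monSub F p) (d : Fin p → F) (k : Fin p)
    (hk : k ≠ 0) (hd : ∀ i, d i ^ p = 1) (hxd : (x : Matrix (Fin p) (Fin p) F) = mon d k)
    (lam : F) (hlam : lam ≠ 1)
    (hpow : (mon d k) ^ p = lam • (1 : Matrix (Fin p) (Fin p) F)) : Witness x := by
  classical
  obtain ⟨X, hX⟩ : ∃ X : Matrix (Fin p) (Fin p) F, X = mon d k := ⟨_, rfl⟩
  rw [← hX] at hpow hxd
  obtain ⟨N, hN⟩ : ∃ N : Matrix (Fin p) (Fin p) F, N = ∑ m ∈ Finset.range p, X ^ m := ⟨_, rfl⟩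
  have h1 : (X - 1) * N = (lam - 1) • (1 : Matrix (Fin p) (Fin p) F) := by
    rw [hN, mul_geom_sum, hpow, sub_smul, one_smul]
  have h2 : N * (X - 1) = (lam - 1) • (1 : Matrix (Fin p) (Fin p) F) := by
    rw [hN, geom_sum_mul, hpow, sub_smul, one_smul]
  have hne : lam - 1 ≠ 0 := sub_ne_zero.mpr hlam
  let g : GL (Fin p) F := ⟨X - 1, (lam - 1)⁻¹ • N,
    by rw [Matrix.mul_smul, h1, smul_smul, inv_mul_cancel₀ hne, one_smul],
    by rw [Matrix.smul_mul, h2, smul_smul, inv_mul_cancel₀ hne, one_smul]⟩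
  have hgv : (g : Matrix (Fin p) (Fin p) F) = X - 1 := rfl
  have hcomm : g * x = x * g := by
    apply Units.ext
    rw [Units.val_mul, Units.val_mul, hxd, hgv, sub_mul, mul_sub, one_mul, mul_one]
  refine ⟨g, ?_, -k, 0, 0, ?_, ?_, ?_⟩
  · have e : g * x * g⁻¹ = x := by rw [hcomm, mul_inv_cancel_right]
    rw [e]
    exact hx
  · exact fun h => hk (neg_eq_zero.mp h.symm)
  · rw [hgv, Matrix.sub_apply, hX, mon_apply, neg_add_cancel, if_pos rfl,
      Matrix.one_apply_ne (neg_ne_zero.mpr hk), sub_zero]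
    exact ne_zero_of_pow _ (hd _)
  · rw [hgv, Matrix.sub_apply, hX, mon_apply, zero_add, if_neg (Ne.symm hk),
      Matrix.one_apply_eq, zero_sub]
    exact neg_ne_zero.mpr one_ne_zero

theorem witness_shift_one (x : GL (Fin p) F) (hx : x ∈ monSub F p) (d : Fin p → F) (k : Fin p)
    (hk : k ≠ 0) (hd : ∀ i, d i ^ p = 1) (hxd : (x : Matrix (Fin p) (Fin p) F) = mon d k)
    (hpow : (mon d k) ^ p = 1) (c : F) (hc0 : c ≠ 0) (hc1 : 1 + c * (p : F) ≠ 0)
    (hp3 : 3 ≤ p) : Witness x := by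
  classical
  choose D hD hDpow using fun m => mon_pow d k hd m
  obtain ⟨X, hX⟩ : ∃ X : Matrix (Fin p) (Fin p) F, X = mon d k := ⟨_, rfl⟩
  rw [← hX] at hpow hxd
  obtain ⟨N, hN⟩ : ∃ N : Matrix (Fin p) (Fin p) F, N = ∑ m ∈ Finset.range p, X ^ m := ⟨_, rfl⟩
  have hXN : X * N = N := by
    have h1 : (X - 1) * N = 0 := by rw [hN, mul_geom_sum, hpow, sub_self]
    rw [sub_mul, one_mul] at h1
    exact sub_eq_zero.mp h1
  have hNX : N * X = N := by
    have h1 : N * (X - 1) = 0 := by rw [hN, geom_sum_mul, hpow, sub_self]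
    rw [mul_sub, mul_one] at h1
    exact sub_eq_zero.mp h1
  have hpowN : ∀ m : ℕ, X ^ m * N = N := by
    intro m
    induction m with
    | zero => rw [pow_zero, one_mul]
    | succ m ih => rw [pow_succ, mul_assoc, hXN, ih]
  have hNN : N * N = (p : F) • N := by
    have h1 : N * N = (∑ m ∈ Finset.range p, X ^ m) * N := by rw [← hN]
    rw [h1, Finset.sum_mul, Finset.sum_congr rfl (fun m _ => hpowN m), Finset.sum_const,
      Finset.card_range, Nat.cast_smul_eq_nsmul]
  have hmul : ∀ a b : F, (1 + a • N) * (1 + b • N) = 1 + (a + b + a * b * (p : F)) • N := by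
    intro a b
    simp only [add_mul, mul_add, one_mul, mul_one, Matrix.smul_mul, Matrix.mul_smul, smul_smul, hNN]
    module
  obtain ⟨e, he⟩ : ∃ e : F, e = -c / (1 + c * (p : F)) := ⟨_, rfl⟩
  have he1 : c + e + c * e * (p : F) = 0 := by
    rw [he]
    field_simp
    ring
  have he2 : e + c + e * c * (p : F) = 0 := by
    rw [← he1]
    ring
  let g : GL (Fin p) F := ⟨1 + c • N, 1 + e • N,
    by rw [hmul, he1, zero_smul, add_zero], by rw [hmul, he2, zero_smul, add_zero]⟩
  have hgv : (g : Matrix (Fin p) (Fin p) F) = 1 + c • N := rfl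
  have hcomm : g * x = x * g := by
    apply Units.ext
    rw [Units.val_mul, Units.val_mul, hxd, hgv, add_mul, mul_add, one_mul, mul_one,
      Matrix.smul_mul, Matrix.mul_smul, hNX, hXN]
  have hNentry : ∀ a b : Fin p, N a b ≠ 0 := by
    intro a b
    obtain ⟨m₀, hm₀, hb⟩ := exists_nsmul_fin hk a b
    have h1 : N a b = D m₀ a := by
      rw [hN, Matrix.sum_apply, Finset.sum_eq_single m₀]
      · rw [hX, hDpow, mon_apply, if_pos hb]
      · intro m hm hne
        rw [hX, hDpow, mon_apply, if_neg]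
        intro hb'
        rw [hb] at hb'
        exact hne (nsmul_inj_fin hk (Finset.mem_range.mp hm) hm₀ (add_left_cancel hb'.symm))
      · intro h
        exact absurd (Finset.mem_range.mpr hm₀) h
    rw [h1]
    exact ne_zero_of_pow _ (hD m₀ a)
  have h10 : (⟨1, by omega⟩ : Fin p) ≠ ⟨0, by omega⟩ := by
    intro h
    have h' := congrArg Fin.val h
    simp at h'
  have h20 : (⟨2, by omega⟩ : Fin p) ≠ ⟨0, by omega⟩ := by
    intro h
    have h' := congrArg Fin.val h
    simp at h'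
  have h21 : (⟨2, by omega⟩ : Fin p) ≠ ⟨1, by omega⟩ := by
    intro h
    have h' := congrArg Fin.val h
    simp at h'
  refine ⟨g, ?_, ⟨1, by omega⟩, ⟨0, by omega⟩, ⟨2, by omega⟩, h21, ?_, ?_⟩
  · have e' : g * x * g⁻¹ = x := by rw [hcomm, mul_inv_cancel_right]
    rw [e']
    exact hx
  · rw [hgv, Matrix.add_apply, Matrix.one_apply_ne h10, zero_add, Matrix.smul_apply, smul_eq_mul]
    exact mul_ne_zero hc0 (hNentry _ _)
  · rw [hgv, Matrix.add_apply, Matrix.one_apply_ne h20, zero_add, Matrix.smul_apply, smul_eq_mul]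
    exact mul_ne_zero hc0 (hNentry _ _)

end witness

section main

/-- **`GL_p(F)` has a redundant Sylow `p`-subgroup** when `p` is an odd prime with `p ∥ |F| - 1` -/
theorem redundant {F : Type*} [Field F] [Fintype F] (p : ℕ) [Fact p.Prime] [NeZero p]
    (hp2 : p ≠ 2) (h1 : p ∣ Fintype.card F - 1) (h2 : ¬ p ^ 2 ∣ Fintype.card F - 1) :
    ∃ Q : Sylow p (GL (Fin p) F), ∀ x : GL (Fin p) F,
      (∃ k : ℕ, orderOf x = p ^ k) → ∃ P : Sylow p (GL (Fin p) F), P ≠ Q ∧ x ∈ P := by
  classical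
  have hp : p.Prime := Fact.out
  have hp3 : 3 ≤ p := by
    have h := hp.two_le
    omega
  have hcard : Nat.card Fˣ = Fintype.card F - 1 := by
    rw [Nat.card_eq_fintype_card, Fintype.card_units]
  obtain ⟨ω', hω'⟩ := exists_prime_orderOf_dvd_card' (G := Fˣ) p (by rw [hcard]; exact h1)
  obtain ⟨ω, hω⟩ : ∃ ω : F, ω = (ω' : F) := ⟨_, rfl⟩
  have hωp : ω ^ p = 1 := by
    rw [hω, ← Units.val_pow_eq_pow_val, ← hω', pow_orderOf_eq_one, Units.val_one]
  have hω1 : ω ≠ 1 := by
    intro h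
    have h3 : ω' = 1 := Units.ext (by rw [← hω, h, Units.val_one])
    rw [h3, orderOf_one] at hω'
    exact hp.one_lt.ne hω'
  have hω0 : ω ≠ 0 := ne_zero_of_pow ω hωp
  obtain ⟨ζ, hζp, hζ1, htr⟩ : ∃ ζ : F, ζ ^ p = 1 ∧ ζ ≠ 1 ∧ ((p : F) - 1) + ζ ≠ 0 := by
    by_cases h : ((p : F) - 1) + ω = 0
    · refine ⟨ω ^ 2, by rw [← pow_mul, mul_comm, pow_mul, hωp, one_pow], ?_, ?_⟩
      · intro h2'
        obtain ⟨t, ht⟩ := hp.odd_of_ne_two hp2
        have h3 : ω ^ p = ω := by rw [ht, pow_succ, pow_mul, h2', one_pow, one_mul]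
        exact hω1 (by rw [← h3, hωp])
      · intro h3
        have h4 : ω * (ω - 1) = 0 := by linear_combination h3 - h
        rcases mul_eq_zero.mp h4 with h5 | h5
        · exact hω0 h5
        · exact hω1 (sub_eq_zero.mp h5)
    · exact ⟨ω, hωp, hω1, h⟩
  obtain ⟨c, hc0, hc1⟩ : ∃ c : F, c ≠ 0 ∧ 1 + c * (p : F) ≠ 0 := by
    by_cases h : 1 + 1 * (p : F) = 0
    · refine ⟨ω, hω0, ?_⟩
      intro h3
      have h4 : (ω - 1) * (p : F) = 0 := by linear_combination h3 - h
      rcases mul_eq_zero.mp h4 with h5 | h5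
      · exact hω1 (sub_eq_zero.mp h5)
      · rw [h5, mul_zero, add_zero] at h
        exact one_ne_zero h
    · exact ⟨1, one_ne_zero, h⟩
  obtain ⟨Q, hQ⟩ : ∃ Q : Sylow p (GL (Fin p) F), (Q : Subgroup (GL (Fin p) F)) = monSub F p :=
    ⟨(isPGroup_monSub (F := F) (p := p)).toSylow (monSub_index hp2 h1 h2),
      IsPGroup.toSylow_coe _ _⟩
  refine ⟨Q, ?_⟩
  rintro x ⟨n, hn⟩
  by_cases hxQ : x ∈ Q
  · have hx : x ∈ monSub F p := by
      rw [← hQ]
      exact hxQ
    have hx' := hx
    have hw : Witness x := by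
      obtain ⟨d, k, hd, hxd⟩ := hx
      by_cases hk : k = 0
      · subst hk
        by_cases hinj : Function.Injective d
        · exact witness_diag_inj x d hd hxd hinj hp.one_lt
        · rw [Function.Injective] at hinj
          push Not at hinj
          obtain ⟨i, j, hdij, hij⟩ := hinj
          exact witness_diag_repeat x hx' d hxd i j hij hdij
      · obtain ⟨lam, hlam, hpow⟩ := pow_p_scalar d hk hd
        by_cases hl : lam = 1
        · rw [hl, one_smul] at hpow
          exact witness_shift_one x hx' d k hk hd hxd hpow c hc0 hc1 hp3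
        · exact witness_shift_ne x hx' d k hk hd hxd lam hl hpow
    obtain ⟨g, hgx, i, j, l, hli, hgij, hglj⟩ := hw
    have hgx' : g * x * g⁻¹ ∈ Q := by
      show g * x * g⁻¹ ∈ (Q : Subgroup (GL (Fin p) F))
      rw [hQ]
      exact hgx
    apply other_sylow_of_conj Q x g hgx'
    intro hgN
    rw [hQ] at hgN
    exact hglj (col_of_mem_normalizer ζ hζp hζ1 htr g hgN i j l hgij hli)
  · have hxp : IsPGroup p (Subgroup.zpowers x) := by
      apply IsPGroup.of_card (n := n)
      rw [Nat.card_zpowers, hn]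
    obtain ⟨P, hP⟩ := hxp.exists_le_sylow
    refine ⟨P, ?_, hP (Subgroup.mem_zpowers x)⟩
    intro h
    apply hxQ
    rw [← h]
    exact hP (Subgroup.mem_zpowers x)

end main

end Cfsg.Agent.Lib.Helper41.GLMon
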