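import Mathlib
import Cfsg.Agent.Lib.Helper41.SL2Quart
import Cfsg.Agent.Lib.Helper43.AutPSL2.Basic

set_option autoImplicit false

/-!
Automorphisms of `PSL₂(F)` induced by conjugation with invertible matrices, and trace rigidity of
pairs `(A, B)` in `SL₂(F)` with `tr A = 0`.
-/

namespace Cfsg.Agent.Lib.Helper41

open Matrix

variable {F : Type*} [Field F]

/-- conjugation by an invertible `2 × 2` matrix as an automorphism of `SL₂(F)` -/
noncomputable def conjSL (c : Matrix (Fin 2) (Fin 2) F) (hc : c.det ≠ 0) :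
    MulAut (Matrix.SpecialLinearGroup (Fin 2) F) where
  toFun X := ⟨c * X.1 * c⁻¹, by
    rw [Matrix.det_mul, Matrix.det_mul, X.2, mul_one, ← Matrix.det_mul,
      Matrix.mul_nonsing_inv _ (isUnit_iff_ne_zero.mpr hc), Matrix.det_one]⟩
  invFun X := ⟨c⁻¹ * X.1 * c, by
    rw [Matrix.det_mul, Matrix.det_mul, X.2, mul_one, ← Matrix.det_mul,
      Matrix.nonsing_inv_mul _ (isUnit_iff_ne_zero.mpr hc), Matrix.det_one]⟩
  left_inv X := by
    have h2 : c⁻¹ * c = 1 := Matrix.nonsing_inv_mul _ (isUnit_iff_ne_zero.mpr hc)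
    apply Subtype.ext
    show c⁻¹ * (c * X.1 * c⁻¹) * c = X.1
    calc c⁻¹ * (c * X.1 * c⁻¹) * c = (c⁻¹ * c) * X.1 * (c⁻¹ * c) := by
          simp only [Matrix.mul_assoc]
      _ = X.1 := by rw [h2, Matrix.one_mul, Matrix.mul_one]
  right_inv X := by
    have h1 : c * c⁻¹ = 1 := Matrix.mul_nonsing_inv _ (isUnit_iff_ne_zero.mpr hc)
    apply Subtype.ext
    show c * (c⁻¹ * X.1 * c) * c⁻¹ = X.1
    calc c * (c⁻¹ * X.1 * c) * c⁻¹ = (c * c⁻¹) * X.1 * (c * c⁻¹) := by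
          simp only [Matrix.mul_assoc]
      _ = X.1 := by rw [h1, Matrix.one_mul, Matrix.mul_one]
  map_mul' X Y := by
    have h2 : c⁻¹ * c = 1 := Matrix.nonsing_inv_mul _ (isUnit_iff_ne_zero.mpr hc)
    apply Subtype.ext
    show c * (X.1 * Y.1) * c⁻¹ = (c * X.1 * c⁻¹) * (c * Y.1 * c⁻¹)
    calc c * (X.1 * Y.1) * c⁻¹ = c * X.1 * 1 * Y.1 * c⁻¹ := by
          simp only [Matrix.mul_assoc, Matrix.one_mul]
      _ = (c * X.1 * c⁻¹) * (c * Y.1 * c⁻¹) := by
          rw [← h2]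
          simp only [Matrix.mul_assoc]

/-- the automorphism of `PSL₂(F)` induced by conjugation with an invertible matrix -/
noncomputable def glAut (c : Matrix (Fin 2) (Fin 2) F) (hc : c.det ≠ 0) :
    MulAut (Matrix.ProjectiveSpecialLinearGroup (Fin 2) F) :=
  Cfsg.Agent.Lib.Helper43.AutPSL2.pslAut (conjSL c hc)

theorem glAut_mk (c : Matrix (Fin 2) (Fin 2) F) (hc : c.det ≠ 0)
    (X Y : Matrix.SpecialLinearGroup (Fin 2) F) (h : c * X.1 = Y.1 * c) :
    glAut c hc (QuotientGroup.mk X) = QuotientGroup.mk Y := by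
  have e : conjSL c hc X = Y := by
    apply Subtype.ext
    show c * X.1 * c⁻¹ = Y.1
    rw [h, Matrix.mul_assoc, Matrix.mul_nonsing_inv _ (isUnit_iff_ne_zero.mpr hc), Matrix.mul_one]
  show Cfsg.Agent.Lib.Helper43.AutPSL2.pslAut (conjSL c hc)
    (Cfsg.Agent.Lib.Helper43.AutPSL2.pm X) = _
  rw [Cfsg.Agent.Lib.Helper43.AutPSL2.pslAut_pm, e]
  rfl

/-- the standard element of trace zero -/
def stdJ : Matrix.SpecialLinearGroup (Fin 2) F := ⟨!![0, -1; 1, 0], by simp [Matrix.det_fin_two]⟩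

theorem stdJ_coe : (stdJ : Matrix.SpecialLinearGroup (Fin 2) F).1 = !![0, -1; 1, 0] := rfl

theorem stdJ_trace : (stdJ : Matrix.SpecialLinearGroup (Fin 2) F).1.trace = 0 := by
  simp [stdJ_coe, Matrix.trace_fin_two]

/-- rigidity with respect to the standard element of trace zero -/
theorem rigid_std (h2 : (2 : F) ≠ 0) (x y z w X Y Z W : F)
    (hdet : x * w - y * z = 1) (hdet' : X * W - Y * Z = 1)
    (ht : X + W = x + w) (hu : Y - Z = y - z)
    (hne : (x + w) ^ 2 + (y - z) ^ 2 ≠ 4) :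
    ∃ γ δ : F, γ * γ + δ * δ ≠ 0 ∧
      !![γ, -δ; δ, γ] * !![x, y; z, w] = !![X, Y; Z, W] * !![γ, -δ; δ, γ] := by
  by_cases h1 : ((x - w) + (X - W)) * ((x - w) + (X - W)) +
      ((Y + Z) - (y + z)) * ((Y + Z) - (y + z)) = 0
  · refine ⟨-((y + z) + (Y + Z)), (X - W) - (x - w), ?_, ?_⟩
    · intro h3
      apply hne
      have h4 : (4 : F) * ((x + w) ^ 2 + (y - z) ^ 2 - 4) = 0 := by grind
      have h5 : (4 : F) ≠ 0 := by
        have : (4 : F) = 2 * 2 := by norm_num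
        rw [this]
        exact mul_ne_zero h2 h2
      have h6 := (mul_eq_zero.mp h4).resolve_left h5
      linear_combination h6
    · ext i j
      fin_cases i <;> fin_cases j <;>
        simp [Matrix.mul_apply, Fin.sum_univ_two] <;> grind
  · refine ⟨(x - w) + (X - W), (Y + Z) - (y + z), h1, ?_⟩
    ext i j
    fin_cases i <;> fin_cases j <;>
      simp [Matrix.mul_apply, Fin.sum_univ_two] <;> grind

/-- **trace rigidity**: two pairs `(A, B)`, `(A', B')` in `SL₂(F)` with `tr A = tr A' = 0`, the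
same `tr B` and the same `tr AB` are conjugate under an invertible matrix, provided that
`(tr B)² + (tr AB)² ≠ 4`. -/
theorem rigid [Fintype F] (h2 : (2 : F) ≠ 0) (A B A' B' : Matrix.SpecialLinearGroup (Fin 2) F)
    (hA : A.1.trace = 0) (hA' : A'.1.trace = 0) (hB : B'.1.trace = B.1.trace)
    (hAB : (A' * B').1.trace = (A * B).1.trace)
    (hne : B.1.trace ^ 2 + (A * B).1.trace ^ 2 ≠ 4) :
    ∃ c : Matrix (Fin 2) (Fin 2) F, c.det ≠ 0 ∧ c * A.1 = A'.1 * c ∧ c * B.1 = B'.1 * c := by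
  obtain ⟨P, hP⟩ := conj_of_trace_zero h2 A stdJ hA stdJ_trace
  obtain ⟨P', hP'⟩ := conj_of_trace_zero h2 A' stdJ hA' stdJ_trace
  obtain ⟨B₁, hB₁⟩ : ∃ B₁ : Matrix.SpecialLinearGroup (Fin 2) F, B₁ = P * B * P⁻¹ := ⟨_, rfl⟩
  obtain ⟨B₁', hB₁'⟩ : ∃ B₁' : Matrix.SpecialLinearGroup (Fin 2) F, B₁' = P' * B' * P'⁻¹ :=
    ⟨_, rfl⟩
  have ht1 : B₁.1.trace = B.1.trace := by rw [hB₁, trace_conj]
  have ht1' : B₁'.1.trace = B'.1.trace := by rw [hB₁', trace_conj]
  have hu1 : (stdJ * B₁).1.trace = (A * B).1.trace := by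
    have e : stdJ * B₁ = P * (A * B) * P⁻¹ := by
      rw [hB₁, ← hP]
      group
    rw [e, trace_conj]
  have hu1' : (stdJ * B₁').1.trace = (A' * B').1.trace := by
    have e : stdJ * B₁' = P' * (A' * B') * P'⁻¹ := by
      rw [hB₁', ← hP']
      group
    rw [e, trace_conj]
  have hJB : ∀ Y : Matrix.SpecialLinearGroup (Fin 2) F,
      (stdJ * Y).1.trace = Y.1 0 1 - Y.1 1 0 := by
    intro Y
    rw [Matrix.SpecialLinearGroup.coe_mul, stdJ_coe, Matrix.trace_fin_two, Matrix.mul_apply,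
      Matrix.mul_apply, Fin.sum_univ_two, Fin.sum_univ_two]
    simp
    ring
  have hform : ∀ Y : Matrix.SpecialLinearGroup (Fin 2) F,
      Y.1 = !![Y.1 0 0, Y.1 0 1; Y.1 1 0, Y.1 1 1] := by
    intro Y
    ext i j
    fin_cases i <;> fin_cases j <;> rfl
  obtain ⟨γ, δ, hγδ, hc₀⟩ := rigid_std h2 (B₁.1 0 0) (B₁.1 0 1) (B₁.1 1 0) (B₁.1 1 1)
    (B₁'.1 0 0) (B₁'.1 0 1) (B₁'.1 1 0) (B₁'.1 1 1) (sl2_det_entries B₁) (sl2_det_entries B₁')
    (by
      have h3 := ht1'.trans (hB.trans ht1.symm)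
      rw [Matrix.trace_fin_two, Matrix.trace_fin_two] at h3
      exact h3)
    (by
      have h3 := (hu1'.trans (hAB.trans hu1.symm))
      rw [hJB, hJB] at h3
      exact h3)
    (by
      have h3 := hne
      rw [← ht1, ← hu1, hJB, Matrix.trace_fin_two] at h3
      exact h3)
  rw [← hform B₁, ← hform B₁'] at hc₀
  obtain ⟨c₀, hc₀def⟩ : ∃ c₀ : Matrix (Fin 2) (Fin 2) F, c₀ = !![γ, -δ; δ, γ] := ⟨_, rfl⟩
  rw [← hc₀def] at hc₀
  have hc₀J : c₀ * (stdJ : Matrix.SpecialLinearGroup (Fin 2) F).1 = stdJ.1 * c₀ := by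
    rw [hc₀def, stdJ_coe]
    ext i j
    fin_cases i <;> fin_cases j <;> simp [Matrix.mul_apply, Fin.sum_univ_two]
  have hc₀det : c₀.det = γ * γ + δ * δ := by
    rw [hc₀def, Matrix.det_fin_two_of]
    ring
  -- group identities
  have g1 : P * A = stdJ * P := by rw [← hP]; group
  have g2 : A' * P'⁻¹ = P'⁻¹ * stdJ := by rw [← hP']; group
  have g3 : P * B = B₁ * P := by rw [hB₁]; group
  have g4 : B' * P'⁻¹ = P'⁻¹ * B₁' := by rw [hB₁']; group
  have m1 : P.1 * A.1 = stdJ.1 * P.1 := by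
    rw [← Matrix.SpecialLinearGroup.coe_mul, g1, Matrix.SpecialLinearGroup.coe_mul]
  have m2 : A'.1 * (P'⁻¹).1 = (P'⁻¹).1 * stdJ.1 := by
    rw [← Matrix.SpecialLinearGroup.coe_mul, g2, Matrix.SpecialLinearGroup.coe_mul]
  have m3 : P.1 * B.1 = B₁.1 * P.1 := by
    rw [← Matrix.SpecialLinearGroup.coe_mul, g3, Matrix.SpecialLinearGroup.coe_mul]
  have m4 : B'.1 * (P'⁻¹).1 = (P'⁻¹).1 * B₁'.1 := by
    rw [← Matrix.SpecialLinearGroup.coe_mul, g4, Matrix.SpecialLinearGroup.coe_mul]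
  refine ⟨(P'⁻¹).1 * c₀ * P.1, ?_, ?_, ?_⟩
  · rw [Matrix.det_mul, Matrix.det_mul, (P'⁻¹).2, P.2, one_mul, mul_one, hc₀det]
    exact hγδ
  · calc (P'⁻¹).1 * c₀ * P.1 * A.1 = (P'⁻¹).1 * c₀ * (P.1 * A.1) := by
          simp only [Matrix.mul_assoc]
      _ = (P'⁻¹).1 * (c₀ * stdJ.1) * P.1 := by rw [m1]; simp only [Matrix.mul_assoc]
      _ = ((P'⁻¹).1 * stdJ.1) * c₀ * P.1 := by rw [hc₀J]; simp only [Matrix.mul_assoc]
      _ = A'.1 * ((P'⁻¹).1 * c₀ * P.1) := by rw [← m2]; simp only [Matrix.mul_assoc]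
  · calc (P'⁻¹).1 * c₀ * P.1 * B.1 = (P'⁻¹).1 * c₀ * (P.1 * B.1) := by
          simp only [Matrix.mul_assoc]
      _ = (P'⁻¹).1 * (c₀ * B₁.1) * P.1 := by rw [m3]; simp only [Matrix.mul_assoc]
      _ = ((P'⁻¹).1 * B₁'.1) * c₀ * P.1 := by rw [hc₀]; simp only [Matrix.mul_assoc]
      _ = B'.1 * ((P'⁻¹).1 * c₀ * P.1) := by rw [← m4]; simp only [Matrix.mul_assoc]

/-- trace rigidity, as an automorphism of `PSL₂(F)` -/
theorem exists_aut_of_pair [Fintype F] (h2 : (2 : F) ≠ 0)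
    (A B A' B' : Matrix.SpecialLinearGroup (Fin 2) F)
    (hA : A.1.trace = 0) (hA' : A'.1.trace = 0) (hB : B'.1.trace = B.1.trace)
    (hAB : (A' * B').1.trace = (A * B).1.trace)
    (hne : B.1.trace ^ 2 + (A * B).1.trace ^ 2 ≠ 4) :
    ∃ α : MulAut (Matrix.ProjectiveSpecialLinearGroup (Fin 2) F),
      α (QuotientGroup.mk A) = QuotientGroup.mk A' ∧ α (QuotientGroup.mk B) = QuotientGroup.mk B' := by
  obtain ⟨c, hc, h1, h3⟩ := rigid h2 A B A' B' hA hA' hB hAB hne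
  exact ⟨glAut c hc, glAut_mk c hc A A' h1, glAut_mk c hc B B' h3⟩

/-- the image of a two-generator subgroup under an automorphism -/
theorem map_closure_pair {G : Type*} [Group G] (α : MulAut G) (x y x' y' : G) (hx : α x = x')
    (hy : α y = y') :
    (Subgroup.closure ({x, y} : Set G)).map α.toMonoidHom = Subgroup.closure ({x', y'} : Set G) := by
  rw [MonoidHom.map_closure]
  congr 1
  rw [Set.image_pair]
  show ({α x, α y} : Set G) = {x', y'}
  rw [hx, hy]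

/-- the image of a coatom under an automorphism is a coatom -/
theorem isCoatom_map_aut {G : Type*} [Group G] (α : MulAut G) (M : Subgroup G) (hM : IsCoatom M) :
    IsCoatom (M.map α.toMonoidHom) :=
  (OrderIso.isCoatom_iff (MulEquiv.mapSubgroup α) M).mpr hM

end Cfsg.Agent.Lib.Helper41
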