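import Cfsg.Agent.Lib.Helper41.SL2Quart
import Cfsg.Prelude.Def_GeometricClasses

set_option autoImplicit false

namespace Cfsg.Agent.Lib.Helper41

open Matrix

variable {F : Type*} [Field F]

/-- every element of the quaternion group of order 8 is `xa 0 ^ e * a 1 ^ k` -/
theorem q8_gen (q : QuaternionGroup 2) :
    ∃ e k : ℕ, q = (QuaternionGroup.xa 0) ^ e * (QuaternionGroup.a 1) ^ k := by
  cases q with
  | a m =>
    refine ⟨0, m.val, ?_⟩
    rw [pow_zero, one_mul, QuaternionGroup.a_one_pow, ZMod.natCast_zmod_val]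
  | xa m =>
    refine ⟨1, m.val, ?_⟩
    rw [pow_one, QuaternionGroup.a_one_pow, ZMod.natCast_zmod_val, QuaternionGroup.xa_mul_a,
      zero_add]

/-- trace and determinant of two matrices satisfying the quaternion relations -/
theorem q8_matrix_trace_det {I J : Matrix (Fin 2) (Fin 2) F}
    (hIJ : I * I = J * J) (hne : I * J ≠ J * I)
    (hZ : (I * I) * (I * I) = 1) (hZ1 : I * I ≠ 1) :
    I.trace = 0 ∧ I.det = 1 ∧ J.trace = 0 ∧ J.det = 1 ∧ I * I = -1 ∧ J * J = -1 := by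
  obtain ⟨t, ht⟩ : ∃ t, t = I.trace := ⟨_, rfl⟩
  obtain ⟨d, hd⟩ : ∃ d, d = I.det := ⟨_, rfl⟩
  obtain ⟨t', ht'⟩ : ∃ t, t = J.trace := ⟨_, rfl⟩
  obtain ⟨d', hd'⟩ : ∃ d, d = J.det := ⟨_, rfl⟩
  have hc : I * I = t • I - d • (1 : Matrix (Fin 2) (Fin 2) F) := by
    rw [ht, hd]; exact cayley2 I
  have hc' : J * J = t' • J - d' • (1 : Matrix (Fin 2) (Fin 2) F) := by
    rw [ht', hd']; exact cayley2 J
  have ht0 : t = 0 := by
    by_contra h
    apply hne
    have e : I = t⁻¹ • (J * J + d • (1 : Matrix (Fin 2) (Fin 2) F)) := by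
      rw [← hIJ, hc, sub_add_cancel, smul_smul, inv_mul_cancel₀ h, one_smul]
    rw [e]
    simp only [smul_mul_assoc, mul_smul_comm, add_mul, mul_add, one_mul, mul_one, mul_assoc]
  have hII : I * I = -(d • (1 : Matrix (Fin 2) (Fin 2) F)) := by
    rw [hc, ht0, zero_smul, zero_sub]
  have hdd : d * d = 1 := by
    have h := hZ
    rw [hII, neg_mul_neg, smul_mul_assoc, one_mul, smul_smul] at h
    have h' := congrFun (congrFun h 0) 0
    rw [Matrix.smul_apply, Matrix.one_apply_eq, smul_eq_mul, mul_one] at h'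
    exact h'
  have hdne : d ≠ -1 := by
    intro h
    apply hZ1
    rw [hII, h, neg_smul, one_smul, neg_neg]
  have hd1 : d = 1 := by
    have : (d - 1) * (d + 1) = 0 := by linear_combination hdd
    rcases mul_eq_zero.mp this with h | h
    · linear_combination h
    · exact absurd (by linear_combination h) hdne
  have hII' : I * I = -1 := by rw [hII, hd1, one_smul]
  have hJJ : J * J = -1 := by rw [← hIJ, hII']
  have ht0' : t' = 0 := by
    by_contra h
    apply hne
    have e : J = t'⁻¹ • (I * I + d' • (1 : Matrix (Fin 2) (Fin 2) F)) := by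
      rw [hIJ, hc', sub_add_cancel, smul_smul, inv_mul_cancel₀ h, one_smul]
    rw [e]
    simp only [smul_mul_assoc, mul_smul_comm, add_mul, mul_add, one_mul, mul_one, mul_assoc]
  have hd1' : d' = 1 := by
    have h := hc'
    rw [ht0', zero_smul, zero_sub, hJJ] at h
    have h1 : d' • (1 : Matrix (Fin 2) (Fin 2) F) = 1 := neg_injective h.symm
    have h' := congrFun (congrFun h1 0) 0
    rw [Matrix.smul_apply, Matrix.one_apply_eq, smul_eq_mul, mul_one] at h'
    exact h'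
  exact ⟨by rw [← ht]; exact ht0, by rw [← hd]; exact hd1, by rw [← ht']; exact ht0',
    by rw [← hd']; exact hd1', hII', hJJ⟩

/-- a quaternion subgroup of `GL₂` has a standard frame -/
theorem exists_q8_frame (R : Subgroup (GL (Fin 2) F))
    (hR : Nonempty (↥R ≃* QuaternionGroup 2)) :
    ∃ i j : GL (Fin 2) F, i ∈ R ∧ j ∈ R ∧ (∀ u ∈ R, ∃ e k : ℕ, u = j ^ e * i ^ k) ∧
      (i : Matrix (Fin 2) (Fin 2) F).trace = 0 ∧ (i : Matrix (Fin 2) (Fin 2) F).det = 1 ∧
      (j : Matrix (Fin 2) (Fin 2) F).trace = 0 ∧ (j : Matrix (Fin 2) (Fin 2) F).det = 1 ∧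
      (i : Matrix (Fin 2) (Fin 2) F) * (i : Matrix (Fin 2) (Fin 2) F) = -1 ∧
      (j : Matrix (Fin 2) (Fin 2) F) * (j : Matrix (Fin 2) (Fin 2) F) = -1 ∧
      (j : Matrix (Fin 2) (Fin 2) F) * (i : Matrix (Fin 2) (Fin 2) F) =
        -((i : Matrix (Fin 2) (Fin 2) F) * (j : Matrix (Fin 2) (Fin 2) F)) := by
  obtain ⟨φ⟩ := hR
  obtain ⟨i, hi⟩ : ∃ i : R, i = φ.symm (QuaternionGroup.a 1) := ⟨_, rfl⟩
  obtain ⟨j, hj⟩ : ∃ j : R, j = φ.symm (QuaternionGroup.xa 0) := ⟨_, rfl⟩
  have q1 : (QuaternionGroup.a 1 * QuaternionGroup.a 1 : QuaternionGroup 2) =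
      QuaternionGroup.xa 0 * QuaternionGroup.xa 0 := by decide
  have q2 : (QuaternionGroup.a 1 * QuaternionGroup.xa 0 : QuaternionGroup 2) ≠
      QuaternionGroup.xa 0 * QuaternionGroup.a 1 := by decide
  have q3 : ((QuaternionGroup.a 1 * QuaternionGroup.a 1) *
      (QuaternionGroup.a 1 * QuaternionGroup.a 1) : QuaternionGroup 2) = 1 := by decide
  have q4 : (QuaternionGroup.a 1 * QuaternionGroup.a 1 : QuaternionGroup 2) ≠ 1 := by decide
  have q5 : (QuaternionGroup.a 1 * QuaternionGroup.xa 0 * QuaternionGroup.a 1 :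
      QuaternionGroup 2) = QuaternionGroup.xa 0 := by decide
  have r1 : i * i = j * j := by rw [hi, hj, ← map_mul, ← map_mul, q1]
  have r2 : i * j ≠ j * i := by
    rw [hi, hj, ← map_mul, ← map_mul]
    exact fun h => q2 (φ.symm.injective h)
  have r3 : (i * i) * (i * i) = 1 := by
    rw [hi, ← map_mul, ← map_mul, q3, map_one]
  have r4 : i * i ≠ 1 := by
    rw [hi, ← map_mul]
    intro h
    apply q4
    apply φ.symm.injective
    rw [h, map_one]
  have r5 : i * j * i = j := by rw [hi, hj, ← map_mul, ← map_mul, q5]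
  -- matrices
  obtain ⟨I, hI⟩ : ∃ I : Matrix (Fin 2) (Fin 2) F, I = ((i : GL (Fin 2) F) : Matrix (Fin 2) (Fin 2) F) :=
    ⟨_, rfl⟩
  obtain ⟨J, hJ⟩ : ∃ J : Matrix (Fin 2) (Fin 2) F, J = ((j : GL (Fin 2) F) : Matrix (Fin 2) (Fin 2) F) :=
    ⟨_, rfl⟩
  have m1 : I * I = J * J := by
    rw [hI, hJ, ← Units.val_mul, ← Units.val_mul, ← Subgroup.coe_mul, ← Subgroup.coe_mul, r1]
  have m2 : I * J ≠ J * I := by
    rw [hI, hJ, ← Units.val_mul, ← Units.val_mul, ← Subgroup.coe_mul, ← Subgroup.coe_mul]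
    intro h
    exact r2 (Subtype.ext (Units.ext h))
  have m3 : (I * I) * (I * I) = 1 := by
    rw [hI, ← Units.val_mul, ← Units.val_mul, ← Subgroup.coe_mul, ← Subgroup.coe_mul, r3]
    rfl
  have m4 : I * I ≠ 1 := by
    rw [hI, ← Units.val_mul, ← Subgroup.coe_mul]
    intro h
    apply r4
    apply Subtype.ext
    apply Units.ext
    rw [h]
    rfl
  have m5 : I * J * I = J := by
    rw [hI, hJ, ← Units.val_mul, ← Units.val_mul, ← Subgroup.coe_mul, ← Subgroup.coe_mul, r5]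
  obtain ⟨htI, hdI, htJ, hdJ, hII, hJJ⟩ := q8_matrix_trace_det m1 m2 m3 m4
  have hanti : J * I = -(I * J) := by
    calc J * I = -(I * I * (J * I)) := by rw [hII, neg_one_mul, neg_neg]
      _ = -(I * (I * J * I)) := by simp only [mul_assoc]
      _ = -(I * J) := by rw [m5]
  refine ⟨i, j, i.2, j.2, ?_, ?_, ?_, ?_, ?_, ?_, ?_, ?_⟩
  · intro u hu
    obtain ⟨e, k, hek⟩ := q8_gen (φ ⟨u, hu⟩)
    have h1 : (⟨u, hu⟩ : R) = j ^ e * i ^ k := by
      rw [hi, hj, ← map_pow, ← map_pow, ← map_mul, ← hek, MulEquiv.symm_apply_apply]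
    have h2 := congrArg Subtype.val h1
    rw [Subgroup.coe_mul, Subgroup.coe_pow, Subgroup.coe_pow] at h2
    exact ⟨e, k, h2⟩
  · rw [← hI]; exact htI
  · rw [← hI]; exact hdI
  · rw [← hJ]; exact htJ
  · rw [← hJ]; exact hdJ
  · rw [← hI]; exact hII
  · rw [← hJ]; exact hJJ
  · rw [← hI, ← hJ]; exact hanti

/-- an element conjugating the generators into a finite subgroup normalizes it -/
theorem mem_subgroupNormalizer_of_gens [Fintype F] (R : Subgroup (GL (Fin 2) F))
    (i j g : GL (Fin 2) F) (hgen : ∀ u ∈ R, ∃ e k : ℕ, u = j ^ e * i ^ k)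
    (hi : g * i * g⁻¹ ∈ R) (hj : g * j * g⁻¹ ∈ R) : g ∈ Cfsg.Geo.subgroupNormalizer R := by
  classical
  have hfwd : ∀ u ∈ R, g * u * g⁻¹ ∈ R := by
    intro u hu
    obtain ⟨e, k, rfl⟩ := hgen u hu
    have : g * (j ^ e * i ^ k) * g⁻¹ = (g * j * g⁻¹) ^ e * (g * i * g⁻¹) ^ k := by
      rw [conj_pow, conj_pow]; group
    rw [this]
    exact mul_mem (pow_mem hj e) (pow_mem hi k)
  unfold Cfsg.Geo.subgroupNormalizer
  rw [Subgroup.mem_normalizer_iff]
  intro h
  refine ⟨hfwd h, fun hh => ?_⟩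
  obtain ⟨c, hc⟩ : ∃ c : R → R, ∀ u : R, (c u : GL (Fin 2) F) = g * u.1 * g⁻¹ :=
    ⟨fun u => ⟨g * u.1 * g⁻¹, hfwd u.1 u.2⟩, fun u => rfl⟩
  have hinj : Function.Injective c := by
    intro u v huv
    have h1 := congrArg Subtype.val huv
    rw [hc, hc] at h1
    exact Subtype.ext (mul_left_cancel (mul_right_cancel h1))
  have hsurj := Finite.injective_iff_surjective.mp hinj
  obtain ⟨u, hu⟩ := hsurj ⟨g * h * g⁻¹, hh⟩
  have h1 := congrArg Subtype.val hu
  rw [hc] at h1
  have huh : u.1 = h := mul_left_cancel (mul_right_cancel h1)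
  rw [← huh]
  exact u.2

/-- the order three element `(1 + I + J + IJ)/2` normalizing the quaternion frame -/
theorem q8_omega {I J : Matrix (Fin 2) (Fin 2) F} (h2 : (2 : F) ≠ 0)
    (hI : I * I = -1) (hJ : J * J = -1) (hJI : J * I = -(I * J))
    (htI : I.trace = 0) (htJ : J.trace = 0) :
    ∃ W : Matrix (Fin 2) (Fin 2) F, W.det = 1 ∧ W.trace = 1 ∧ W * I = J * W ∧
      W * J = (I * J) * W := by
  obtain ⟨K, hK⟩ : ∃ K, K = I * J := ⟨_, rfl⟩
  have hIJ : I * J = K := hK.symm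
  have hJI' : J * I = -K := by rw [hJI, hIJ]
  have hKI : K * I = J := by
    rw [hK, mul_assoc, hJI, mul_neg, ← mul_assoc, hI, neg_mul, one_mul, neg_neg]
  have hIK : I * K = -J := by rw [hK, ← mul_assoc, hI, neg_mul, one_mul]
  have hJK : J * K = I := by
    rw [hK, ← mul_assoc, hJI, neg_mul, mul_assoc, hJ, mul_neg, mul_one, neg_neg]
  have hKJ : K * J = -I := by rw [hK, mul_assoc, hJ, mul_neg, mul_one]
  have hKK : K * K = -1 := by
    calc K * K = (I * J) * K := by rw [hIJ]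
      _ = I * (J * K) := mul_assoc _ _ _
      _ = -1 := by rw [hJK, hI]
  have htK : K.trace = 0 := by
    have e1 : (J * I).trace = (I * J).trace := Matrix.trace_mul_comm J I
    rw [hJI, Matrix.trace_neg] at e1
    have : (2 : F) * (I * J).trace = 0 := by linear_combination -e1
    rw [hK]
    exact (mul_eq_zero.mp this).resolve_left h2
  obtain ⟨c, hc⟩ : ∃ c : F, 2 * c = 1 := ⟨2⁻¹, mul_inv_cancel₀ h2⟩
  have hTI : (1 + I + J + K) * I = J * (1 + I + J + K) := by
    simp only [add_mul, mul_add, one_mul, mul_one, hI, hJI', hKI, hJ, hJK]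
    abel
  have hTJ : (1 + I + J + K) * J = K * (1 + I + J + K) := by
    simp only [add_mul, mul_add, one_mul, mul_one, hIJ, hJ, hKJ, hKI, hKK]
    abel
  have hTT : (1 + I + J + K) * (1 + I + J + K) = (I + J + K) + (I + J + K) - 1 - 1 := by
    simp only [add_mul, mul_add, one_mul, mul_one, hI, hIJ, hIK, hJI', hJ, hJK, hKI, hKJ, hKK]
    abel
  obtain ⟨W, hW⟩ : ∃ W, W = c • (1 + I + J + K) := ⟨_, rfl⟩
  have htW : W.trace = 1 := by
    rw [hW, Matrix.trace_smul, Matrix.trace_add, Matrix.trace_add, Matrix.trace_add,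
      Matrix.trace_one, htI, htJ, htK, Fintype.card_fin]
    simp only [add_zero, smul_eq_mul, Nat.cast_ofNat]
    linear_combination hc
  have hWW : W * W = W - 1 := by
    rw [hW, smul_mul_assoc, mul_smul_comm, hTT]
    ext a b
    simp only [Matrix.smul_apply, Matrix.add_apply, Matrix.sub_apply, smul_eq_mul]
    linear_combination (c * (I a b + J a b + K a b - (1 : Matrix (Fin 2) (Fin 2) F) a b) -
      (1 : Matrix (Fin 2) (Fin 2) F) a b) * hc
  have hdW : W.det = 1 := by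
    have hcay := cayley2 W
    rw [hWW, htW, one_smul] at hcay
    have h1 : (1 : Matrix (Fin 2) (Fin 2) F) = W.det • (1 : Matrix (Fin 2) (Fin 2) F) :=
      sub_right_injective hcay
    have h' := congrFun (congrFun h1 0) 0
    rw [Matrix.smul_apply, Matrix.one_apply_eq, smul_eq_mul, mul_one] at h'
    exact h'.symm
  refine ⟨W, hdW, htW, ?_, ?_⟩
  · rw [hW, smul_mul_assoc, mul_smul_comm, hTI]
  · rw [hIJ, hW, smul_mul_assoc, mul_smul_comm, hTJ]

/-- determinant one and square scalar, non-scalar: trace zero -/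
theorem trace_zero_of_sq_scalar {X : Matrix (Fin 2) (Fin 2) F} (hdet : X.det = 1) (z : F)
    (hsq : X * X = z • (1 : Matrix (Fin 2) (Fin 2) F))
    (hns : ∀ z : F, X ≠ z • (1 : Matrix (Fin 2) (Fin 2) F)) : X.trace = 0 := by
  obtain ⟨t, ht⟩ : ∃ t, t = X.trace := ⟨_, rfl⟩
  have hc : X * X = t • X - 1 := by rw [ht]; exact cayley2_det_one hdet
  rw [← ht]
  by_contra hne
  apply hns ((z + 1) / t)
  have e : t • X = (z + 1) • (1 : Matrix (Fin 2) (Fin 2) F) := by
    rw [add_smul, one_smul, ← hsq, hc, sub_add_cancel]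
  calc X = t⁻¹ • (t • X) := by rw [smul_smul, inv_mul_cancel₀ hne, one_smul]
    _ = ((z + 1) / t) • (1 : Matrix (Fin 2) (Fin 2) F) := by
      rw [e, smul_smul]
      congr 1
      field_simp

/-- determinant one and cube scalar, non-scalar: trace `±1` -/
theorem trace_of_cube_scalar {X : Matrix (Fin 2) (Fin 2) F} (hdet : X.det = 1) (z : F)
    (hcube : X * X * X = z • (1 : Matrix (Fin 2) (Fin 2) F))
    (hns : ∀ z : F, X ≠ z • (1 : Matrix (Fin 2) (Fin 2) F)) :
    X.trace = 1 ∨ X.trace = -1 := by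
  obtain ⟨t, ht⟩ : ∃ t, t = X.trace := ⟨_, rfl⟩
  have hc : X * X = t • X - 1 := by rw [ht]; exact cayley2_det_one hdet
  have h3 : X * X * X = (t * t - 1) • X - t • (1 : Matrix (Fin 2) (Fin 2) F) := by
    rw [hc, sub_mul, smul_mul_assoc, hc, one_mul, smul_sub, smul_smul, sub_smul, one_smul]
    abel
  rw [← ht]
  by_contra hcon
  push Not at hcon
  have hne : t * t - 1 ≠ 0 := by
    intro h
    have : (t - 1) * (t + 1) = 0 := by linear_combination h
    rcases mul_eq_zero.mp this with h' | h'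
    · exact hcon.1 (by linear_combination h')
    · exact hcon.2 (by linear_combination h')
  apply hns ((z + t) / (t * t - 1))
  have e : (t * t - 1) • X = (z + t) • (1 : Matrix (Fin 2) (Fin 2) F) := by
    rw [add_smul, ← hcube, h3, sub_add_cancel]
  calc X = (t * t - 1)⁻¹ • ((t * t - 1) • X) := by
        rw [smul_smul, inv_mul_cancel₀ hne, one_smul]
    _ = ((z + t) / (t * t - 1)) • (1 : Matrix (Fin 2) (Fin 2) F) := by
      rw [e, smul_smul]
      congr 1
      field_simp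

theorem det_eq_one_of_mem_specialLinear (x : GL (Fin 2) F)
    (hx : x ∈ Cfsg.Geo.specialLinear (Fin 2) F) : (x : Matrix (Fin 2) (Fin 2) F).det = 1 := by
  have h : Matrix.GeneralLinearGroup.det x = 1 := hx
  have h' := congrArg Units.val h
  simpa using h'

theorem toGL_mk_eq (x : GL (Fin 2) F) (h : (x : Matrix (Fin 2) (Fin 2) F).det = 1) :
    Matrix.SpecialLinearGroup.toGL ⟨(x : Matrix (Fin 2) (Fin 2) F), h⟩ = x := Units.ext rfl

theorem toGL_mem_specialLinear (P : Matrix.SpecialLinearGroup (Fin 2) F) :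
    Matrix.SpecialLinearGroup.toGL P ∈ Cfsg.Geo.specialLinear (Fin 2) F := by
  show Matrix.GeneralLinearGroup.det (Matrix.SpecialLinearGroup.toGL P) = 1
  exact Matrix.SpecialLinearGroup.coeToGL_det P

/-- elements of `GL₂` of determinant one with the same trace `τ`, `τ² ≠ 4`, are conjugate
under the special linear group -/
theorem exists_conj_into_of_trace [Fintype F] (h2 : (2 : F) ≠ 0) (x w : GL (Fin 2) F)
    (hx : (x : Matrix (Fin 2) (Fin 2) F).det = 1) (hw : (w : Matrix (Fin 2) (Fin 2) F).det = 1)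
    (ht : (x : Matrix (Fin 2) (Fin 2) F).trace = (w : Matrix (Fin 2) (Fin 2) F).trace)
    (hne : (x : Matrix (Fin 2) (Fin 2) F).trace * (x : Matrix (Fin 2) (Fin 2) F).trace ≠ 4) :
    ∃ g ∈ Cfsg.Geo.specialLinear (Fin 2) F, g⁻¹ * x * g = w := by
  obtain ⟨Xs, hXs⟩ : ∃ Xs : Matrix.SpecialLinearGroup (Fin 2) F,
      Xs.1 = (x : Matrix (Fin 2) (Fin 2) F) := ⟨⟨_, hx⟩, rfl⟩
  obtain ⟨Ws, hWs⟩ : ∃ Ws : Matrix.SpecialLinearGroup (Fin 2) F,
      Ws.1 = (w : Matrix (Fin 2) (Fin 2) F) := ⟨⟨_, hw⟩, rfl⟩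
  have hXg : Matrix.SpecialLinearGroup.toGL Xs = x := Units.ext hXs
  have hWg : Matrix.SpecialLinearGroup.toGL Ws = w := Units.ext hWs
  obtain ⟨P, hP⟩ := conj_of_trace_eq h2 Xs Ws (by rw [hXs]; exact hne) (by rw [hXs, hWs]; exact ht.symm)
  refine ⟨Matrix.SpecialLinearGroup.toGL P⁻¹, toGL_mem_specialLinear _, ?_⟩
  have h := congrArg Matrix.SpecialLinearGroup.toGL hP
  rw [map_mul, map_mul, hXg, hWg, map_inv] at h
  rw [map_inv, inv_inv]
  exact h

theorem scalar_eq_one_of_pow (z : F) {r : ℕ} (hr : Odd r) (hz2 : z * z = 1) (hzr : z ^ r = 1) :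
    z = 1 := by
  obtain ⟨k, rfl⟩ := hr
  have : z ^ (2 * k + 1) = z := by rw [pow_succ, pow_mul, pow_two, hz2, one_pow, one_mul]
  rw [this] at hzr
  exact hzr

/-- a scalar element of determinant one and odd order is trivial -/
theorem gl2_eq_one_of_scalar {x : GL (Fin 2) F} (hdet : (x : Matrix (Fin 2) (Fin 2) F).det = 1)
    {r : ℕ} (hr : Odd r) (hxr : x ^ r = 1) (z : F)
    (hz : (x : Matrix (Fin 2) (Fin 2) F) = z • (1 : Matrix (Fin 2) (Fin 2) F)) : x = 1 := by
  have hz2 : z * z = 1 := by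
    rw [hz, Matrix.det_smul, Matrix.det_one, Fintype.card_fin, mul_one, pow_two] at hdet
    exact hdet
  have hzr : z ^ r = 1 := by
    have h := congrArg Units.val hxr
    rw [Units.val_pow_eq_pow_val, hz, smul_pow, one_pow, Units.val_one] at h
    have h00 := congrFun (congrFun h 0) 0
    rw [Matrix.smul_apply, Matrix.one_apply_eq, smul_eq_mul, mul_one] at h00
    exact h00
  have h1 := scalar_eq_one_of_pow z hr hz2 hzr
  apply Units.ext
  rw [hz, h1, one_smul, Units.val_one]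

theorem q8_fix_arith {r f : ℕ} (hr : r.Prime) (hr5 : 5 ≤ r) (hf : f ∣ 8) (hf1 : f ≠ 1)
    (hmod : 8 ≡ f [MOD r]) : f = 8 := by
  have hle : f ≤ 8 := Nat.le_of_dvd (by norm_num) hf
  have hd : r ∣ 8 - f := (Nat.modEq_iff_dvd' hle).mp hmod.symm
  by_contra hne
  have hpos : 0 < 8 - f := by omega
  have hr8 : r ≤ 8 - f := Nat.le_of_dvd hpos hd
  have hf0 : f ≠ 0 := by
    rintro rfl
    simp at hf
  interval_cases f <;> try omega
  all_goals (interval_cases r <;> first | omega | (norm_num at hr))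

end Cfsg.Agent.Lib.Helper41
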