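import Mathlib
import Cfsg.Agent.Lib.Helper41.PSL2Rigid
import Cfsg.Agent.Lib.Helper41.Q8Norm
import Cfsg.Agent.Lib.Helper41.SL2Cent
import Cfsg.Agent.S0809
import Cfsg.Agent.Lib.Helper59.SubfieldPSL

set_option autoImplicit false

/-!
Lifts to `SL₂(F)` of pairs of elements of `PSL₂(F)` of orders `2`, `3` with product of order
`3`, `4` or `5`, with normalised traces.
-/

namespace Cfsg.Agent.Lib.Helper41

open Matrix

variable {F : Type*} [Field F]

theorem mk_pow_cases (X : Matrix.SpecialLinearGroup (Fin 2) F) (n : ℕ)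
    (h : (QuotientGroup.mk X : Matrix.ProjectiveSpecialLinearGroup (Fin 2) F) ^ n = 1) :
    X.1 ^ n = 1 ∨ X.1 ^ n = -1 := by
  rw [← QuotientGroup.mk_pow, QuotientGroup.eq_one_iff, sl2_mem_center_iff,
    Matrix.SpecialLinearGroup.coe_pow] at h
  exact h

theorem not_smul_one_of_mk_ne_one (X : Matrix.SpecialLinearGroup (Fin 2) F)
    (h : (QuotientGroup.mk X : Matrix.ProjectiveSpecialLinearGroup (Fin 2) F) ≠ 1) :
    ∀ z : F, X.1 ≠ z • (1 : Matrix (Fin 2) (Fin 2) F) := by
  have hX : X ∉ Subgroup.center (Matrix.SpecialLinearGroup (Fin 2) F) := by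
    rwa [Ne, QuotientGroup.eq_one_iff] at h
  intro z hz
  exact nonscalar_of_not_mem_center X hX z (by rw [hz, scalar_eq_smul_one])

theorem mk_neg_eq (X : Matrix.SpecialLinearGroup (Fin 2) F) :
    (QuotientGroup.mk (-X) : Matrix.ProjectiveSpecialLinearGroup (Fin 2) F) = QuotientGroup.mk X := by
  symm
  apply Cfsg.Agent.Lib.Helper59.psl_mk_eq_of_smul X (-X) (-1)
  rw [Matrix.SpecialLinearGroup.coe_neg, neg_smul, one_smul]

theorem trace_neg_sl (X : Matrix.SpecialLinearGroup (Fin 2) F) : (-X).1.trace = -X.1.trace := by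
  rw [Matrix.SpecialLinearGroup.coe_neg, Matrix.trace_neg]

theorem trace_neg_mul_sl (X Y : Matrix.SpecialLinearGroup (Fin 2) F) :
    (-X * Y).1.trace = -(X * Y).1.trace := by
  rw [Matrix.SpecialLinearGroup.coe_mul, Matrix.SpecialLinearGroup.coe_mul,
    Matrix.SpecialLinearGroup.coe_neg, Matrix.neg_mul, Matrix.trace_neg]

/-- the trace of a lift of an element of order three -/
theorem trace_of_order_three (C : Matrix.SpecialLinearGroup (Fin 2) F)
    (hC : orderOf (QuotientGroup.mk C : Matrix.ProjectiveSpecialLinearGroup (Fin 2) F) = 3) :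
    C.1.trace = 1 ∨ C.1.trace = -1 := by
  have h1 : (QuotientGroup.mk C : Matrix.ProjectiveSpecialLinearGroup (Fin 2) F) ≠ 1 := by
    intro h
    rw [h, orderOf_one] at hC
    omega
  have hpow : (QuotientGroup.mk C : Matrix.ProjectiveSpecialLinearGroup (Fin 2) F) ^ 3 = 1 := by
    rw [← hC]
    exact pow_orderOf_eq_one _
  have hns := not_smul_one_of_mk_ne_one C h1
  have e3 : C.1 ^ 3 = C.1 * C.1 * C.1 := by rw [pow_succ, pow_two]
  obtain ⟨z, hz⟩ : ∃ z : F, C.1 * C.1 * C.1 = z • (1 : Matrix (Fin 2) (Fin 2) F) := by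
    rcases mk_pow_cases C 3 hpow with h | h
    · exact ⟨1, by rw [one_smul, ← h, e3]⟩
    · exact ⟨-1, by rw [neg_smul, one_smul, ← h, e3]⟩
  exact trace_of_cube_scalar C.2 z hz hns

/-- the trace of a lift of an element of order four -/
theorem trace_sq_of_order_four (C : Matrix.SpecialLinearGroup (Fin 2) F)
    (hC : orderOf (QuotientGroup.mk C : Matrix.ProjectiveSpecialLinearGroup (Fin 2) F) = 4) :
    C.1.trace ^ 2 = 2 := by
  have hpow : (QuotientGroup.mk C : Matrix.ProjectiveSpecialLinearGroup (Fin 2) F) ^ 4 = 1 := by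
    rw [← hC]
    exact pow_orderOf_eq_one _
  have hsq : (QuotientGroup.mk (C * C) : Matrix.ProjectiveSpecialLinearGroup (Fin 2) F) ≠ 1 := by
    intro h
    have h3 : (QuotientGroup.mk C : Matrix.ProjectiveSpecialLinearGroup (Fin 2) F) ^ 2 = 1 := by
      rw [pow_two]
      exact h
    have h4 := orderOf_dvd_of_pow_eq_one h3
    rw [hC] at h4
    norm_num at h4
  have hns := not_smul_one_of_mk_ne_one (C * C) hsq
  have e4 : C.1 ^ 4 = (C * C).1 * (C * C).1 := by
    rw [Matrix.SpecialLinearGroup.coe_mul, show (4 : ℕ) = 2 + 2 from rfl, pow_add, pow_two]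
  obtain ⟨z, hz⟩ : ∃ z : F, (C * C).1 * (C * C).1 = z • (1 : Matrix (Fin 2) (Fin 2) F) := by
    rcases mk_pow_cases C 4 hpow with h | h
    · exact ⟨1, by rw [one_smul, ← h, e4]⟩
    · exact ⟨-1, by rw [neg_smul, one_smul, ← h, e4]⟩
  have h0 := trace_zero_of_sq_scalar (C * C).2 z hz hns
  have hc := cayley2_det_one C.2
  rw [Matrix.SpecialLinearGroup.coe_mul, hc, Matrix.trace_sub, Matrix.trace_smul, Matrix.trace_one,
    Fintype.card_fin, smul_eq_mul] at h0
  push_cast at h0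
  linear_combination h0

/-- the trace of a non-scalar matrix of determinant one and fifth power one -/
theorem trace_of_pow_five {X : Matrix (Fin 2) (Fin 2) F} (hdet : X.det = 1) (h5 : X ^ 5 = 1)
    (hns : ∀ z : F, X ≠ z • (1 : Matrix (Fin 2) (Fin 2) F)) : X.trace ^ 2 + X.trace - 1 = 0 := by
  obtain ⟨t, ht⟩ : ∃ t, t = X.trace := ⟨_, rfl⟩
  have hc : X * X = t • X - 1 := by rw [ht]; exact cayley2_det_one hdet
  rw [← ht]
  have step : ∀ a b : F, (a • X + b • (1 : Matrix (Fin 2) (Fin 2) F)) * X =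
      (t * a + b) • X + (-a) • (1 : Matrix (Fin 2) (Fin 2) F) := by
    intro a b
    rw [add_mul, smul_mul_assoc, smul_mul_assoc, hc, one_mul]
    module
  have e1 : X ^ 1 = (1 : F) • X + (0 : F) • (1 : Matrix (Fin 2) (Fin 2) F) := by
    rw [pow_one]
    module
  have e2 : X ^ 2 = t • X + (-1 : F) • (1 : Matrix (Fin 2) (Fin 2) F) := by
    rw [pow_succ, e1, step]
    module
  have e3 : X ^ 3 = (t ^ 2 - 1) • X + (-t) • (1 : Matrix (Fin 2) (Fin 2) F) := by
    rw [pow_succ, e2, step]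
    module
  have e4 : X ^ 4 = (t ^ 3 - 2 * t) • X + (-(t ^ 2 - 1)) • (1 : Matrix (Fin 2) (Fin 2) F) := by
    rw [pow_succ, e3, step]
    module
  have e5 : X ^ 5 = (t ^ 4 - 3 * t ^ 2 + 1) • X +
      (-(t ^ 3 - 2 * t)) • (1 : Matrix (Fin 2) (Fin 2) F) := by
    rw [pow_succ, e4, step]
    module
  rw [e5] at h5
  by_cases ha : t ^ 4 - 3 * t ^ 2 + 1 = 0
  · rw [ha, zero_smul, zero_add] at h5
    have h00 := congrFun (congrFun h5 0) 0
    simp at h00
    have h6 : (t - 1) * (t ^ 2 + t - 1) = 0 := by linear_combination -h00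
    rcases mul_eq_zero.mp h6 with h7 | h7
    · exfalso
      have h8 : t = 1 := by linear_combination h7
      rw [h8] at ha
      norm_num at ha
    · exact h7
  · exfalso
    apply hns ((t ^ 4 - 3 * t ^ 2 + 1)⁻¹ * (1 + (t ^ 3 - 2 * t)))
    have e : (t ^ 4 - 3 * t ^ 2 + 1) • X =
        (1 + (t ^ 3 - 2 * t)) • (1 : Matrix (Fin 2) (Fin 2) F) := by
      calc (t ^ 4 - 3 * t ^ 2 + 1) • X = ((t ^ 4 - 3 * t ^ 2 + 1) • X +
            (-(t ^ 3 - 2 * t)) • (1 : Matrix (Fin 2) (Fin 2) F)) +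
            (t ^ 3 - 2 * t) • (1 : Matrix (Fin 2) (Fin 2) F) := by module
        _ = 1 + (t ^ 3 - 2 * t) • (1 : Matrix (Fin 2) (Fin 2) F) := by rw [h5]
        _ = (1 + (t ^ 3 - 2 * t)) • (1 : Matrix (Fin 2) (Fin 2) F) := by module
    calc X = (t ^ 4 - 3 * t ^ 2 + 1)⁻¹ • ((t ^ 4 - 3 * t ^ 2 + 1) • X) := by
          rw [smul_smul, inv_mul_cancel₀ ha, one_smul]
      _ = _ := by rw [e, smul_smul]

/-- the trace of a lift of an element of order five -/
theorem trace_of_order_five (C : Matrix.SpecialLinearGroup (Fin 2) F)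
    (hC : orderOf (QuotientGroup.mk C : Matrix.ProjectiveSpecialLinearGroup (Fin 2) F) = 5) :
    C.1.trace ^ 2 + C.1.trace - 1 = 0 ∨ C.1.trace ^ 2 - C.1.trace - 1 = 0 := by
  have h1 : (QuotientGroup.mk C : Matrix.ProjectiveSpecialLinearGroup (Fin 2) F) ≠ 1 := by
    intro h
    rw [h, orderOf_one] at hC
    omega
  have hpow : (QuotientGroup.mk C : Matrix.ProjectiveSpecialLinearGroup (Fin 2) F) ^ 5 = 1 := by
    rw [← hC]
    exact pow_orderOf_eq_one _
  have hns := not_smul_one_of_mk_ne_one C h1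
  rcases mk_pow_cases C 5 hpow with h | h
  · left
    exact trace_of_pow_five C.2 h hns
  · right
    have h5 : (-C.1) ^ 5 = 1 := by
      rw [Odd.neg_pow (by decide), h, neg_neg]
    have hdet : (-C.1).det = 1 := by
      rw [Matrix.det_neg, Fintype.card_fin, C.2]
      norm_num
    have hns' : ∀ z : F, -C.1 ≠ z • (1 : Matrix (Fin 2) (Fin 2) F) := by
      intro z hz
      apply hns (-z)
      rw [neg_smul, ← hz, neg_neg]
    have h6 := trace_of_pow_five hdet h5 hns'
    rw [Matrix.trace_neg] at h6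
    linear_combination h6

/-- lifts of a pair of elements of orders two and three, with a normalisation of the trace of
the product up to sign -/
theorem exists_lift_pair [Fintype F] (h2 : (2 : F) ≠ 0)
    (x y : Matrix.ProjectiveSpecialLinearGroup (Fin 2) F) (hx : orderOf x = 2) (hy : orderOf y = 3)
    (P : F → Prop)
    (hP : ∀ C : Matrix.SpecialLinearGroup (Fin 2) F, QuotientGroup.mk C = x * y →
      P C.1.trace ∨ P (-C.1.trace)) :
    ∃ A B : Matrix.SpecialLinearGroup (Fin 2) F, QuotientGroup.mk A = x ∧ QuotientGroup.mk B = y ∧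
      A.1.trace = 0 ∧ B.1.trace = -1 ∧ P (A * B).1.trace := by
  obtain ⟨A₀, rfl⟩ := QuotientGroup.mk_surjective x
  obtain ⟨B₀, rfl⟩ := QuotientGroup.mk_surjective y
  have hA₀ : A₀.1.trace = 0 := Cfsg.Agent.S0809.trace_of_involution h2 A₀ hx
  obtain ⟨B, hB, hBt⟩ : ∃ B : Matrix.SpecialLinearGroup (Fin 2) F,
      (QuotientGroup.mk B : Matrix.ProjectiveSpecialLinearGroup (Fin 2) F) = QuotientGroup.mk B₀ ∧
      B.1.trace = -1 := by
    rcases trace_of_order_three B₀ hy with h | h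
    · exact ⟨-B₀, mk_neg_eq B₀, by rw [trace_neg_sl, h]⟩
    · exact ⟨B₀, rfl, h⟩
  rcases hP (A₀ * B) (by rw [← hB]; rfl) with h | h
  · exact ⟨A₀, B, rfl, hB, hA₀, hBt, h⟩
  · refine ⟨-A₀, B, mk_neg_eq A₀, hB, by rw [trace_neg_sl, hA₀, neg_zero], hBt, ?_⟩
    rw [trace_neg_mul_sl]
    exact h

theorem exists_lift_pair_three [Fintype F] (h2 : (2 : F) ≠ 0)
    (x y : Matrix.ProjectiveSpecialLinearGroup (Fin 2) F) (hx : orderOf x = 2) (hy : orderOf y = 3)
    (hxy : orderOf (x * y) = 3) :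
    ∃ A B : Matrix.SpecialLinearGroup (Fin 2) F, QuotientGroup.mk A = x ∧ QuotientGroup.mk B = y ∧
      A.1.trace = 0 ∧ B.1.trace = -1 ∧ (A * B).1.trace = -1 := by
  apply exists_lift_pair h2 x y hx hy (fun τ => τ = -1)
  intro C hC
  rcases trace_of_order_three C (by rw [hC]; exact hxy) with h | h
  · right
    rw [h]
  · left
    exact h

theorem exists_lift_pair_four [Fintype F] (h2 : (2 : F) ≠ 0)
    (x y : Matrix.ProjectiveSpecialLinearGroup (Fin 2) F) (hx : orderOf x = 2) (hy : orderOf y = 3)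
    (hxy : orderOf (x * y) = 4) :
    ∃ A B : Matrix.SpecialLinearGroup (Fin 2) F, QuotientGroup.mk A = x ∧ QuotientGroup.mk B = y ∧
      A.1.trace = 0 ∧ B.1.trace = -1 ∧ (A * B).1.trace ^ 2 = 2 := by
  apply exists_lift_pair h2 x y hx hy (fun τ => τ ^ 2 = 2)
  intro C hC
  left
  exact trace_sq_of_order_four C (by rw [hC]; exact hxy)

theorem exists_lift_pair_five [Fintype F] (h2 : (2 : F) ≠ 0)
    (x y : Matrix.ProjectiveSpecialLinearGroup (Fin 2) F) (hx : orderOf x = 2) (hy : orderOf y = 3)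
    (hxy : orderOf (x * y) = 5) :
    ∃ A B : Matrix.SpecialLinearGroup (Fin 2) F, QuotientGroup.mk A = x ∧ QuotientGroup.mk B = y ∧
      A.1.trace = 0 ∧ B.1.trace = -1 ∧ (A * B).1.trace ^ 2 + (A * B).1.trace - 1 = 0 := by
  apply exists_lift_pair h2 x y hx hy (fun τ => τ ^ 2 + τ - 1 = 0)
  intro C hC
  rcases trace_of_order_five C (by rw [hC]; exact hxy) with h | h
  · left
    exact h
  · right
    show (-C.1.trace) ^ 2 + (-C.1.trace) - 1 = 0
    linear_combination h

end Cfsg.Agent.Lib.Helper41
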