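import Cfsg.Agent.Lib.Helper41.SL2CentOdd

set_option autoImplicit false

namespace Cfsg.Agent.Lib.Helper41

open Matrix

variable {F : Type*} [Field F]

/-- equality of images in `PSL₂` -/
theorem psl2_mk_eq_iff (U V : Matrix.SpecialLinearGroup (Fin 2) F) :
    (QuotientGroup.mk U : Matrix.ProjectiveSpecialLinearGroup (Fin 2) F) = QuotientGroup.mk V ↔
      V.1 = U.1 ∨ V.1 = -U.1 := by
  rw [QuotientGroup.eq, sl2_mem_center_iff, Matrix.SpecialLinearGroup.coe_mul]
  have h1 : U.1 * (U⁻¹).1 = 1 := by
    rw [← Matrix.SpecialLinearGroup.coe_mul, mul_inv_cancel, Matrix.SpecialLinearGroup.coe_one]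
  have h3 : (U⁻¹).1 * U.1 = 1 := by
    rw [← Matrix.SpecialLinearGroup.coe_mul, inv_mul_cancel, Matrix.SpecialLinearGroup.coe_one]
  constructor
  · rintro (h | h)
    · left
      calc V.1 = (U.1 * (U⁻¹).1) * V.1 := by rw [h1, Matrix.one_mul]
        _ = U.1 := by rw [Matrix.mul_assoc, h, Matrix.mul_one]
    · right
      calc V.1 = (U.1 * (U⁻¹).1) * V.1 := by rw [h1, Matrix.one_mul]
        _ = -U.1 := by rw [Matrix.mul_assoc, h, Matrix.mul_neg, Matrix.mul_one]
  · rintro (h | h)
    · left
      rw [h, h3]
    · right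
      rw [h, Matrix.mul_neg, h3]

/-- membership in the preimage of the centralizer of the image of `A` in `PSL₂` -/
theorem mem_comap_centralizer_iff (A X : Matrix.SpecialLinearGroup (Fin 2) F) :
    X ∈ (Subgroup.centralizer ({(QuotientGroup.mk A :
        Matrix.ProjectiveSpecialLinearGroup (Fin 2) F)} :
        Set (Matrix.ProjectiveSpecialLinearGroup (Fin 2) F))).comap
        (QuotientGroup.mk' (Subgroup.center (Matrix.SpecialLinearGroup (Fin 2) F))) ↔
      (X * A * X⁻¹).1 = A.1 ∨ (X * A * X⁻¹).1 = -A.1 := by
  rw [Subgroup.mem_comap, Subgroup.mem_centralizer_iff, ← psl2_mk_eq_iff]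
  simp only [Set.mem_singleton_iff, forall_eq, QuotientGroup.mk'_apply]
  constructor
  · intro h
    rw [QuotientGroup.mk_mul, QuotientGroup.mk_mul, QuotientGroup.mk_inv, ← h]
    group
  · intro h
    rw [QuotientGroup.mk_mul, QuotientGroup.mk_mul, QuotientGroup.mk_inv] at h
    calc (QuotientGroup.mk A : Matrix.ProjectiveSpecialLinearGroup (Fin 2) F) * QuotientGroup.mk X
        = (QuotientGroup.mk X * QuotientGroup.mk A * (QuotientGroup.mk X)⁻¹) * QuotientGroup.mk X := by
          rw [← h]
      _ = QuotientGroup.mk X * QuotientGroup.mk A := by group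

theorem psl2_index_centralizer_eq_comap (A : Matrix.SpecialLinearGroup (Fin 2) F) :
    (Subgroup.centralizer ({(QuotientGroup.mk A :
        Matrix.ProjectiveSpecialLinearGroup (Fin 2) F)} :
        Set (Matrix.ProjectiveSpecialLinearGroup (Fin 2) F))).index =
    ((Subgroup.centralizer ({(QuotientGroup.mk A :
        Matrix.ProjectiveSpecialLinearGroup (Fin 2) F)} :
        Set (Matrix.ProjectiveSpecialLinearGroup (Fin 2) F))).comap
        (QuotientGroup.mk' (Subgroup.center (Matrix.SpecialLinearGroup (Fin 2) F)))).index :=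
  (Subgroup.index_comap_of_surjective _ (QuotientGroup.mk'_surjective _)).symm

/-- nonzero trace, odd characteristic: the centralizer index in `PSL₂` equals the one in `SL₂` -/
theorem psl2_index_centralizer_of_trace_ne_zero (h2 : (2 : F) ≠ 0)
    (A : Matrix.SpecialLinearGroup (Fin 2) F) (ht : A.1.trace ≠ 0) :
    (Subgroup.centralizer ({(QuotientGroup.mk A :
        Matrix.ProjectiveSpecialLinearGroup (Fin 2) F)} :
        Set (Matrix.ProjectiveSpecialLinearGroup (Fin 2) F))).index =
    (Subgroup.centralizer ({A} : Set (Matrix.SpecialLinearGroup (Fin 2) F))).index := by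
  rw [psl2_index_centralizer_eq_comap]
  congr 1
  ext X
  rw [mem_comap_centralizer_iff, Subgroup.mem_centralizer_iff]
  simp only [Set.mem_singleton_iff, forall_eq]
  constructor
  · rintro (h | h)
    · have h1 : X * A * X⁻¹ = A := Subtype.ext h
      calc A * X = (X * A * X⁻¹) * X := by rw [h1]
        _ = X * A := by group
    · exfalso
      have h1 := trace_conj X A
      rw [h, Matrix.trace_neg] at h1
      apply ht
      have : 2 * A.1.trace = 0 := by linear_combination -h1
      exact (mul_eq_zero.mp this).resolve_left h2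
  · intro h
    left
    have h1 : X * A * X⁻¹ = A := by
      rw [← h]
      group
    rw [h1]

/-- trace zero, odd characteristic, finite field: the centralizer index in `PSL₂` is half the
one in `SL₂` -/
theorem psl2_index_centralizer_of_trace_eq_zero [Fintype F] (h2 : (2 : F) ≠ 0)
    (A : Matrix.SpecialLinearGroup (Fin 2) F) (ht : A.1.trace = 0) :
    2 * (Subgroup.centralizer ({(QuotientGroup.mk A :
        Matrix.ProjectiveSpecialLinearGroup (Fin 2) F)} :
        Set (Matrix.ProjectiveSpecialLinearGroup (Fin 2) F))).index =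
    (Subgroup.centralizer ({A} : Set (Matrix.SpecialLinearGroup (Fin 2) F))).index := by
  classical
  rw [psl2_index_centralizer_eq_comap]
  obtain ⟨D, hD⟩ : ∃ D : Subgroup (Matrix.SpecialLinearGroup (Fin 2) F),
      D = (Subgroup.centralizer ({(QuotientGroup.mk A :
        Matrix.ProjectiveSpecialLinearGroup (Fin 2) F)} :
        Set (Matrix.ProjectiveSpecialLinearGroup (Fin 2) F))).comap
        (QuotientGroup.mk' (Subgroup.center (Matrix.SpecialLinearGroup (Fin 2) F))) := ⟨_, rfl⟩
  rw [← hD]
  have hDmem : ∀ X : Matrix.SpecialLinearGroup (Fin 2) F,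
      X ∈ D ↔ (X * A * X⁻¹).1 = A.1 ∨ (X * A * X⁻¹).1 = -A.1 := by
    intro X
    rw [hD]
    exact mem_comap_centralizer_iff A X
  obtain ⟨C, hC⟩ : ∃ C : Subgroup (Matrix.SpecialLinearGroup (Fin 2) F),
      C = Subgroup.centralizer ({A} : Set (Matrix.SpecialLinearGroup (Fin 2) F)) := ⟨_, rfl⟩
  rw [← hC]
  have hCmem : ∀ X : Matrix.SpecialLinearGroup (Fin 2) F, X ∈ C ↔ X * A * X⁻¹ = A := by
    intro X
    rw [hC, Subgroup.mem_centralizer_iff]
    simp only [Set.mem_singleton_iff, forall_eq]
    constructor
    · intro h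
      rw [← h]
      group
    · intro h
      calc A * X = (X * A * X⁻¹) * X := by rw [h]
        _ = X * A := by group
  have h4 : (4 : F) ≠ 0 := by
    have : (4 : F) = 2 * 2 := by norm_num
    rw [this]
    exact mul_ne_zero h2 h2
  obtain ⟨T, hT, -⟩ := exists_neg A
  obtain ⟨P, hP⟩ := conj_of_trace_eq h2 A T (by rw [ht, mul_zero]; exact h4.symm)
    (by rw [hT, Matrix.trace_neg, ht, neg_zero])
  have hTA : T ≠ A := by
    intro h
    rw [h] at hT
    have h1 : (2 : F) • A.1 = 0 := by
      rw [two_smul]
      nth_rewrite 1 [hT]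
      exact neg_add_cancel _
    have h3 : A.1 = 0 := by
      rcases smul_eq_zero.mp h1 with h | h
      · exact absurd h h2
      · exact h
    have hdet := A.det_coe
    rw [h3, Matrix.det_zero] at hdet
    exact zero_ne_one hdet
  have hcardD : Nat.card D = 2 * Nat.card C := by
    have hcb : Nat.card (C × Bool) = 2 * Nat.card C := by
      rw [Nat.card_prod, Nat.card_eq_fintype_card (α := Bool), Fintype.card_bool, mul_comm]
    rw [← hcb]
    symm
    have hmem : ∀ x : C × Bool, (if x.2 then P * x.1.1 else x.1.1) ∈ D := by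
      rintro ⟨⟨c, hc⟩, b⟩
      rw [hDmem]
      have hc' := (hCmem c).mp hc
      cases b
      · left
        simp only [Bool.false_eq_true, if_false]
        rw [hc']
      · right
        simp only [if_true]
        have e : P * c * A * (P * c)⁻¹ = P * (c * A * c⁻¹) * P⁻¹ := by group
        rw [e, hc', hP, hT]
    apply Nat.card_congr
    refine Equiv.ofBijective (fun x : C × Bool => (⟨_, hmem x⟩ : D)) ⟨?_, ?_⟩
    · rintro ⟨⟨c, hc⟩, b⟩ ⟨⟨c', hc'⟩, b'⟩ hxx
      have h0 := congrArg Subtype.val hxx
      simp only at h0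
      have hcA := (hCmem c).mp hc
      have hcA' := (hCmem c').mp hc'
      cases b <;> cases b'
      · simp only [Bool.false_eq_true, if_false] at h0
        subst h0
        rfl
      · exfalso
        simp only [Bool.false_eq_true, if_false, if_true] at h0
        apply hTA
        have hPc : P = c * c'⁻¹ := by rw [h0]; group
        have hPC : P ∈ C := by
          rw [hPc]
          exact C.mul_mem hc (C.inv_mem hc')
        have h5 := (hCmem P).mp hPC
        rw [hP] at h5
        exact h5
      · exfalso
        simp only [Bool.false_eq_true, if_false, if_true] at h0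
        apply hTA
        have hPc : P = c' * c⁻¹ := by rw [← h0]; group
        have hPC : P ∈ C := by
          rw [hPc]
          exact C.mul_mem hc' (C.inv_mem hc)
        have h5 := (hCmem P).mp hPC
        rw [hP] at h5
        exact h5
      · simp only [if_true] at h0
        have := mul_left_cancel h0
        subst this
        rfl
    · rintro ⟨X, hX⟩
      rcases (hDmem X).mp hX with h | h
      · have hXC : X ∈ C := (hCmem X).mpr (Subtype.ext h)
        refine ⟨(⟨X, hXC⟩, false), ?_⟩
        apply Subtype.ext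
        simp
      · have hXT : X * A * X⁻¹ = T := Subtype.ext (by rw [h, hT])
        have hXC : P⁻¹ * X ∈ C := by
          rw [hCmem]
          have e : P⁻¹ * X * A * (P⁻¹ * X)⁻¹ = P⁻¹ * (X * A * X⁻¹) * P := by group
          rw [e, hXT, ← hP]
          group
        refine ⟨(⟨P⁻¹ * X, hXC⟩, true), ?_⟩
        apply Subtype.ext
        simp
  have hiD := Subgroup.index_mul_card D
  have hiC := Subgroup.index_mul_card C
  rw [hcardD] at hiD
  have hCpos : 0 < Nat.card C := Nat.card_pos
  apply Nat.eq_of_mul_eq_mul_right hCpos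
  rw [hiC, ← hiD]
  ring

end Cfsg.Agent.Lib.Helper41
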