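import Mathlib
import Cfsg.Agent.Lib.Helper89.DicksonLie
import Cfsg.Agent.Lib.Helper89.DicksonLieB
import Cfsg.Agent.Lib.Helper98.PSL2Even
import Cfsg.Agent.Lib.Helper41.PSL2Rigid
import Cfsg.Agent.Lib.Helper41.PSL2Order
import Cfsg.Agent.Lib.Helper59.SubfieldPSL

set_option autoImplicit false

/-!
Subfield subgroups `PSL₂(K)` and `PGL₂(K)` of `PSL₂(F)`: orders, and the degree of `F` over `K`
when they are maximal.
-/

namespace Cfsg.Agent.Lib.Helper41

open Matrix Cfsg.Agent.Lib.Helper5.SL2 Cfsg.Agent.Lib.Helper89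

section frob

variable (F : Type*) [Field F] (p : ℕ) [Fact p.Prime] [CharP F p]

/-- the subfield of fixed points of `x ↦ x ^ (p ^ s)` -/
def frobFix (s : ℕ) : Subfield F where
  carrier := {x | x ^ (p ^ s) = x}
  mul_mem' := by
    intro x y hx hy
    have hx' : x ^ (p ^ s) = x := hx
    have hy' : y ^ (p ^ s) = y := hy
    show (x * y) ^ (p ^ s) = x * y
    rw [mul_pow, hx', hy']
  one_mem' := by
    show (1 : F) ^ (p ^ s) = 1
    exact one_pow _
  add_mem' := by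
    intro x y hx hy
    have hx' : x ^ (p ^ s) = x := hx
    have hy' : y ^ (p ^ s) = y := hy
    show (x + y) ^ (p ^ s) = x + y
    rw [add_pow_char_pow, hx', hy']
  zero_mem' := by
    show (0 : F) ^ (p ^ s) = 0
    exact zero_pow (pow_ne_zero _ (Fact.out : p.Prime).ne_zero)
  neg_mem' := by
    intro x hx
    have hx' : x ^ (p ^ s) = x := hx
    show (-x) ^ (p ^ s) = -x
    have e : -x = 0 - x := by ring
    rw [e, sub_pow_char_pow, hx', zero_pow (pow_ne_zero _ (Fact.out : p.Prime).ne_zero)]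
  inv_mem' := by
    intro x hx
    have hx' : x ^ (p ^ s) = x := hx
    show (x⁻¹) ^ (p ^ s) = x⁻¹
    rw [inv_pow, hx']

theorem mem_frobFix (s : ℕ) (x : F) : x ∈ frobFix F p s ↔ x ^ (p ^ s) = x := Iff.rfl

theorem card_frobFix_le [Fintype F] (s : ℕ) (hs : s ≠ 0) : Nat.card (frobFix F p s) ≤ p ^ s := by
  classical
  have hp1 : 1 < p := (Fact.out : p.Prime).one_lt
  have hpoly : (Polynomial.X ^ p ^ s - Polynomial.X : Polynomial F) ≠ 0 :=
    FiniteField.X_pow_card_pow_sub_X_ne_zero F hs hp1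
  have hdeg := FiniteField.X_pow_card_pow_sub_X_natDegree_eq F hs hp1
  haveI : Fintype (frobFix F p s) := Fintype.ofFinite _
  have hsub : (Finset.map (⟨fun x : frobFix F p s => x.1, Subtype.val_injective⟩ :
      frobFix F p s ↪ F) Finset.univ).val ⊆
      (Polynomial.X ^ p ^ s - Polynomial.X : Polynomial F).roots := by
    intro x hx
    rw [Finset.mem_val, Finset.mem_map] at hx
    obtain ⟨y, -, rfl⟩ := hx
    rw [Polynomial.mem_roots hpoly, Polynomial.IsRoot.def]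
    simp only [Polynomial.eval_sub, Polynomial.eval_pow, Polynomial.eval_X]
    exact sub_eq_zero.mpr y.2
  have h1 := Polynomial.card_le_degree_of_subset_roots hsub
  rw [Finset.card_map, Finset.card_univ, hdeg] at h1
  rw [Nat.card_eq_fintype_card]
  exact h1

/-- a model in `Type` of the fixed field of a power of the Frobenius -/
theorem exists_frob_model [Fintype F] (s : ℕ) (hs : s ≠ 0) :
    ∃ (K : Type) (_ : Field K) (_ : Fintype K) (ι : K →+* F) (m : ℕ),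
      Fintype.card K ^ m = Fintype.card F ∧ Fintype.card K ≤ p ^ s ∧
      (∀ y : K, (ι y) ^ (p ^ s) = ι y) ∧ ∀ x : F, x ^ (p ^ s) = x → ∃ y, ι y = x := by
  obtain ⟨K, i1, i2, ι, m, hm, hcard, hmem, hsurj⟩ :=
    Cfsg.Agent.Lib.Helper89.exists_small_field (frobFix F p s)
  refine ⟨K, i1, i2, ι, m, hm, ?_, fun y => (mem_frobFix F p s _).mp (hmem y),
    fun x hx => hsurj x ((mem_frobFix F p s x).mpr hx)⟩
  rw [hcard]
  exact card_frobFix_le F p s hs

variable {F}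

/-- an intermediate fixed field lies strictly between a subfield and the whole field -/
theorem frobFix_between [Fintype F] (K₁ : Subfield F) (q₀ j d b : ℕ)
    (hK₁ : Nat.card K₁ = q₀) (hf1 : ∀ c ∈ K₁, c ^ q₀ = c) (hj : q₀ = p ^ j) (hq₀ : 2 ≤ q₀)
    (hm : q₀ ^ (d * b) = Fintype.card F) (hd : 2 ≤ d) (hb : 2 ≤ b) :
    K₁ ≤ frobFix F p (j * d) ∧ q₀ < Nat.card (frobFix F p (j * d)) ∧
      Nat.card (frobFix F p (j * d)) < Fintype.card F := by
  classical
  obtain ⟨K₂, hK₂def⟩ : ∃ K₂ : Subfield F, K₂ = frobFix F p (j * d) := ⟨_, rfl⟩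
  rw [← hK₂def]
  have hK₂mem : ∀ x : F, x ∈ K₂ ↔ x ^ (q₀ ^ d) = x := by
    intro x
    rw [hK₂def, mem_frobFix, pow_mul, ← hj]
  have hK₁₂ : K₁ ≤ K₂ := fun c hc =>
    (hK₂mem c).mpr (Cfsg.Agent.Lib.Helper98.pow_pow_fix c q₀ (hf1 c hc) d)
  have hF1 : 1 < Fintype.card F := Fintype.one_lt_card
  have hdlt : d < d * b := by nlinarith
  have hq1lt : q₀ ^ d < Fintype.card F := by
    rw [← hm]
    exact Nat.pow_lt_pow_right (by omega) hdlt
  have hq1gt : q₀ < q₀ ^ d := by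
    calc q₀ = q₀ ^ 1 := (pow_one q₀).symm
      _ < q₀ ^ d := Nat.pow_lt_pow_right (by omega) (by omega)
  obtain ⟨g, hg⟩ := IsCyclic.exists_generator (α := Fˣ)
  have hog : orderOf g = Fintype.card F - 1 := by
    rw [orderOf_eq_card_of_forall_mem_zpowers hg, Nat.card_units, Nat.card_eq_fintype_card]
  have hkey : ∀ (u : Fˣ) (n : ℕ), 1 ≤ n → (u : F) ^ n = (u : F) → u ^ (n - 1) = 1 := by
    intro u n hn h
    have h1 : u ^ n = u := Units.ext (by rw [Units.val_pow_eq_pow_val]; exact h)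
    obtain ⟨n', rfl⟩ : ∃ n', n = n' + 1 := ⟨n - 1, by omega⟩
    rw [Nat.add_sub_cancel]
    rw [pow_succ] at h1
    exact mul_eq_right.mp h1
  have hx : (g : F) ∉ K₂ := by
    intro hx
    rw [hK₂mem] at hx
    have h1 := hkey g (q₀ ^ d) (by omega) hx
    have h3 := Nat.le_of_dvd (by omega) (orderOf_dvd_of_pow_eq_one h1)
    omega
  obtain ⟨kk, hkk⟩ : q₀ ^ d - 1 ∣ Fintype.card F - 1 := by
    have h := Nat.sub_dvd_pow_sub_pow (q₀ ^ d) 1 b
    rw [one_pow, ← pow_mul, hm] at h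
    exact h
  have hkkpos : 0 < kk := by
    rcases Nat.eq_zero_or_pos kk with h | h
    · rw [h, mul_zero] at hkk
      omega
    · exact h
  have hy₂ : ((g ^ kk : Fˣ) : F) ∈ K₂ := by
    rw [hK₂mem]
    have h1 : (g ^ kk) ^ (q₀ ^ d - 1) = 1 := by
      rw [← pow_mul, mul_comm, ← hkk, ← hog]
      exact pow_orderOf_eq_one g
    have h3 : (g ^ kk) ^ (q₀ ^ d) = g ^ kk := by
      obtain ⟨n', hn'⟩ : ∃ n', q₀ ^ d = n' + 1 := ⟨q₀ ^ d - 1, by omega⟩
      rw [hn'] at h1 ⊢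
      rw [Nat.add_sub_cancel] at h1
      rw [pow_succ, h1, one_mul]
    have h4 := congrArg (fun u : Fˣ => (u : F)) h3
    simpa using h4
  have hy₁ : ((g ^ kk : Fˣ) : F) ∉ K₁ := by
    intro hy
    have h1 := hkey (g ^ kk) q₀ (by omega) (hf1 _ hy)
    rw [← pow_mul] at h1
    have h3 := orderOf_dvd_of_pow_eq_one h1
    rw [hog, hkk, mul_comm] at h3
    have h4 := Nat.dvd_of_mul_dvd_mul_left hkkpos h3
    have h5 := Nat.le_of_dvd (by omega) h4
    omega
  have hFin₁ : Fintype K₁ := Fintype.ofFinite K₁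
  have hcK₁ : Fintype.card K₁ = q₀ := by
    rw [← Nat.card_eq_fintype_card]
    exact hK₁
  have hFin₂ : Fintype K₂ := Fintype.ofFinite K₂
  have hcK₂ : Fintype.card K₂ = Nat.card K₂ := (Nat.card_eq_fintype_card).symm
  refine ⟨hK₁₂, ?_, ?_⟩
  · rw [← hcK₁, ← hcK₂]
    refine Fintype.card_lt_of_injective_of_notMem (fun c : K₁ => (⟨c.1, hK₁₂ c.2⟩ : K₂))
      (fun c c' h => Subtype.ext (show (c : F) = (c' : F) from
        congrArg (fun z : K₂ => (z : F)) h)) (b := ⟨_, hy₂⟩) ?_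
    rintro ⟨c, hc⟩
    have h : (c : F) = ((g ^ kk : Fˣ) : F) := congrArg Subtype.val hc
    exact hy₁ (h ▸ c.2)
  · rw [← hcK₂]
    refine Fintype.card_lt_of_injective_of_notMem (fun c : K₂ => (c : F))
      Subtype.val_injective (b := (g : F)) ?_
    rintro ⟨c, hc⟩
    have h : (c : F) = (g : F) := hc
    exact hx (h ▸ c.2)

end frob

section arith

theorem pgl_card_ne (q₀ m : ℕ) (hq₀ : 3 ≤ q₀) :
    2 * (q₀ * (q₀ ^ 2 - 1)) ≠ q₀ ^ m * ((q₀ ^ m) ^ 2 - 1) := by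
  have h9 : 9 ≤ q₀ ^ 2 := by nlinarith
  have hpos : 0 < q₀ * (q₀ ^ 2 - 1) := Nat.mul_pos (by omega) (by omega)
  rcases Nat.lt_or_ge m 2 with hlt | hge
  · interval_cases m
    · simp
      omega
    · rw [pow_one]
      omega
  · have h1 : q₀ ^ 2 ≤ q₀ ^ m := Nat.pow_le_pow_right (by omega) hge
    have h2 : 2 * q₀ < q₀ ^ 2 := by nlinarith
    have h3 := Cfsg.Agent.Lib.Helper98.mul_sq_sub_one_lt (x := 2 * q₀) (y := q₀ ^ 2) (by omega) h2
    have h4 : q₀ ^ 2 * ((q₀ ^ 2) ^ 2 - 1) ≤ q₀ ^ m * ((q₀ ^ m) ^ 2 - 1) :=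
      Nat.mul_le_mul h1 (Nat.sub_le_sub_right (Nat.pow_le_pow_left h1 2) 1)
    have h5 : 2 * (q₀ * (q₀ ^ 2 - 1)) ≤ 2 * q₀ * ((2 * q₀) ^ 2 - 1) := by
      rw [mul_assoc]
      apply Nat.mul_le_mul_left
      apply Nat.mul_le_mul_left
      apply Nat.sub_le_sub_right
      nlinarith
    omega

theorem two_ne_zero_of_odd_card {F : Type*} [Field F] [Fintype F] (hodd : Odd (Fintype.card F)) :
    (2 : F) ≠ 0 := by
  intro h
  have hchar : ringChar F = 2 := by
    have : CharP F 2 := by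
      apply CharTwo.of_one_ne_zero_of_two_eq_zero one_ne_zero h
    exact ringChar.eq F 2
  have := FiniteField.even_card_of_char_two hchar
  exact (Nat.not_even_iff_odd.mpr hodd) (Nat.even_iff.mpr this)

end arith

section lie

variable {F : Type*} [Field F] {K : Type*} [Field K]

/-- the homomorphism `SL₂(K) → PSL₂(F)` attached to a field embedding and a scaling -/
def lieHom (ι : K →+* F) (a : F) (ha : a ≠ 0) :
    Matrix.SpecialLinearGroup (Fin 2) K →* Matrix.ProjectiveSpecialLinearGroup (Fin 2) F :=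
  (QuotientGroup.mk' _).comp (psi0 ι a ha)

theorem lieHom_apply (ι : K →+* F) (a : F) (ha : a ≠ 0) (Y : Matrix.SpecialLinearGroup (Fin 2) K) :
    lieHom ι a ha Y = QuotientGroup.mk (psi0 ι a ha Y) := rfl

/-- the subgroup `PSL₂(K)` of `PSL₂(F)` -/
def liePSL (ι : K →+* F) (a : F) (ha : a ≠ 0) :
    Subgroup (Matrix.ProjectiveSpecialLinearGroup (Fin 2) F) := (lieHom ι a ha).range

theorem lieHom_ker (ι : K →+* F) (a : F) (ha : a ≠ 0) :
    (lieHom ι a ha).ker = Subgroup.center (Matrix.SpecialLinearGroup (Fin 2) K) := by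
  ext Y
  rw [MonoidHom.mem_ker, lieHom_apply, QuotientGroup.eq_one_iff, psi0_mem_center_iff]

theorem liePSL_equiv (ι : K →+* F) (a : F) (ha : a ≠ 0) :
    Nonempty (liePSL ι a ha ≃* Matrix.ProjectiveSpecialLinearGroup (Fin 2) K) :=
  ⟨((QuotientGroup.quotientMulEquivOfEq (lieHom_ker ι a ha)).symm.trans
    (QuotientGroup.quotientKerEquivRange (lieHom ι a ha))).symm⟩

theorem card_liePSL [Fintype K] (ι : K →+* F) (a : F) (ha : a ≠ 0) (h2 : (2 : F) ≠ 0) :
    Nat.card (liePSL ι a ha) * 2 = Fintype.card K * (Fintype.card K ^ 2 - 1) := by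
  obtain ⟨e⟩ := liePSL_equiv ι a ha
  have h2K : (2 : K) ≠ 0 := by
    intro h
    apply h2
    rw [← map_ofNat ι 2, h, map_zero]
  have h := card_psl2_mul_gcd (F := K)
  rw [(gcd_two_card_sub_one (F := K)).1 h2K] at h
  rw [Nat.card_congr e.toEquiv]
  exact h

theorem liePSL_le (ι : K →+* F) (a : F) (ha : a ≠ 0)
    (H : Subgroup (Matrix.ProjectiveSpecialLinearGroup (Fin 2) F))
    (hu : ∀ b : K, (QuotientGroup.mk (uSL (a * ι b)) :
      Matrix.ProjectiveSpecialLinearGroup (Fin 2) F) ∈ H)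
    (hl : (QuotientGroup.mk (lSL a⁻¹) : Matrix.ProjectiveSpecialLinearGroup (Fin 2) F) ∈ H) :
    liePSL ι a ha ≤ H := by
  rintro _ ⟨Y, rfl⟩
  exact psi0_mem ι a ha (H.comap (QuotientGroup.mk' _)) hu hl Y

/-- the subgroup `PGL₂(K)` of `PSL₂(F)` -/
noncomputable def liePGL (ι : K →+* F) (a : F) (ha : a ≠ 0) (s : GL (Fin 2) K → Fˣ)
    (hs : ∀ g : GL (Fin 2) K,
      ((s g : Fˣ) : F) ^ 2 = ι (Matrix.det (g : Matrix (Fin 2) (Fin 2) K))) :
    Subgroup (Matrix.ProjectiveSpecialLinearGroup (Fin 2) F) := (pglHom ι a ha s hs).range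

theorem liePGL_equiv (ι : K →+* F) (a : F) (ha : a ≠ 0) (s : GL (Fin 2) K → Fˣ)
    (hs : ∀ g : GL (Fin 2) K,
      ((s g : Fˣ) : F) ^ 2 = ι (Matrix.det (g : Matrix (Fin 2) (Fin 2) K))) :
    Nonempty (liePGL ι a ha s hs ≃* Matrix.ProjGenLinGroup (Fin 2) K) :=
  ⟨((QuotientGroup.quotientMulEquivOfEq (pglHom_ker ι a ha s hs)).symm.trans
    (QuotientGroup.quotientKerEquivRange (pglHom ι a ha s hs))).symm⟩

theorem card_liePGL [Fintype K] (ι : K →+* F) (a : F) (ha : a ≠ 0) (s : GL (Fin 2) K → Fˣ)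
    (hs : ∀ g : GL (Fin 2) K,
      ((s g : Fˣ) : F) ^ 2 = ι (Matrix.det (g : Matrix (Fin 2) (Fin 2) K))) :
    Nat.card (liePGL ι a ha s hs) = Fintype.card K * (Fintype.card K ^ 2 - 1) := by
  obtain ⟨e⟩ := liePGL_equiv ι a ha s hs
  rw [Nat.card_congr e.toEquiv, Cfsg.Agent.Lib.Helper59.card_pgl2]

theorem liePSL_le_liePGL (ι : K →+* F) (a : F) (ha : a ≠ 0) (s : GL (Fin 2) K → Fˣ)
    (hs : ∀ g : GL (Fin 2) K,
      ((s g : Fˣ) : F) ^ 2 = ι (Matrix.det (g : Matrix (Fin 2) (Fin 2) K))) :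
    liePSL ι a ha ≤ liePGL ι a ha s hs := by
  rintro _ ⟨Y, rfl⟩
  refine ⟨Matrix.SpecialLinearGroup.toGL Y, ?_⟩
  rw [pglHom_apply, lieHom_apply]
  symm
  apply Cfsg.Agent.Lib.Helper59.psl_mk_eq_of_smul _ _
    ((s (Matrix.SpecialLinearGroup.toGL Y) : Fˣ) : F)⁻¹
  rw [pglB_coe, psi0_coe]
  rfl

theorem exists_sqrtSel (ι : K →+* F) (hsq : ∀ x : K, x ≠ 0 → IsSquare (ι x)) :
    ∃ s : GL (Fin 2) K → Fˣ, ∀ g : GL (Fin 2) K,
      ((s g : Fˣ) : F) ^ 2 = ι (Matrix.det (g : Matrix (Fin 2) (Fin 2) K)) := by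
  have h : ∀ g : GL (Fin 2) K, ∃ t : Fˣ,
      (t : F) ^ 2 = ι (Matrix.det (g : Matrix (Fin 2) (Fin 2) K)) := by
    intro g
    have hd : Matrix.det (g : Matrix (Fin 2) (Fin 2) K) ≠ 0 :=
      (Matrix.GeneralLinearGroup.det g).ne_zero
    obtain ⟨r, hr⟩ := hsq _ hd
    have hr0 : r ≠ 0 := by
      rintro rfl
      rw [mul_zero] at hr
      exact hd (ι.injective (by rw [hr, map_zero]))
    exact ⟨Units.mk0 r hr0, by rw [Units.val_mk0, pow_two, hr]⟩
  choose s hs using h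
  exact ⟨s, hs⟩

/-- a matrix with entries in a subfield (after the diagonal scaling) lies in the subfield
subgroup -/
theorem mk_mem_liePSL_subfield (K₂ : Subfield F) (a : F) (ha : a ≠ 0)
    (X : Matrix.SpecialLinearGroup (Fin 2) F)
    (h00 : X.1 0 0 ∈ K₂) (h01 : a⁻¹ * X.1 0 1 ∈ K₂) (h10 : a * X.1 1 0 ∈ K₂) (h11 : X.1 1 1 ∈ K₂) :
    (QuotientGroup.mk X : Matrix.ProjectiveSpecialLinearGroup (Fin 2) F) ∈
      liePSL K₂.subtype a ha := by
  have hdet := sl2_det_entries X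
  obtain ⟨Y, hY00, hY01, hY10, hY11⟩ : ∃ Y : Matrix.SpecialLinearGroup (Fin 2) K₂,
      ((Y.1 0 0 : K₂) : F) = X.1 0 0 ∧ ((Y.1 0 1 : K₂) : F) = a⁻¹ * X.1 0 1 ∧
      ((Y.1 1 0 : K₂) : F) = a * X.1 1 0 ∧ ((Y.1 1 1 : K₂) : F) = X.1 1 1 := by
    refine ⟨⟨!![⟨X.1 0 0, h00⟩, ⟨a⁻¹ * X.1 0 1, h01⟩; ⟨a * X.1 1 0, h10⟩, ⟨X.1 1 1, h11⟩], ?_⟩,
      rfl, rfl, rfl, rfl⟩
    rw [Matrix.det_fin_two_of]
    apply Subtype.ext
    show X.1 0 0 * X.1 1 1 - a⁻¹ * X.1 0 1 * (a * X.1 1 0) = 1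
    field_simp
    linear_combination hdet
  refine ⟨Y, ?_⟩
  rw [lieHom_apply]
  congr 1
  apply sl_ext
  · rw [psi0_00]
    exact hY00
  · rw [psi0_01]
    show a * ((Y.1 0 1 : K₂) : F) = X.1 0 1
    rw [hY01]
    field_simp
  · rw [psi0_10]
    show a⁻¹ * ((Y.1 1 0 : K₂) : F) = X.1 1 0
    rw [hY10]
    field_simp
  · rw [psi0_11]
    exact hY11

end lie

section term

variable {F : Type*} [Field F] [Fintype F] {K : Type*} [Field K] [Fintype K]

theorem card_psl2_odd (hodd : Odd (Fintype.card F)) :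
    Nat.card (Matrix.ProjectiveSpecialLinearGroup (Fin 2) F) * 2 =
      Fintype.card F * (Fintype.card F ^ 2 - 1) := by
  have h := card_psl2_mul_gcd (F := F)
  rw [(gcd_two_card_sub_one (F := F)).1 (two_ne_zero_of_odd_card hodd)] at h
  exact h

theorem card_fieldRange (ι : K →+* F) : Nat.card ι.fieldRange = Fintype.card K := by
  rw [← Nat.card_eq_fintype_card]
  exact (Nat.card_congr ι.rangeRestrictFieldEquiv.toEquiv).symm

theorem pow_card_of_mem_fieldRange (ι : K →+* F) (c : F) (hc : c ∈ ι.fieldRange) :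
    c ^ Fintype.card K = c := by
  rw [RingHom.mem_fieldRange] at hc
  obtain ⟨b, rfl⟩ := hc
  rw [← map_pow, FiniteField.pow_card]

theorem odd_card_of_pow {m : ℕ} (hodd : Odd (Fintype.card F))
    (hm : Fintype.card K ^ m = Fintype.card F) : Odd (Fintype.card K) ∧ m ≠ 0 := by
  have hF1 : 1 < Fintype.card F := Fintype.one_lt_card
  have hm0 : m ≠ 0 := by
    rintro rfl
    rw [pow_zero] at hm
    omega
  rw [← hm] at hodd
  exact ⟨(Nat.odd_pow_iff hm0).mp hodd, hm0⟩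

/-- if the subfield subgroup `PSL₂(K)` is maximal, the degree of `F` over `K` is an odd prime -/
theorem liePSL_coatom_prime (p : ℕ) [Fact p.Prime] [CharP F p]
    (hodd : Odd (Fintype.card F)) (ι : K →+* F) (a : F) (ha : a ≠ 0) (m : ℕ)
    (hm : Fintype.card K ^ m = Fintype.card F) (hM : IsCoatom (liePSL ι a ha)) :
    m.Prime ∧ Odd m := by
  classical
  have hp : p.Prime := Fact.out
  have h2 : (2 : F) ≠ 0 := two_ne_zero_of_odd_card hodd
  have hG := card_psl2_odd hodd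
  have hL := card_liePSL ι a ha h2
  have hF1 : 1 < Fintype.card F := Fintype.one_lt_card
  have hK1 : 1 < Fintype.card K := Fintype.one_lt_card
  obtain ⟨hq₀odd, hm0⟩ := odd_card_of_pow hodd hm
  have hq₀3 : 3 ≤ Fintype.card K := by
    obtain ⟨k, hk⟩ := hq₀odd
    omega
  have hm1 : m ≠ 1 := by
    rintro rfl
    rw [pow_one] at hm
    apply hM.1
    rw [← Subgroup.card_eq_iff_eq_top]
    have : Nat.card (liePSL ι a ha) * 2 =
        Nat.card (Matrix.ProjectiveSpecialLinearGroup (Fin 2) F) * 2 := by rw [hL, hG, hm]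
    omega
  by_cases hme : Even m
  · exfalso
    obtain ⟨s, hs⟩ := exists_sqrtSel ι
      (fun x hx => Cfsg.Agent.Lib.Helper59.isSquare_map_of_even ι hodd m hme hm x hx)
    have hle := liePSL_le_liePGL ι a ha s hs
    have hcP := card_liePGL ι a ha s hs
    have hne : liePGL ι a ha s hs ≠ ⊤ := by
      intro h
      rw [h, Subgroup.card_top] at hcP
      apply pgl_card_ne (Fintype.card K) m hq₀3
      rw [hm, ← hG, hcP, mul_comm]
    have heq := (hM.le_iff_eq hne).mp hle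
    rw [heq] at hcP
    have hpos : 0 < Nat.card (liePSL ι a ha) := Nat.card_pos
    omega
  · rw [Nat.not_even_iff_odd] at hme
    by_cases hmp : m.Prime
    · exact ⟨hmp, hme⟩
    exfalso
    have hge : 2 ≤ m := by omega
    obtain ⟨d, hd, hd2, hdlt⟩ := Nat.exists_dvd_of_not_prime2 hge hmp
    obtain ⟨b, rfl⟩ := hd
    have hb2 : 2 ≤ b := by
      by_contra hcon
      push Not at hcon
      have : d * b ≤ d * 1 := Nat.mul_le_mul_left d (by omega)
      omega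
    obtain ⟨j, hj⟩ : ∃ j, Fintype.card K = p ^ j := by
      haveI : CharP K p := RingHom.charP ι ι.injective p
      obtain ⟨n, -, hn⟩ := FiniteField.card K p
      exact ⟨n, hn⟩
    obtain ⟨h12, hlt1, hlt2⟩ := frobFix_between p ι.fieldRange (Fintype.card K) j d b
      (card_fieldRange ι) (pow_card_of_mem_fieldRange ι) hj (by omega) hm hd2 hb2
    obtain ⟨K₂, hK₂⟩ : ∃ K₂ : Subfield F, K₂ = frobFix F p (j * d) := ⟨_, rfl⟩
    rw [← hK₂] at h12 hlt1 hlt2
    haveI : Fintype K₂ := Fintype.ofFinite K₂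
    have hL₂ := card_liePSL K₂.subtype a ha h2
    rw [← Nat.card_eq_fintype_card] at hL₂
    have hle : liePSL ι a ha ≤ liePSL K₂.subtype a ha := by
      apply liePSL_le
      · intro b'
        refine ⟨uSL (⟨ι b', h12 (RingHom.mem_fieldRange_self ι b')⟩ : K₂), ?_⟩
        rw [lieHom_apply, psi0_uSL]
        rfl
      · refine ⟨lSL (1 : K₂), ?_⟩
        rw [lieHom_apply, psi0_lSL, map_one, mul_one]
    have hne : liePSL K₂.subtype a ha ≠ ⊤ := by
      intro h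
      rw [h, Subgroup.card_top, hG] at hL₂
      have := Cfsg.Agent.Lib.Helper98.mul_sq_sub_one_lt (by omega) hlt2
      omega
    have heq := (hM.le_iff_eq hne).mp hle
    rw [heq, hL] at hL₂
    have := Cfsg.Agent.Lib.Helper98.mul_sq_sub_one_lt (by omega) hlt1
    omega

/-- if the subfield subgroup `PGL₂(K)` is maximal, `F` is quadratic over `K` -/
theorem liePGL_coatom_two (p : ℕ) [Fact p.Prime] [CharP F p]
    (hodd : Odd (Fintype.card F)) (ι : K →+* F) (a : F) (ha : a ≠ 0) (s : GL (Fin 2) K → Fˣ)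
    (hs : ∀ g : GL (Fin 2) K,
      ((s g : Fˣ) : F) ^ 2 = ι (Matrix.det (g : Matrix (Fin 2) (Fin 2) K))) (m : ℕ)
    (hm : Fintype.card K ^ m = Fintype.card F) (hM : IsCoatom (liePGL ι a ha s hs)) : m = 2 := by
  classical
  have hp : p.Prime := Fact.out
  have h2 : (2 : F) ≠ 0 := two_ne_zero_of_odd_card hodd
  have hG := card_psl2_odd hodd
  have hcP := card_liePGL ι a ha s hs
  have hF1 : 1 < Fintype.card F := Fintype.one_lt_card
  have hK1 : 1 < Fintype.card K := Fintype.one_lt_card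
  obtain ⟨hq₀odd, hm0⟩ := odd_card_of_pow hodd hm
  have hq₀3 : 3 ≤ Fintype.card K := by
    obtain ⟨k, hk⟩ := hq₀odd
    omega
  obtain ⟨e⟩ := liePGL_equiv ι a ha s hs
  have hme : Even m := Cfsg.Agent.Lib.Helper59.even_of_pgl2_subgroup hodd m hm _ e
  by_contra hm2
  obtain ⟨b, hb⟩ := hme
  have hb2 : 2 ≤ b := by omega
  have hmdb : m = 2 * b := by omega
  rw [hmdb] at hm
  obtain ⟨j, hj⟩ : ∃ j, Fintype.card K = p ^ j := by
    haveI : CharP K p := RingHom.charP ι ι.injective p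
    obtain ⟨n, -, hn⟩ := FiniteField.card K p
    exact ⟨n, hn⟩
  obtain ⟨h12, hlt1, hlt2⟩ := frobFix_between p ι.fieldRange (Fintype.card K) j 2 b
    (card_fieldRange ι) (pow_card_of_mem_fieldRange ι) hj (by omega) hm (le_refl 2) hb2
  obtain ⟨K₂, hK₂⟩ : ∃ K₂ : Subfield F, K₂ = frobFix F p (j * 2) := ⟨_, rfl⟩
  rw [← hK₂] at h12 hlt1 hlt2
  haveI : Fintype K₂ := Fintype.ofFinite K₂
  have hL₂ := card_liePSL K₂.subtype a ha h2
  rw [← Nat.card_eq_fintype_card] at hL₂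
  have hsK : ∀ g : GL (Fin 2) K, ((s g : Fˣ) : F) ∈ K₂ := by
    intro g
    rw [hK₂, mem_frobFix, pow_mul, ← hj]
    have hd : Matrix.det (g : Matrix (Fin 2) (Fin 2) K) ≠ 0 :=
      (Matrix.GeneralLinearGroup.det g).ne_zero
    have h1 : (ι (Matrix.det (g : Matrix (Fin 2) (Fin 2) K))) ^ (Fintype.card K - 1) = 1 := by
      rw [← map_pow, FiniteField.pow_card_sub_one_eq_one _ hd, map_one]
    obtain ⟨k, hk⟩ := hq₀odd
    have e1 : Fintype.card K ^ 2 = 2 * ((Fintype.card K - 1) * (k + 1)) + 1 := by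
      rw [hk]
      have : 2 * k + 1 - 1 = 2 * k := by omega
      rw [this]
      ring
    rw [e1, pow_succ, pow_mul, hs g, pow_mul, h1, one_pow, one_mul]
  have hιK : ∀ x : K, ι x ∈ K₂ := fun x => h12 (RingHom.mem_fieldRange_self ι x)
  have hle : liePGL ι a ha s hs ≤ liePSL K₂.subtype a ha := by
    rintro _ ⟨g, rfl⟩
    rw [pglHom_apply]
    apply mk_mem_liePSL_subfield
    · rw [pglB_00]
      exact K₂.mul_mem (K₂.inv_mem (hsK g)) (hιK _)
    · rw [pglB_01]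
      have e : a⁻¹ * (((s g : Fˣ) : F)⁻¹ * (a * ι ((g : Matrix (Fin 2) (Fin 2) K) 0 1))) =
          ((s g : Fˣ) : F)⁻¹ * ι ((g : Matrix (Fin 2) (Fin 2) K) 0 1) := by
        field_simp
      rw [e]
      exact K₂.mul_mem (K₂.inv_mem (hsK g)) (hιK _)
    · rw [pglB_10]
      have e : a * (((s g : Fˣ) : F)⁻¹ * (a⁻¹ * ι ((g : Matrix (Fin 2) (Fin 2) K) 1 0))) =
          ((s g : Fˣ) : F)⁻¹ * ι ((g : Matrix (Fin 2) (Fin 2) K) 1 0) := by
        field_simp
      rw [e]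
      exact K₂.mul_mem (K₂.inv_mem (hsK g)) (hιK _)
    · rw [pglB_11]
      exact K₂.mul_mem (K₂.inv_mem (hsK g)) (hιK _)
  have hne : liePSL K₂.subtype a ha ≠ ⊤ := by
    intro h
    rw [h, Subgroup.card_top, hG] at hL₂
    have := Cfsg.Agent.Lib.Helper98.mul_sq_sub_one_lt (by omega) hlt2
    omega
  have heq := (hM.le_iff_eq hne).mp hle
  rw [heq, hcP] at hL₂
  obtain ⟨j₂, hj₂⟩ : ∃ j₂, Fintype.card K₂ = p ^ j₂ := by
    haveI : CharP K₂ p := RingHom.charP K₂.subtype K₂.subtype_injective p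
    obtain ⟨n, -, hn⟩ := FiniteField.card K₂ p
    exact ⟨n, hn⟩
  rw [← Nat.card_eq_fintype_card] at hj₂
  have hjj : j < j₂ := by
    rw [hj, hj₂] at hlt1
    exact (Nat.pow_lt_pow_iff_right hp.one_lt).mp hlt1
  have hp3 : 3 ≤ p := by
    rcases hp.eq_two_or_odd with h | h
    · exfalso
      rw [hj, h] at hq₀odd
      have hj0 : j ≠ 0 := by
        rintro rfl
        rw [hj, pow_zero] at hK1
        omega
      exact (Nat.not_even_iff_odd.mpr hq₀odd) (Nat.even_pow.mpr ⟨even_two, hj0⟩)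
    · have := hp.two_le
      omega
  have h3 : 3 * Fintype.card K ≤ Nat.card K₂ := by
    rw [hj, hj₂]
    calc 3 * p ^ j ≤ p * p ^ j := Nat.mul_le_mul_right _ hp3
      _ = p ^ (j + 1) := by rw [pow_succ, mul_comm]
      _ ≤ p ^ j₂ := Nat.pow_le_pow_right hp.pos hjj
  have h4 : Fintype.card K ^ 2 - 1 ≤ Nat.card K₂ ^ 2 - 1 :=
    Nat.sub_le_sub_right (Nat.pow_le_pow_left (by omega) 2) 1
  have h5 := Nat.mul_le_mul h3 h4
  have h9 : 9 ≤ Fintype.card K ^ 2 := by nlinarith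
  have hpos : 0 < Fintype.card K * (Fintype.card K ^ 2 - 1) := Nat.mul_pos (by omega) (by omega)
  rw [mul_assoc] at h5
  omega

end term

end Cfsg.Agent.Lib.Helper41
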