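import Mathlib
import Cfsg.Agent.Lib.Helper41.PSL2Subfield
import Cfsg.Agent.Lib.Helper41.PSL2ExcLift
import Cfsg.Agent.Lib.Helper41.PSL2ExcGen
import Cfsg.Agent.Lib.Helper41.PSL2SylowConj
import Cfsg.Agent.S0803
import Cfsg.Agent.S0804

set_option autoImplicit false

/-!
The exceptional cases `A₄`, `S₄`, `A₅` of the classification of the maximal subgroups of
`PSL₂(F)`, `|F|` odd, via trace rigidity and subfield subgroups.
-/

namespace Cfsg.Agent.Lib.Helper41

open Matrix Cfsg.Agent.Lib.Helper5.SL2 Cfsg.Agent.Lib.Helper89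

/-- the conclusion of the classification of maximal subgroups of `PSL₂(F)`, `|F|` odd -/
def OddConcl (F : Type*) [Field F] [Fintype F] (p : ℕ) (H : Type*) [Group H] : Prop :=
  2 * Nat.card H = Fintype.card F * (Fintype.card F - 1) ∨
  (13 ≤ Fintype.card F ∧ (∃ k : ℕ, 2 * k = Fintype.card F - 1 ∧ Nonempty (H ≃* DihedralGroup k))) ∨
  (Fintype.card F ≠ 7 ∧ Fintype.card F ≠ 9 ∧
    (∃ k : ℕ, 2 * k = Fintype.card F + 1 ∧ Nonempty (H ≃* DihedralGroup k))) ∨
  (∃ (F₀ : Type) (_ : Field F₀) (_ : Fintype F₀), Fintype.card F = Fintype.card F₀ ^ 2 ∧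
      Nonempty (H ≃* Matrix.ProjGenLinGroup (Fin 2) F₀)) ∨
  (∃ (F₀ : Type) (_ : Field F₀) (_ : Fintype F₀) (r : ℕ), r.Prime ∧ Odd r ∧
      Fintype.card F = Fintype.card F₀ ^ r ∧
      Nonempty (H ≃* Matrix.ProjectiveSpecialLinearGroup (Fin 2) F₀)) ∨
  ((Fintype.card F % 10 = 1 ∨ Fintype.card F % 10 = 9) ∧
      (Fintype.card F = p ∨ (Fintype.card F = p ^ 2 ∧ (p % 10 = 3 ∨ p % 10 = 7))) ∧
      Nonempty (H ≃* alternatingGroup (Fin 5))) ∨
  (Fintype.card F = p ∧ (p % 8 = 3 ∨ p % 8 = 5) ∧ ¬ (p % 10 = 1 ∨ p % 10 = 9) ∧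
      Nonempty (H ≃* alternatingGroup (Fin 4))) ∨
  (Fintype.card F = p ∧ (p % 8 = 1 ∨ p % 8 = 7) ∧ Nonempty (H ≃* Equiv.Perm (Fin 4)))

theorem OddConcl.of_equiv {F : Type*} [Field F] [Fintype F] {p : ℕ} {H H' : Type*} [Group H]
    [Group H'] (e : H ≃* H') (h : OddConcl F p H') : OddConcl F p H := by
  unfold OddConcl at h ⊢
  rcases h with h | ⟨h13, k, hk, ⟨ψ⟩⟩ | ⟨h7, h9, k, hk, ⟨ψ⟩⟩ | ⟨F₀, i1, i2, hc, ⟨ψ⟩⟩ |
    ⟨F₀, i1, i2, r, hr, hro, hc, ⟨ψ⟩⟩ | ⟨h10, hq, ⟨ψ⟩⟩ | ⟨hq, h8, h10, ⟨ψ⟩⟩ | ⟨hq, h8, ⟨ψ⟩⟩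
  · left
    rw [Nat.card_congr e.toEquiv]
    exact h
  · right; left
    exact ⟨h13, k, hk, ⟨e.trans ψ⟩⟩
  · right; right; left
    exact ⟨h7, h9, k, hk, ⟨e.trans ψ⟩⟩
  · right; right; right; left
    exact ⟨F₀, i1, i2, hc, ⟨e.trans ψ⟩⟩
  · right; right; right; right; left
    exact ⟨F₀, i1, i2, r, hr, hro, hc, ⟨e.trans ψ⟩⟩
  · right; right; right; right; right; left
    exact ⟨h10, hq, ⟨e.trans ψ⟩⟩
  · right; right; right; right; right; right; left
    exact ⟨hq, h8, h10, ⟨e.trans ψ⟩⟩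
  · right; right; right; right; right; right; right
    exact ⟨hq, h8, ⟨e.trans ψ⟩⟩

theorem card_alt4' : Nat.card (alternatingGroup (Fin 4)) = 12 := by
  rw [Nat.card_eq_fintype_card]
  have h := two_mul_card_alternatingGroup (α := Fin 4)
  rw [Fintype.card_perm, Fintype.card_fin] at h
  have e : Nat.factorial 4 = 24 := by decide
  omega

theorem card_alt5' : Nat.card (alternatingGroup (Fin 5)) = 60 := by
  rw [Nat.card_eq_fintype_card]
  have h := two_mul_card_alternatingGroup (α := Fin 5)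
  rw [Fintype.card_perm, Fintype.card_fin] at h
  have e : Nat.factorial 5 = 120 := by decide
  omega

theorem card_sym4' : Nat.card (Equiv.Perm (Fin 4)) = 24 := by
  rw [Nat.card_eq_fintype_card, Fintype.card_perm, Fintype.card_fin]
  decide

section model

variable {F : Type*} [Field F] [Fintype F]

theorem exists_model_pair {K : Type*} [Field K] [Fintype K] (hK : Fintype.card K % 2 = 1)
    (ν t u : K) (hν : ν ≠ 0) : ∃ x z : K, x * (t - x) - (u + ν * z) * z = 1 := by
  have hf : (Polynomial.C 1 * Polynomial.X ^ 2 + Polynomial.C (-t) * Polynomial.X +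
      Polynomial.C 1 : Polynomial K).degree = 2 := Polynomial.degree_quadratic one_ne_zero
  have hg : (Polynomial.C ν * Polynomial.X ^ 2 + Polynomial.C u * Polynomial.X +
      Polynomial.C 0 : Polynomial K).degree = 2 := Polynomial.degree_quadratic hν
  obtain ⟨x, z, h⟩ := FiniteField.exists_root_sum_quadratic hf hg hK
  refine ⟨x, z, ?_⟩
  simp only [Polynomial.eval_add, Polynomial.eval_mul, Polynomial.eval_C, Polynomial.eval_pow,
    Polynomial.eval_X] at h
  linear_combination -h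

theorem two_ne_zero_of_map {K : Type*} [Field K] (ι : K →+* F) (h2 : (2 : F) ≠ 0) :
    (2 : K) ≠ 0 := by
  intro h
  apply h2
  rw [← map_ofNat ι 2, h, map_zero]

/-- a pair with traces in a subfield is conjugate, under an automorphism, into the subfield
subgroup -/
theorem psl_model {K : Type*} [Field K] [Fintype K] (h2 : (2 : F) ≠ 0) (ι : K →+* F)
    (A B : Matrix.SpecialLinearGroup (Fin 2) F) (hA : A.1.trace = 0) (t₀ u₀ : K)
    (hB : B.1.trace = ι t₀) (hAB : (A * B).1.trace = ι u₀)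
    (hne : (ι t₀) ^ 2 + (ι u₀) ^ 2 ≠ 4) :
    ∃ α : MulAut (Matrix.ProjectiveSpecialLinearGroup (Fin 2) F),
      α (QuotientGroup.mk A) ∈ liePSL ι 1 one_ne_zero ∧
      α (QuotientGroup.mk B) ∈ liePSL ι 1 one_ne_zero := by
  have hK : Fintype.card K % 2 = 1 := card_mod_two_of_two_ne_zero (two_ne_zero_of_map ι h2)
  obtain ⟨x, z, hxz⟩ := exists_model_pair hK 1 t₀ u₀ one_ne_zero
  obtain ⟨Y₂, hY₂⟩ : ∃ Y₂ : Matrix.SpecialLinearGroup (Fin 2) K,
      Y₂.1 = !![x, u₀ + z; z, t₀ - x] :=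
    ⟨⟨!![x, u₀ + z; z, t₀ - x], by rw [Matrix.det_fin_two_of]; linear_combination hxz⟩, rfl⟩
  obtain ⟨A', hA'⟩ : ∃ A' : Matrix.SpecialLinearGroup (Fin 2) F,
      A' = psi0 ι 1 one_ne_zero stdJ := ⟨_, rfl⟩
  obtain ⟨B', hB'⟩ : ∃ B' : Matrix.SpecialLinearGroup (Fin 2) F,
      B' = psi0 ι 1 one_ne_zero Y₂ := ⟨_, rfl⟩
  have htrA' : A'.1.trace = 0 := by
    rw [hA', Matrix.trace_fin_two, psi0_00, psi0_11, stdJ_coe]
    simp
  have htrB' : B'.1.trace = ι t₀ := by
    rw [hB', Matrix.trace_fin_two, psi0_00, psi0_11, hY₂, ← map_add]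
    congr 1
    simp
  have htrAB' : (A' * B').1.trace = ι u₀ := by
    rw [hA', hB', ← map_mul, Matrix.trace_fin_two, psi0_00, psi0_11, ← map_add]
    congr 1
    rw [Matrix.SpecialLinearGroup.coe_mul, stdJ_coe, hY₂, Matrix.mul_apply, Matrix.mul_apply,
      Fin.sum_univ_two, Fin.sum_univ_two]
    simp
  obtain ⟨α, h1, h3⟩ := exists_aut_of_pair h2 A B A' B' hA htrA' (by rw [htrB', hB])
    (by rw [htrAB', hAB]) (by rw [hB, hAB]; exact hne)
  exact ⟨α, by rw [h1, hA']; exact ⟨stdJ, rfl⟩, by rw [h3, hB']; exact ⟨Y₂, rfl⟩⟩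

/-- a pair of type `(2, 3, 4)` is conjugate, under an automorphism, into the subgroup `PGL₂(K)` -/
theorem pgl_model {K : Type*} [Field K] [Fintype K] (h2 : (2 : F) ≠ 0) (ι : K →+* F)
    (s : GL (Fin 2) K → Fˣ)
    (hs : ∀ g : GL (Fin 2) K,
      ((s g : Fˣ) : F) ^ 2 = ι (Matrix.det (g : Matrix (Fin 2) (Fin 2) K)))
    (A B : Matrix.SpecialLinearGroup (Fin 2) F) (hA : A.1.trace = 0) (hB : B.1.trace = -1)
    (hAB : (A * B).1.trace ^ 2 = 2) :
    ∃ α : MulAut (Matrix.ProjectiveSpecialLinearGroup (Fin 2) F),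
      α (QuotientGroup.mk A) ∈ liePGL ι 1 one_ne_zero s hs ∧
      α (QuotientGroup.mk B) ∈ liePGL ι 1 one_ne_zero s hs := by
  have h2K : (2 : K) ≠ 0 := two_ne_zero_of_map ι h2
  have hK : Fintype.card K % 2 = 1 := card_mod_two_of_two_ne_zero h2K
  obtain ⟨x, z, hxz⟩ := exists_model_pair hK 2 (-1) 2 h2K
  obtain ⟨Y₂, hY₂⟩ : ∃ Y₂ : Matrix.SpecialLinearGroup (Fin 2) K,
      Y₂.1 = !![x, 2 + 2 * z; z, -1 - x] :=
    ⟨⟨!![x, 2 + 2 * z; z, -1 - x], by rw [Matrix.det_fin_two_of]; linear_combination hxz⟩, rfl⟩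
  obtain ⟨g₂, hg₂⟩ : ∃ g₂ : GL (Fin 2) K, (g₂ : Matrix (Fin 2) (Fin 2) K) = !![0, -2; 1, 0] :=
    ⟨Matrix.GeneralLinearGroup.mkOfDetNeZero !![0, -2; 1, 0]
      (by rw [Matrix.det_fin_two_of]; simpa using h2K), rfl⟩
  obtain ⟨σ, hσ⟩ : ∃ σ : F, σ = ((s g₂ : Fˣ) : F) := ⟨_, rfl⟩
  have hι2 : ι 2 = 2 := map_ofNat ι 2
  have hσ2 : σ ^ 2 = 2 := by
    rw [hσ, hs g₂, hg₂, Matrix.det_fin_two_of]
    simp [hι2]
  have hσ0 : σ ≠ 0 := by
    rw [hσ]
    exact (s g₂).ne_zero
  obtain ⟨A₀, hA₀⟩ : ∃ A₀ : Matrix.SpecialLinearGroup (Fin 2) F,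
      A₀ = pglB ι 1 one_ne_zero s hs g₂ := ⟨_, rfl⟩
  obtain ⟨B', hB'⟩ : ∃ B' : Matrix.SpecialLinearGroup (Fin 2) F,
      B' = psi0 ι 1 one_ne_zero Y₂ := ⟨_, rfl⟩
  have hmemA : (QuotientGroup.mk A₀ : Matrix.ProjectiveSpecialLinearGroup (Fin 2) F) ∈
      liePGL ι 1 one_ne_zero s hs := ⟨g₂, by rw [pglHom_apply, hA₀]⟩
  have hmemB : (QuotientGroup.mk B' : Matrix.ProjectiveSpecialLinearGroup (Fin 2) F) ∈
      liePGL ι 1 one_ne_zero s hs :=
    liePSL_le_liePGL ι 1 one_ne_zero s hs ⟨Y₂, by rw [lieHom_apply, hB']⟩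
  have htrA₀ : A₀.1.trace = 0 := by
    rw [hA₀, Matrix.trace_fin_two, pglB_00, pglB_11, hg₂]
    simp
  have htrB' : B'.1.trace = -1 := by
    rw [hB', Matrix.trace_fin_two, psi0_00, psi0_11, hY₂, ← map_add]
    simp
  have htrAB : (A₀ * B').1.trace = σ := by
    rw [Matrix.SpecialLinearGroup.coe_mul, Matrix.trace_fin_two, Matrix.mul_apply,
      Matrix.mul_apply, Fin.sum_univ_two, Fin.sum_univ_two, hA₀, hB', pglB_00, pglB_01, pglB_10,
      pglB_11, psi0_00, psi0_01, psi0_10, psi0_11, hg₂, hY₂, ← hσ]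
    simp [hι2]
    field_simp
    linear_combination -hσ2
  have hne : B.1.trace ^ 2 + (A * B).1.trace ^ 2 ≠ 4 := by
    rw [hB, hAB]
    intro h
    have : (1 : F) = 0 := by linear_combination -h
    exact one_ne_zero this
  have hfac : ((A * B).1.trace - σ) * ((A * B).1.trace + σ) = 0 := by
    linear_combination hAB - hσ2
  rcases mul_eq_zero.mp hfac with h | h
  · have hτ : (A * B).1.trace = σ := by linear_combination h
    obtain ⟨α, h1, h3⟩ := exists_aut_of_pair h2 A B A₀ B' hA htrA₀ (by rw [htrB', hB])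
      (by rw [htrAB, hτ]) hne
    exact ⟨α, by rw [h1]; exact hmemA, by rw [h3]; exact hmemB⟩
  · have hτ : (A * B).1.trace = -σ := by linear_combination h
    obtain ⟨α, h1, h3⟩ := exists_aut_of_pair h2 A B (-A₀) B' hA
      (by rw [trace_neg_sl, htrA₀, neg_zero]) (by rw [htrB', hB])
      (by rw [trace_neg_mul_sl, htrAB, hτ]) hne
    exact ⟨α, by rw [h1, mk_neg_eq]; exact hmemA, by rw [h3]; exact hmemB⟩

end model

section terminal

variable {F : Type*} [Field F] [Fintype F] (p : ℕ) [Fact p.Prime] [CharP F p]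

theorem card_eq_pow_of_le (s : ℕ) (h : Fintype.card F ≤ p ^ s) :
    ∃ n, 1 ≤ n ∧ n ≤ s ∧ Fintype.card F = p ^ n := by
  have hp : p.Prime := Fact.out
  obtain ⟨n, -, hn⟩ := FiniteField.card F p
  refine ⟨n, n.pos, ?_, hn⟩
  rw [hn] at h
  exact (Nat.pow_le_pow_iff_right hp.one_lt).mp h

theorem char_odd (hodd : Odd (Fintype.card F)) : Odd p := by
  obtain ⟨n, -, hn⟩ := FiniteField.card F p
  rw [hn] at hodd
  exact (Nat.odd_pow_iff n.ne_zero).mp hodd

theorem concl_of_liePSL_coatom {K : Type} [Field K] [Fintype K] (hodd : Odd (Fintype.card F))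
    (ι : K →+* F) (a : F) (ha : a ≠ 0) (m : ℕ) (hm : Fintype.card K ^ m = Fintype.card F)
    (hM : IsCoatom (liePSL ι a ha)) : OddConcl F p (liePSL ι a ha) := by
  obtain ⟨hmp, hmo⟩ := liePSL_coatom_prime p hodd ι a ha m hm hM
  obtain ⟨e⟩ := liePSL_equiv ι a ha
  right; right; right; right; left
  exact ⟨K, inferInstance, inferInstance, m, hmp, hmo, hm.symm, ⟨e⟩⟩

theorem concl_of_liePGL_coatom {K : Type} [Field K] [Fintype K] (hodd : Odd (Fintype.card F))
    (ι : K →+* F) (a : F) (ha : a ≠ 0) (s : GL (Fin 2) K → Fˣ)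
    (hs : ∀ g : GL (Fin 2) K,
      ((s g : Fˣ) : F) ^ 2 = ι (Matrix.det (g : Matrix (Fin 2) (Fin 2) K)))
    (m : ℕ) (hm : Fintype.card K ^ m = Fintype.card F)
    (hM : IsCoatom (liePGL ι a ha s hs)) : OddConcl F p (liePGL ι a ha s hs) := by
  have hm2 := liePGL_coatom_two p hodd ι a ha s hs m hm hM
  obtain ⟨e⟩ := liePGL_equiv ι a ha s hs
  right; right; right; left
  exact ⟨K, inferInstance, inferInstance, by rw [← hm, hm2], ⟨e⟩⟩

/-- a maximal subgroup with an automorphic image inside a subfield subgroup `PSL₂(K)` -/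
theorem psl_terminal {K : Type} [Field K] [Fintype K] (hodd : Odd (Fintype.card F))
    (ι : K →+* F) (a : F) (ha : a ≠ 0) (m : ℕ) (hm : Fintype.card K ^ m = Fintype.card F)
    (M : Subgroup (Matrix.ProjectiveSpecialLinearGroup (Fin 2) F)) (hM : IsCoatom M)
    (α : MulAut (Matrix.ProjectiveSpecialLinearGroup (Fin 2) F))
    (hle : M.map α.toMonoidHom ≤ liePSL ι a ha) :
    Fintype.card K = Fintype.card F ∨ OddConcl F p M := by
  have hM' := isCoatom_map_aut α M hM
  by_cases htop : liePSL ι a ha = ⊤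
  · left
    have h2 := two_ne_zero_of_odd_card hodd
    have hL := card_liePSL ι a ha h2
    rw [htop, Subgroup.card_top, card_psl2_odd hodd] at hL
    by_contra hne
    obtain ⟨-, hm0⟩ := odd_card_of_pow hodd hm
    have hK1 : 1 < Fintype.card K := Fintype.one_lt_card
    have hle' : Fintype.card K ≤ Fintype.card F := by
      rw [← hm]
      exact Nat.le_self_pow hm0 _
    have hlt : Fintype.card K < Fintype.card F := lt_of_le_of_ne hle' hne
    have := Cfsg.Agent.Lib.Helper98.mul_sq_sub_one_lt (by omega) hlt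
    omega
  · right
    have heq := (hM'.le_iff_eq htop).mp hle
    have hL' : IsCoatom (liePSL ι a ha) := by
      rw [heq]
      exact hM'
    have hc := concl_of_liePSL_coatom p hodd ι a ha m hm hL'
    exact OddConcl.of_equiv ((M.equivMapOfInjective _ α.injective).trans
      (MulEquiv.subgroupCongr heq.symm)) hc

/-- a maximal subgroup with an automorphic image inside a subfield subgroup `PGL₂(K)` -/
theorem pgl_terminal {K : Type} [Field K] [Fintype K] (hodd : Odd (Fintype.card F))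
    (ι : K →+* F) (a : F) (ha : a ≠ 0) (s : GL (Fin 2) K → Fˣ)
    (hs : ∀ g : GL (Fin 2) K,
      ((s g : Fˣ) : F) ^ 2 = ι (Matrix.det (g : Matrix (Fin 2) (Fin 2) K)))
    (m : ℕ) (hm : Fintype.card K ^ m = Fintype.card F)
    (M : Subgroup (Matrix.ProjectiveSpecialLinearGroup (Fin 2) F)) (hM : IsCoatom M)
    (α : MulAut (Matrix.ProjectiveSpecialLinearGroup (Fin 2) F))
    (hle : M.map α.toMonoidHom ≤ liePGL ι a ha s hs) : OddConcl F p M := by
  have hM' := isCoatom_map_aut α M hM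
  have htop : liePGL ι a ha s hs ≠ ⊤ := by
    intro h
    have hcP := card_liePGL ι a ha s hs
    rw [h, Subgroup.card_top] at hcP
    obtain ⟨hq₀odd, -⟩ := odd_card_of_pow hodd hm
    have hK1 : 1 < Fintype.card K := Fintype.one_lt_card
    have hq₀3 : 3 ≤ Fintype.card K := by
      obtain ⟨k, hk⟩ := hq₀odd
      omega
    apply pgl_card_ne (Fintype.card K) m hq₀3
    rw [hm, ← card_psl2_odd hodd, hcP, mul_comm]
  have heq := (hM'.le_iff_eq htop).mp hle
  have hL' : IsCoatom (liePGL ι a ha s hs) := by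
    rw [heq]
    exact hM'
  have hc := concl_of_liePGL_coatom p hodd ι a ha s hs m hm hL'
  exact OddConcl.of_equiv ((M.equivMapOfInjective _ α.injective).trans
    (MulEquiv.subgroupCongr heq.symm)) hc

/-- a maximal subgroup generated by a pair of type `(2, 3, 3)` is not smaller than a proper
subgroup containing such a pair -/
theorem pair233_excl (h2 : (2 : F) ≠ 0)
    (M : Subgroup (Matrix.ProjectiveSpecialLinearGroup (Fin 2) F)) (hM : IsCoatom M)
    (A B : Matrix.SpecialLinearGroup (Fin 2) F)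
    (hA : A.1.trace = 0) (hB : B.1.trace = -1) (hAB : (A * B).1.trace = -1)
    (hcl : Subgroup.closure ({(QuotientGroup.mk A :
      Matrix.ProjectiveSpecialLinearGroup (Fin 2) F), QuotientGroup.mk B} :
      Set (Matrix.ProjectiveSpecialLinearGroup (Fin 2) F)) = M)
    (H : Subgroup (Matrix.ProjectiveSpecialLinearGroup (Fin 2) F))
    (x' y' : Matrix.ProjectiveSpecialLinearGroup (Fin 2) F) (hx' : x' ∈ H) (hy' : y' ∈ H)
    (hox : orderOf x' = 2) (hoy : orderOf y' = 3) (hoxy : orderOf (x' * y') = 3)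
    (h1 : Nat.card M < Nat.card H)
    (h3 : Nat.card H < Nat.card (Matrix.ProjectiveSpecialLinearGroup (Fin 2) F)) : False := by
  obtain ⟨A', B', rfl, rfl, hA', hB', hAB'⟩ := exists_lift_pair_three h2 x' y' hox hoy hoxy
  obtain ⟨α, e1, e2⟩ := exists_aut_of_pair h2 A B A' B' hA hA' (by rw [hB', hB])
    (by rw [hAB', hAB]) (by
      rw [hB, hAB]
      intro h
      apply h2
      linear_combination (-1 : F) * h)
  have hle : M.map α.toMonoidHom ≤ H := by
    rw [← hcl, map_closure_pair α _ _ _ _ e1 e2, Subgroup.closure_le]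
    intro z hz
    rcases hz with rfl | rfl
    · exact hx'
    · exact hy'
  exact coatom_not_le _ (isCoatom_map_aut α M hM) H hle
    (by rw [Subgroup.card_map_of_injective α.injective]; exact h1) h3

/-- the roots of `x² + x - 1` are fixed by the Frobenius if `p ≡ ±1 (mod 5)` -/
theorem frob_fix_of_golden (τ : F) (hτ : τ ^ 2 + τ - 1 = 0) (hp5 : p % 5 = 1 ∨ p % 5 = 4)
    (h5 : 5 ∣ Fintype.card F - 1) : τ ^ p = τ := by
  have hp : p.Prime := Fact.out
  haveI : Fact (Nat.Prime 5) := ⟨by norm_num⟩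
  obtain ⟨u, hu⟩ := exists_prime_orderOf_dvd_card' (G := Fˣ) 5
    (by rw [Nat.card_units, Nat.card_eq_fintype_card]; exact h5)
  obtain ⟨l, hl⟩ : ∃ l : F, l = (u : F) := ⟨_, rfl⟩
  have hl5 : l ^ 5 = 1 := by
    rw [hl, ← Units.val_pow_eq_pow_val, ← hu, pow_orderOf_eq_one, Units.val_one]
  have hl1 : l ≠ 1 := by
    rw [hl]
    intro h
    have h1 : u = 1 := Units.ext h
    rw [h1, orderOf_one] at hu
    omega
  have hsum : 1 + l + l ^ 2 + l ^ 3 + l ^ 4 = 0 := by
    have h : (l - 1) * (1 + l + l ^ 2 + l ^ 3 + l ^ 4) = 0 := by linear_combination hl5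
    exact (mul_eq_zero.mp h).resolve_left (sub_ne_zero.mpr hl1)
  have hlp : l ^ p = l ∨ l ^ p = l ^ 4 := by
    have h : u ^ p = u ^ (p % 5) := by
      rw [← hu]
      exact (pow_mod_orderOf u p).symm
    have h' : l ^ p = l ^ (p % 5) := by
      rw [hl, ← Units.val_pow_eq_pow_val, h, Units.val_pow_eq_pow_val]
    rcases hp5 with h1 | h4
    · left
      rw [h', h1, pow_one]
    · right
      rw [h', h4]
  obtain ⟨σ, hσdef⟩ : ∃ σ : F, σ = l + l ^ 4 := ⟨_, rfl⟩
  have hσ : σ ^ 2 + σ - 1 = 0 := by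
    rw [hσdef]
    linear_combination hsum + (2 + l ^ 3) * hl5
  have hσp : σ ^ p = σ := by
    rw [hσdef, add_pow_char, ← pow_mul, mul_comm 4 p, pow_mul]
    rcases hlp with h | h
    · rw [h]
    · rw [h]
      linear_combination (l * (l ^ 10 + l ^ 5 + 1)) * hl5
  have hpodd : Odd p := by
    rcases hp.eq_two_or_odd' with h | h
    · rw [h] at hp5
      omega
    · exact h
  have hroots : (τ - σ) * (τ + σ + 1) = 0 := by linear_combination hτ - hσ
  rcases mul_eq_zero.mp hroots with h | h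
  · have e : τ = σ := by linear_combination h
    rw [e]
    exact hσp
  · have e : τ = -1 - σ := by linear_combination h
    rw [e, sub_pow_char, hσp, Odd.neg_one_pow hpodd]

end terminal

section cases

variable {F : Type*} [Field F] [Fintype F] (p : ℕ) [Fact p.Prime] [CharP F p]

theorem card_psl2_ge (hodd : Odd (Fintype.card F)) (n : ℕ) (hn : n ≤ Fintype.card F) :
    n * (n ^ 2 - 1) ≤ Nat.card (Matrix.ProjectiveSpecialLinearGroup (Fin 2) F) * 2 := by
  rw [card_psl2_odd hodd]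
  exact Nat.mul_le_mul hn (Nat.sub_le_sub_right (Nat.pow_le_pow_left hn 2) 1)

/-- the case `A₄` -/
theorem concl_A4 (hodd : Odd (Fintype.card F)) (h5 : 5 ≤ Fintype.card F)
    (M : Subgroup (Matrix.ProjectiveSpecialLinearGroup (Fin 2) F)) (hM : IsCoatom M)
    (e : M ≃* alternatingGroup (Fin 4)) : OddConcl F p M := by
  have h2 : (2 : F) ≠ 0 := two_ne_zero_of_odd_card hodd
  have hpodd : Odd p := char_odd p hodd
  have hcM : Nat.card M = 12 := by rw [Nat.card_congr e.toEquiv, card_alt4']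
  obtain ⟨x, y, -, -, hox, hoy, hoxy, hgen⟩ := exists_pair_of_equiv M e a4a a4b 3 a4_gen.1
    a4_gen.2.1 a4_gen.2.2.1
  have hcl := hgen a4_gen.2.2.2
  obtain ⟨A, B, rfl, rfl, hA, hB, hAB⟩ := exists_lift_pair_three h2 x y hox hoy hoxy
  obtain ⟨K, iK, iKf, ι, m, hm, hKp, -, -⟩ := exists_frob_model F p 1 one_ne_zero
  obtain ⟨α, h1, h3⟩ := psl_model h2 ι A B hA (-1) (-1) (by rw [hB, map_neg, map_one])
    (by rw [hAB, map_neg, map_one]) (by
      rw [map_neg, map_one]
      intro h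
      apply h2
      linear_combination (-1 : F) * h)
  have hle : M.map α.toMonoidHom ≤ liePSL ι 1 one_ne_zero := by
    rw [← hcl, map_closure_pair α _ _ _ _ rfl rfl, Subgroup.closure_le]
    intro z hz
    rcases hz with rfl | rfl
    · exact h1
    · exact h3
  rcases psl_terminal p hodd ι 1 one_ne_zero m hm M hM α hle with hKF | hc
  · obtain ⟨n, hn1, hn2, hn⟩ := card_eq_pow_of_le p 1 (by rw [← hKF]; exact hKp)
    have hn' : n = 1 := by omega
    rw [hn', pow_one] at hn
    have hG24 := card_psl2_ge hodd 5 h5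
    right; right; right; right; right; right; left
    refine ⟨hn, ?_, ?_, ⟨e⟩⟩
    · by_contra hcon
      obtain ⟨k, hk⟩ := hpodd
      have hp16 : p % 16 = 1 ∨ p % 16 = 9 ∨ p % 16 = 7 ∨ p % 16 = 15 := by omega
      have hsq : p ^ 2 % 16 = 1 := by
        rw [Nat.pow_mod]
        rcases hp16 with h | h | h | h <;> rw [h]
      obtain ⟨H, ⟨eH⟩⟩ := (Cfsg.Agent.S0803.result (F := F) (q := p) hn).mpr hsq
      obtain ⟨a, b, ha, hb, hab⟩ := s4_pair233
      obtain ⟨x', y', hx'H, hy'H, hox', hoy', hoxy', -⟩ := exists_pair_of_equiv H eH a b 3 ha hb hab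
      have hcH : Nat.card H = 24 := by rw [Nat.card_congr eH.toEquiv, card_sym4']
      exact pair233_excl h2 M hM A B hA hB hAB hcl H x' y' hx'H hy'H hox' hoy' hoxy'
        (by rw [hcM, hcH]; norm_num) (by rw [hcH]; omega)
    · intro hcon
      have hp5 : p % 5 = 1 ∨ p % 5 = 4 := by omega
      have hsq : p ^ 2 % 5 = 1 := by
        rw [Nat.pow_mod]
        rcases hp5 with h | h <;> rw [h]
      have hp1 : 1 ≤ p ^ 2 := Nat.one_le_pow _ _ (by omega)
      have hdvd : 5 ∣ p * (p ^ 2 - 1) := Dvd.dvd.mul_left (by omega) p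
      obtain ⟨H, ⟨eH⟩⟩ := (Cfsg.Agent.S0804.result (F := F) (q := p) hn).mpr hdvd
      obtain ⟨a, b, ha, hb, hab⟩ := a5_pair233
      obtain ⟨x', y', hx'H, hy'H, hox', hoy', hoxy', -⟩ := exists_pair_of_equiv H eH a b 3 ha hb hab
      have hcH : Nat.card H = 60 := by rw [Nat.card_congr eH.toEquiv, card_alt5']
      have hp9 : 9 ≤ Fintype.card F := by
        rw [hn]
        omega
      have hG9 := card_psl2_ge hodd 9 hp9
      exact pair233_excl h2 M hM A B hA hB hAB hcl H x' y' hx'H hy'H hox' hoy' hoxy'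
        (by rw [hcM, hcH]; norm_num) (by rw [hcH]; omega)
  · exact hc

/-- the case `S₄` -/
theorem concl_S4 (hodd : Odd (Fintype.card F))
    (M : Subgroup (Matrix.ProjectiveSpecialLinearGroup (Fin 2) F)) (hM : IsCoatom M)
    (e : M ≃* Equiv.Perm (Fin 4)) : OddConcl F p M := by
  have h2 : (2 : F) ≠ 0 := two_ne_zero_of_odd_card hodd
  obtain ⟨x, y, -, -, hox, hoy, hoxy, hgen⟩ := exists_pair_of_equiv M e s4a s4b 4 s4_gen.1
    s4_gen.2.1 s4_gen.2.2.1
  have hcl := hgen s4_gen.2.2.2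
  obtain ⟨A, B, rfl, rfl, hA, hB, hAB⟩ := exists_lift_pair_four h2 x y hox hoy hoxy
  obtain ⟨K, iK, iKf, ι, m, hm, hKp, hfix, hsurj⟩ := exists_frob_model F p 1 one_ne_zero
  obtain ⟨τ, hτdef⟩ : ∃ τ : F, τ = (A * B).1.trace := ⟨_, rfl⟩
  rw [← hτdef] at hAB
  by_cases hτ : τ ^ p = τ
  · obtain ⟨τ₀, hτ₀⟩ := hsurj τ (by rw [pow_one]; exact hτ)
    obtain ⟨α, h1, h3⟩ := psl_model h2 ι A B hA (-1) τ₀ (by rw [hB, map_neg, map_one])
      (by rw [hτ₀, hτdef]) (by
        rw [map_neg, map_one, hτ₀, hAB]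
        intro h
        have : (1 : F) = 0 := by linear_combination -h
        exact one_ne_zero this)
    have hle : M.map α.toMonoidHom ≤ liePSL ι 1 one_ne_zero := by
      rw [← hcl, map_closure_pair α _ _ _ _ rfl rfl, Subgroup.closure_le]
      intro z hz
      rcases hz with rfl | rfl
      · exact h1
      · exact h3
    rcases psl_terminal p hodd ι 1 one_ne_zero m hm M hM α hle with hKF | hc
    · obtain ⟨n, hn1, hn2, hn⟩ := card_eq_pow_of_le p 1 (by rw [← hKF]; exact hKp)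
      have hn' : n = 1 := by omega
      rw [hn', pow_one] at hn
      right; right; right; right; right; right; right
      refine ⟨hn, ?_, ⟨e⟩⟩
      have hsq := (Cfsg.Agent.S0803.result (F := F) (q := p) hn).mp ⟨M, ⟨e⟩⟩
      have h16 := Cfsg.Agent.S0803.arith16 (p % 16) (Nat.mod_lt _ (by norm_num))
        (by rw [← Nat.pow_mod]; exact hsq)
      omega
    · exact hc
  · have hKodd := (odd_card_of_pow hodd hm).1
    have h2K : (2 : K) ≠ 0 := two_ne_zero_of_map ι h2
    have hcharK : ringChar K ≠ 2 := by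
      intro h
      have h' := FiniteField.even_card_of_char_two h
      obtain ⟨k, hk⟩ := hKodd
      omega
    have hnsq : ¬ IsSquare (2 : K) := by
      rintro ⟨d, hd⟩
      apply hτ
      have hd' : ι d * ι d = 2 := by rw [← map_mul, ← hd, map_ofNat]
      have h1 : (τ - ι d) * (τ + ι d) = 0 := by linear_combination hAB - hd'
      rcases mul_eq_zero.mp h1 with h | h
      · have e1 : τ = ι d := by linear_combination h
        rw [e1]
        have := hfix d
        rwa [pow_one] at this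
      · have e1 : τ = ι (-d) := by
          rw [map_neg]
          linear_combination h
        rw [e1]
        have := hfix (-d)
        rwa [pow_one] at this
    have h2pow : (2 : K) ^ (Fintype.card K / 2) = -1 := by
      rcases FiniteField.pow_dichotomy hcharK h2K with h | h
      · exact absurd ((FiniteField.isSquare_iff hcharK h2K).mpr h) hnsq
      · exact h
    have hsq : ∀ c : K, c ≠ 0 → IsSquare (ι c) := by
      intro c hc
      rcases FiniteField.pow_dichotomy hcharK hc with h | h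
      · obtain ⟨d, hd⟩ := (FiniteField.isSquare_iff hcharK hc).mpr h
        exact ⟨ι d, by rw [hd, map_mul]⟩
      · have hc2 : c / 2 ≠ 0 := div_ne_zero hc h2K
        have h' : (c / 2) ^ (Fintype.card K / 2) = 1 := by
          rw [div_pow, h, h2pow]
          exact div_self (neg_ne_zero.mpr one_ne_zero)
        obtain ⟨d, hd⟩ := (FiniteField.isSquare_iff hcharK hc2).mpr h'
        refine ⟨τ * ι d, ?_⟩
        have e1 : c = 2 * (d * d) := by
          rw [← hd]
          field_simp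
        rw [e1, map_mul, map_mul, map_ofNat]
        linear_combination (-(ι d * ι d)) * hAB
    obtain ⟨s, hs⟩ := exists_sqrtSel ι hsq
    obtain ⟨α, h1, h3⟩ := pgl_model h2 ι s hs A B hA hB (by rw [← hτdef]; exact hAB)
    have hle : M.map α.toMonoidHom ≤ liePGL ι 1 one_ne_zero s hs := by
      rw [← hcl, map_closure_pair α _ _ _ _ rfl rfl, Subgroup.closure_le]
      intro z hz
      rcases hz with rfl | rfl
      · exact h1
      · exact h3
    exact pgl_terminal p hodd ι 1 one_ne_zero s hs m hm M hM α hle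

/-- the case `A₅` -/
theorem concl_A5 (hodd : Odd (Fintype.card F))
    (M : Subgroup (Matrix.ProjectiveSpecialLinearGroup (Fin 2) F)) (hM : IsCoatom M)
    (e : M ≃* alternatingGroup (Fin 5)) : OddConcl F p M := by
  have hp : p.Prime := Fact.out
  have h2 : (2 : F) ≠ 0 := two_ne_zero_of_odd_card hodd
  have hpodd : Odd p := char_odd p hodd
  have hcM : Nat.card M = 60 := by rw [Nat.card_congr e.toEquiv, card_alt5']
  have hG := card_psl2_odd hodd
  obtain ⟨x, y, -, -, hox, hoy, hoxy, hgen⟩ := exists_pair_of_equiv M e a5a a5b 5 a5_gen.1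
    a5_gen.2.1 a5_gen.2.2.1
  have hcl := hgen a5_gen.2.2.2
  obtain ⟨A, B, rfl, rfl, hA, hB, hAB⟩ := exists_lift_pair_five h2 x y hox hoy hoxy
  obtain ⟨τ, hτdef⟩ : ∃ τ : F, τ = (A * B).1.trace := ⟨_, rfl⟩
  rw [← hτdef] at hAB
  have hne : (-1 : F) ^ 2 + τ ^ 2 ≠ 4 := by
    intro h
    have e3 : τ = -2 := by linear_combination hAB - h
    rw [e3] at hAB
    norm_num at hAB
  have hp5ne : p ≠ 5 ∨ τ ^ p = τ := by
    by_cases h : p = 5
    · right
      subst h
      have h5F : (5 : F) = 0 := by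
        have := CharP.cast_eq_zero F 5
        exact_mod_cast this
      have e1 : (τ - 2) ^ 2 = 0 := by linear_combination hAB - (τ - 1) * h5F
      have e2 : τ = 2 := by
        have := pow_eq_zero_iff (two_ne_zero) |>.mp e1
        linear_combination this
      rw [e2]
      linear_combination (6 : F) * h5F
    · exact Or.inl h
  have hsubM : ∀ q : ℕ, Fintype.card F = q → 5 ∣ q * (q ^ 2 - 1) := fun q hq =>
    (Cfsg.Agent.S0804.result (F := F) (q := q) hq).mp ⟨M, ⟨e⟩⟩
  by_cases hτ : τ ^ p = τ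
  · obtain ⟨K, iK, iKf, ι, m, hm, hKp, hfix, hsurj⟩ := exists_frob_model F p 1 one_ne_zero
    obtain ⟨τ₀, hτ₀⟩ := hsurj τ (by rw [pow_one]; exact hτ)
    obtain ⟨α, h1, h3⟩ := psl_model h2 ι A B hA (-1) τ₀ (by rw [hB, map_neg, map_one])
      (by rw [hτ₀, hτdef]) (by rw [map_neg, map_one, hτ₀]; exact hne)
    have hle : M.map α.toMonoidHom ≤ liePSL ι 1 one_ne_zero := by
      rw [← hcl, map_closure_pair α _ _ _ _ rfl rfl, Subgroup.closure_le]
      intro z hz
      rcases hz with rfl | rfl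
      · exact h1
      · exact h3
    rcases psl_terminal p hodd ι 1 one_ne_zero m hm M hM α hle with hKF | hc
    · obtain ⟨n, hn1, hn2, hn⟩ := card_eq_pow_of_le p 1 (by rw [← hKF]; exact hKp)
      have hn' : n = 1 := by omega
      rw [hn', pow_one] at hn
      have hdvd := hsubM p hn
      have hp5 : p ≠ 5 := by
        intro h
        apply hM.1
        rw [← Subgroup.card_eq_iff_eq_top, hcM]
        rw [hn, h] at hG
        omega
      have hnd : ¬ 5 ∣ p := by
        intro h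
        exact hp5 ((Nat.prime_dvd_prime_iff_eq (by norm_num) hp).mp h).symm
      have hd2 : 5 ∣ p ^ 2 - 1 := ((Nat.Prime.dvd_mul (by norm_num)).mp hdvd).resolve_left hnd
      have hp1 : 1 ≤ p ^ 2 := Nat.one_le_pow _ _ hp.pos
      have hsq : p ^ 2 % 5 = 1 := by omega
      have hp5' : p % 5 = 1 ∨ p % 5 = 4 := by
        rw [Nat.pow_mod] at hsq
        have hr : p % 5 < 5 := Nat.mod_lt _ (by norm_num)
        generalize p % 5 = r at hsq hr
        interval_cases r <;> simp at hsq <;> omega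
      obtain ⟨k, hk⟩ := hpodd
      right; right; right; right; right; left
      refine ⟨?_, Or.inl hn, ⟨e⟩⟩
      rw [hn]
      omega
    · exact hc
  · have hp5 : p ≠ 5 := hp5ne.resolve_right hτ
    have hτp' : (τ ^ p) ^ 2 + τ ^ p - 1 = 0 := by
      have h := congrArg (frobenius F p) hAB
      simp only [map_sub, map_add, map_pow, map_one, map_zero, frobenius_def] at h
      exact h
    have hτp : τ ^ p = -1 - τ := by
      have h : (τ ^ p - τ) * (τ ^ p + τ + 1) = 0 := by linear_combination hτp' - hAB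
      rcases mul_eq_zero.mp h with h | h
      · exact absurd (by linear_combination h) hτ
      · linear_combination h
    have hτp2 : τ ^ (p ^ 2) = τ := by
      rw [pow_two, pow_mul, hτp, sub_pow_char, Odd.neg_one_pow hpodd, hτp]
      ring
    obtain ⟨K, iK, iKf, ι, m, hm, hKp, hfix, hsurj⟩ := exists_frob_model F p 2 two_ne_zero
    obtain ⟨τ₀, hτ₀⟩ := hsurj τ hτp2
    obtain ⟨α, h1, h3⟩ := psl_model h2 ι A B hA (-1) τ₀ (by rw [hB, map_neg, map_one])
      (by rw [hτ₀, hτdef]) (by rw [map_neg, map_one, hτ₀]; exact hne)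
    have hle : M.map α.toMonoidHom ≤ liePSL ι 1 one_ne_zero := by
      rw [← hcl, map_closure_pair α _ _ _ _ rfl rfl, Subgroup.closure_le]
      intro z hz
      rcases hz with rfl | rfl
      · exact h1
      · exact h3
    rcases psl_terminal p hodd ι 1 one_ne_zero m hm M hM α hle with hKF | hc
    · obtain ⟨n, hn1, hn2, hn⟩ := card_eq_pow_of_le p 2 (by rw [← hKF]; exact hKp)
      have hn1' : n ≠ 1 := by
        rintro rfl
        rw [pow_one] at hn
        apply hτ
        have := FiniteField.pow_card τ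
        rwa [hn] at this
      have hn' : n = 2 := by omega
      rw [hn'] at hn
      have hnd : ¬ 5 ∣ p := by
        intro h
        exact hp5 ((Nat.prime_dvd_prime_iff_eq (by norm_num) hp).mp h).symm
      have hp5' : ¬ (p % 5 = 1 ∨ p % 5 = 4) := by
        intro h
        apply hτ
        apply frob_fix_of_golden p τ hAB h
        rw [hn]
        have hsq : p ^ 2 % 5 = 1 := by
          rw [Nat.pow_mod]
          rcases h with h | h <;> rw [h]
        have hp1 : 1 ≤ p ^ 2 := Nat.one_le_pow _ _ hp.pos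
        omega
      have hp0 : p % 5 ≠ 0 := fun h => hnd (Nat.dvd_of_mod_eq_zero h)
      obtain ⟨k, hk⟩ := hpodd
      have hp10 : p % 10 = 3 ∨ p % 10 = 7 := by omega
      right; right; right; right; right; left
      refine ⟨Or.inr ?_, Or.inr ⟨hn, hp10⟩, ⟨e⟩⟩
      rw [hn, Nat.pow_mod]
      rcases hp10 with h | h <;> rw [h]
    · exact hc

end cases

end Cfsg.Agent.Lib.Helper41
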