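import Cfsg.Agent.Lib.Helper41.SL2Sylow2
import Cfsg.Agent.Lib.Helper41.KleinCount
import Cfsg.Agent.Lib.Helper41.PSL2Class
import Cfsg.Agent.Lib.Helper67.SylowLemmas
import Cfsg.Agent.S0809

set_option autoImplicit false

namespace Cfsg.Agent.Lib.Helper41

open Matrix

variable {F : Type*} [Field F]

theorem trace_zero_regular (h2 : (2 : F) ≠ 0) (X : Matrix.SpecialLinearGroup (Fin 2) F)
    (hX : X.1.trace = 0) : X.1.trace * X.1.trace ≠ 4 := by
  rw [hX]
  intro h
  apply h2
  have h4 : (4 : F) = 2 * 2 := by norm_num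
  have : (2 : F) * 2 = 0 := by rw [← h4, ← h]; ring
  exact (mul_self_eq_zero.mp this)

theorem inv_eq_negOne_mul (X : Matrix.SpecialLinearGroup (Fin 2) F) (hX : X.1.trace = 0) :
    X⁻¹ = negOne * X := by
  apply Subtype.ext
  rw [sl2_inv_coe, hX, Matrix.SpecialLinearGroup.coe_mul, negOne_coe]
  simp

theorem mk_negOne_mul (X : Matrix.SpecialLinearGroup (Fin 2) F) :
    (QuotientGroup.mk (negOne * X) : Matrix.ProjectiveSpecialLinearGroup (Fin 2) F) =
      QuotientGroup.mk X := by
  rw [psl2_mk_eq_iff]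
  right
  rw [Matrix.SpecialLinearGroup.coe_mul, negOne_coe]
  simp

theorem psl2_orderOf_eq_two_iff [Fintype F] (h2 : (2 : F) ≠ 0)
    (Y : Matrix.SpecialLinearGroup (Fin 2) F) :
    orderOf (QuotientGroup.mk Y : Matrix.ProjectiveSpecialLinearGroup (Fin 2) F) = 2 ↔
      Y.1.trace = 0 := by
  constructor
  · exact Cfsg.Agent.S0809.trace_of_involution h2 Y
  · intro h
    rw [psl2_orderOf_of_two_ne_zero h2, pow_two, (sq_eq_negOne_iff Y).mpr h]
    apply orderOf_eq_prime
    · rw [pow_two, negOne_mul_self]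
    · exact negOne_ne_one h2

/-- commuting distinct involutions of `PSL₂` in terms of lifts -/
theorem psl2_comm_involutions_iff (h2 : (2 : F) ≠ 0)
    (X Y : Matrix.SpecialLinearGroup (Fin 2) F) (hX : X.1.trace = 0) (hY : Y.1.trace = 0) :
    ((QuotientGroup.mk Y : Matrix.ProjectiveSpecialLinearGroup (Fin 2) F) ≠ QuotientGroup.mk X ∧
      (QuotientGroup.mk X : Matrix.ProjectiveSpecialLinearGroup (Fin 2) F) * QuotientGroup.mk Y =
        QuotientGroup.mk Y * QuotientGroup.mk X) ↔ Y * X * Y⁻¹ = X⁻¹ := by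
  have hτ := trace_zero_regular h2 X hX
  constructor
  · rintro ⟨hne, hc⟩
    rw [← QuotientGroup.mk_mul, ← QuotientGroup.mk_mul, psl2_mk_eq_iff] at hc
    rcases hc with hc | hc
    · exfalso
      apply hne
      have hc' : Y * X = X * Y := Subtype.ext hc
      rcases regular_conj_cases h2 X Y hτ (by rw [hX, hY]) hc' with h | h
      · rw [h]
      · rw [h, inv_eq_negOne_mul X hX, mk_negOne_mul]
    · have hc' : Y * X = negOne * (X * Y) := by
        apply Subtype.ext
        rw [hc, Matrix.SpecialLinearGroup.coe_mul negOne, negOne_coe]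
        simp
      rw [hc', inv_eq_negOne_mul X hX]
      group
  · intro h
    constructor
    · intro hYX
      rw [psl2_mk_eq_iff] at hYX
      apply inv_ne_self_of_regular h2 X hτ
      rw [← h]
      rcases hYX with h' | h'
      · have e : X = Y := Subtype.ext h'
        rw [e]
        group
      · have e : X = negOne * Y := by
          apply Subtype.ext
          rw [h', Matrix.SpecialLinearGroup.coe_mul, negOne_coe]
          simp
        rw [e, ← mul_assoc, ← negOne_comm Y, mul_assoc negOne, mul_assoc, mul_assoc,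
          mul_inv_cancel, mul_one]
    · rw [← QuotientGroup.mk_mul, ← QuotientGroup.mk_mul, psl2_mk_eq_iff]
      right
      have e : Y * X = negOne * (X * Y) := by
        have e1 : Y * X = (Y * X * Y⁻¹) * Y := by group
        rw [e1, h, inv_eq_negOne_mul X hX, mul_assoc]
      rw [e, Matrix.SpecialLinearGroup.coe_mul negOne, negOne_coe]
      simp

section finite

variable [Fintype F]

theorem card_inverting (h2 : (2 : F) ≠ 0) (X : Matrix.SpecialLinearGroup (Fin 2) F)
    (hX : X.1.trace = 0) :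
    Nat.card {Y : Matrix.SpecialLinearGroup (Fin 2) F // Y * X * Y⁻¹ = X⁻¹} =
      Nat.card (conic (0 : F)) := by
  have hτ := trace_zero_regular h2 X hX
  obtain ⟨w, hw⟩ := exists_inverting h2 X hτ
  have h1 := card_centralizer_eq_card_conic X (not_mem_center_of_trace h2 X hτ)
  rw [hX] at h1
  rw [← h1]
  apply Nat.card_congr
  refine Equiv.subtypeEquiv (p := fun Y => Y * X * Y⁻¹ = X⁻¹)
    (q := fun b => b ∈ Subgroup.centralizer ({X} : Set (Matrix.SpecialLinearGroup (Fin 2) F)))
    (Equiv.mulLeft w⁻¹) ?_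
  intro Y
  rw [conj_eq_iff_mem_centralizer, Equiv.coe_mulLeft]
  have e : w⁻¹ * Y * X * (w⁻¹ * Y)⁻¹ = w⁻¹ * (Y * X * Y⁻¹) * w := by group
  rw [e]
  constructor
  · intro h
    rw [h, ← hw]
    group
  · intro h
    have e2 : Y * X * Y⁻¹ = w * (w⁻¹ * (Y * X * Y⁻¹) * w) * w⁻¹ := by group
    rw [e2, h, hw]

/-- the number of involutions commuting with a given involution of `PSL₂` -/
theorem card_comm_involutions (h2 : (2 : F) ≠ 0) (X : Matrix.SpecialLinearGroup (Fin 2) F)
    (hX : X.1.trace = 0) :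
    2 * Nat.card {y : Matrix.ProjectiveSpecialLinearGroup (Fin 2) F //
      orderOf y = 2 ∧ y ≠ QuotientGroup.mk X ∧ QuotientGroup.mk X * y = y * QuotientGroup.mk X} =
      Nat.card (conic (0 : F)) := by
  classical
  have hτ := trace_zero_regular h2 X hX
  rw [← card_inverting h2 X hX]
  obtain ⟨D, hD⟩ : ∃ D : Finset (Matrix.SpecialLinearGroup (Fin 2) F),
      D = Finset.univ.filter (fun Y => Y * X * Y⁻¹ = X⁻¹) := ⟨_, rfl⟩
  obtain ⟨S, hS⟩ : ∃ S : Finset (Matrix.ProjectiveSpecialLinearGroup (Fin 2) F),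
      S = Finset.univ.filter (fun y => orderOf y = 2 ∧ y ≠ QuotientGroup.mk X ∧
        QuotientGroup.mk X * y = y * QuotientGroup.mk X) := ⟨_, rfl⟩
  have hDmem : ∀ Y, Y ∈ D ↔ Y * X * Y⁻¹ = X⁻¹ := by
    intro Y
    rw [hD]
    simp
  have hSmem : ∀ y, y ∈ S ↔ (orderOf y = 2 ∧ y ≠ QuotientGroup.mk X ∧
      QuotientGroup.mk X * y = y * QuotientGroup.mk X) := by
    intro y
    rw [hS]
    simp
  rw [Nat.subtype_card D hDmem, Nat.subtype_card S hSmem]
  have hmaps : ∀ Y ∈ D,
      (QuotientGroup.mk Y : Matrix.ProjectiveSpecialLinearGroup (Fin 2) F) ∈ S := by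
    intro Y hY
    rw [hDmem] at hY
    rw [hSmem]
    have hY0 : Y.1.trace = 0 := trace_zero_of_inverting X Y hτ hY
    have h3 := (psl2_comm_involutions_iff h2 X Y hX hY0).mpr hY
    exact ⟨(psl2_orderOf_eq_two_iff h2 Y).mpr hY0, h3.1, h3.2⟩
  rw [Finset.card_eq_sum_card_fiberwise hmaps]
  have hfib : ∀ y ∈ S, (D.filter (fun Y =>
      (QuotientGroup.mk Y : Matrix.ProjectiveSpecialLinearGroup (Fin 2) F) = y)).card = 2 := by
    intro y hy
    rw [hSmem] at hy
    obtain ⟨Y₀, rfl⟩ := QuotientGroup.mk_surjective y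
    have hY0 : Y₀.1.trace = 0 := (psl2_orderOf_eq_two_iff h2 Y₀).mp hy.1
    have hY0D : Y₀ * X * Y₀⁻¹ = X⁻¹ :=
      (psl2_comm_involutions_iff h2 X Y₀ hX hY0).mp ⟨hy.2.1, hy.2.2⟩
    have hset : D.filter (fun Y =>
        (QuotientGroup.mk Y : Matrix.ProjectiveSpecialLinearGroup (Fin 2) F) =
          QuotientGroup.mk Y₀) = {Y₀, negOne * Y₀} := by
      ext Y
      rw [Finset.mem_filter, hDmem, Finset.mem_insert, Finset.mem_singleton]
      constructor
      · rintro ⟨-, h⟩
        rw [psl2_mk_eq_iff] at h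
        rcases h with h | h
        · left
          exact (Subtype.ext h).symm
        · right
          apply Subtype.ext
          rw [Matrix.SpecialLinearGroup.coe_mul, negOne_coe, h]
          simp
      · rintro (rfl | rfl)
        · exact ⟨hY0D, rfl⟩
        · refine ⟨?_, mk_negOne_mul Y₀⟩
          rw [← hY0D]
          have e : (negOne * Y₀) * X * (negOne * Y₀)⁻¹ = negOne * (Y₀ * X * Y₀⁻¹) * negOne⁻¹ := by
            group
          rw [e, negOne_comm, mul_assoc, mul_inv_cancel, mul_one]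
    rw [hset, Finset.card_pair]
    intro h
    apply negOne_ne_one h2
    calc (negOne : Matrix.SpecialLinearGroup (Fin 2) F) = (negOne * Y₀) * Y₀⁻¹ := by group
      _ = 1 := by rw [← h, mul_inv_cancel]
  rw [Finset.sum_congr rfl hfib, Finset.sum_const, smul_eq_mul, mul_comm]

/-- involutions of `PSL₂` form one class, of size `|PSL₂|` over the conic size -/
theorem card_involutions_mul (h2 : (2 : F) ≠ 0) :
    Nat.card {a : Matrix.ProjectiveSpecialLinearGroup (Fin 2) F // orderOf a = 2} *
      Nat.card (conic (0 : F)) = Nat.card (Matrix.ProjectiveSpecialLinearGroup (Fin 2) F) := by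
  classical
  obtain ⟨W, hW⟩ : ∃ W : Matrix.SpecialLinearGroup (Fin 2) F, W = weylW := ⟨_, rfl⟩
  have hW0 : W.1.trace = 0 := by
    rw [hW, weylW_coe]
    simp [Matrix.trace_fin_two]
  have hτ := trace_zero_regular h2 W hW0
  have hset : {a : Matrix.ProjectiveSpecialLinearGroup (Fin 2) F | orderOf a = 2} =
      (ConjClasses.mk (QuotientGroup.mk W :
        Matrix.ProjectiveSpecialLinearGroup (Fin 2) F)).carrier := by
    ext a
    rw [Set.mem_ofPred_eq, ConjClasses.mem_carrier_iff_mk_eq, ConjClasses.mk_eq_mk_iff_isConj,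
      isConj_iff]
    constructor
    · intro h
      obtain ⟨A, rfl⟩ := QuotientGroup.mk_surjective a
      have hA0 := (psl2_orderOf_eq_two_iff h2 A).mp h
      obtain ⟨P, hP⟩ := conj_of_trace_zero h2 A W hA0 hW0
      refine ⟨QuotientGroup.mk P, ?_⟩
      rw [← hP]
      rfl
    · rintro ⟨c, hc⟩
      have h1 : orderOf (QuotientGroup.mk W : Matrix.ProjectiveSpecialLinearGroup (Fin 2) F) = 2 :=
        (psl2_orderOf_eq_two_iff h2 W).mpr hW0
      have h3 := (MulAut.conj c).orderOf_eq a
      rw [MulAut.conj_apply, hc, h1] at h3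
      exact h3.symm
  have h1 : Nat.card {a : Matrix.ProjectiveSpecialLinearGroup (Fin 2) F // orderOf a = 2} =
      (Subgroup.centralizer ({(QuotientGroup.mk W :
        Matrix.ProjectiveSpecialLinearGroup (Fin 2) F)} :
        Set (Matrix.ProjectiveSpecialLinearGroup (Fin 2) F))).index := by
    rw [← Cfsg.Agent.Lib.Helper67.ncard_conjClasses_carrier, ← hset, ← Nat.card_coe_set_eq]
    rfl
  have h3 := psl2_index_centralizer_of_trace_eq_zero h2 W hW0
  have h4 := Subgroup.index_mul_card
    (Subgroup.centralizer ({W} : Set (Matrix.SpecialLinearGroup (Fin 2) F)))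
  have h5 := card_centralizer_eq_card_conic W (not_mem_center_of_trace h2 W hτ)
  rw [hW0] at h5
  have h6 := Cfsg.Agent.Lib.Helper5.card_PSL_mul_card_center (Fin 2) F
  rw [Cfsg.Agent.Lib.Helper5.card_center_SL2_of_two_ne_zero h2] at h6
  rw [h1]
  rw [h5] at h4
  have h7 : 2 * ((Subgroup.centralizer ({(QuotientGroup.mk W :
        Matrix.ProjectiveSpecialLinearGroup (Fin 2) F)} :
        Set (Matrix.ProjectiveSpecialLinearGroup (Fin 2) F))).index * Nat.card (conic (0 : F))) =
      2 * Nat.card (Matrix.ProjectiveSpecialLinearGroup (Fin 2) F) := by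
    rw [← mul_assoc, h3, h4, ← h6, mul_comm]
  omega

/-- ordered pairs of distinct commuting involutions of `PSL₂` -/
theorem psl2_card_comm_involution_pairs (h2 : (2 : F) ≠ 0) :
    2 * Nat.card {p : Matrix.ProjectiveSpecialLinearGroup (Fin 2) F ×
        Matrix.ProjectiveSpecialLinearGroup (Fin 2) F //
        orderOf p.1 = 2 ∧ orderOf p.2 = 2 ∧ p.1 ≠ p.2 ∧ p.1 * p.2 = p.2 * p.1} =
      Nat.card (Matrix.ProjectiveSpecialLinearGroup (Fin 2) F) := by
  classical
  rw [← card_involutions_mul h2]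
  rw [Nat.card_congr (Equiv.subtypeProdEquivSigmaSubtype
    (fun a b : Matrix.ProjectiveSpecialLinearGroup (Fin 2) F =>
      orderOf a = 2 ∧ orderOf b = 2 ∧ a ≠ b ∧ a * b = b * a))]
  rw [Nat.card_sigma, Finset.mul_sum]
  have hterm : ∀ a : Matrix.ProjectiveSpecialLinearGroup (Fin 2) F,
      2 * Nat.card {b : Matrix.ProjectiveSpecialLinearGroup (Fin 2) F //
        orderOf a = 2 ∧ orderOf b = 2 ∧ a ≠ b ∧ a * b = b * a} =
      if orderOf a = 2 then Nat.card (conic (0 : F)) else 0 := by
    intro a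
    split_ifs with ha
    · obtain ⟨A, rfl⟩ := QuotientGroup.mk_surjective a
      have hA0 := (psl2_orderOf_eq_two_iff h2 A).mp ha
      rw [← card_comm_involutions h2 A hA0]
      congr 1
      apply Nat.card_congr
      apply Equiv.subtypeEquivRight
      intro b
      constructor
      · rintro ⟨-, hb, hne, hc⟩
        exact ⟨hb, fun h => hne h.symm, hc⟩
      · rintro ⟨hb, hne, hc⟩
        exact ⟨ha, hb, fun h => hne h.symm, hc⟩
    · have hemp : IsEmpty {b : Matrix.ProjectiveSpecialLinearGroup (Fin 2) F //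
          orderOf a = 2 ∧ orderOf b = 2 ∧ a ≠ b ∧ a * b = b * a} := ⟨fun b => ha b.2.1⟩
      rw [Nat.card_of_isEmpty]
  rw [Finset.sum_congr rfl (fun a _ => hterm a)]
  rw [← Finset.sum_filter, Finset.sum_const, smul_eq_mul]
  congr 1
  symm
  apply Nat.subtype_card
  intro a
  simp

/-- twelve times the number of four-subgroups of `PSL₂` in odd characteristic is its order -/
theorem psl2_card_klein (h2 : (2 : F) ≠ 0) :
    12 * Nat.card {V : Subgroup (Matrix.ProjectiveSpecialLinearGroup (Fin 2) F) //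
      IsKleinFour V} = Nat.card (Matrix.ProjectiveSpecialLinearGroup (Fin 2) F) := by
  have h1 := klein_count (G := Matrix.ProjectiveSpecialLinearGroup (Fin 2) F)
  have h3 := psl2_card_comm_involution_pairs h2
  omega

end finite

end Cfsg.Agent.Lib.Helper41
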