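import Cfsg.Agent.Lib.Helper41.SL2Torus

set_option autoImplicit false

namespace Cfsg.Agent.Lib.Helper41

open Matrix

variable {F : Type*} [Field F]

/-- traceless two by two matrices: `A B + B A = tr (A B)` -/
theorem anticomm_of_trace_zero (A B : Matrix (Fin 2) (Fin 2) F) (hA : A.trace = 0)
    (hB : B.trace = 0) :
    A * B + B * A = (A * B).trace • (1 : Matrix (Fin 2) (Fin 2) F) := by
  rw [Matrix.trace_fin_two] at hA hB
  have hA' : A 1 1 = -A 0 0 := by linear_combination hA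
  have hB' : B 1 1 = -B 0 0 := by linear_combination hB
  ext i j
  fin_cases i <;> fin_cases j <;>
    simp [Matrix.mul_apply, Fin.sum_univ_two, Matrix.trace_fin_two, hA', hB'] <;> ring

/-- a quaternion pair in `SL₂`: `j i = - i j` -/
theorem quat_anticomm (i j : Matrix.SpecialLinearGroup (Fin 2) F) (hi : i.1.trace = 0)
    (hj : j.1.trace = 0) (hij : (i * j).1.trace = 0) : j * i = negOne * (i * j) := by
  have h := anticomm_of_trace_zero i.1 j.1 hi hj
  rw [← Matrix.SpecialLinearGroup.coe_mul, hij, zero_smul] at h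
  apply Subtype.ext
  rw [Matrix.SpecialLinearGroup.coe_mul, Matrix.SpecialLinearGroup.coe_mul, negOne_coe, neg_one_mul]
  rw [Matrix.SpecialLinearGroup.coe_mul] at h
  exact eq_neg_of_add_eq_zero_right h

/-- in a quaternion pair `j` inverts `i` -/
theorem quat_inverts (i j : Matrix.SpecialLinearGroup (Fin 2) F) (hi : i.1.trace = 0)
    (hj : j.1.trace = 0) (hij : (i * j).1.trace = 0) : j * i * j⁻¹ = i⁻¹ := by
  rw [quat_anticomm i j hi hj hij]
  have hii : i * i = negOne := (sq_eq_negOne_iff i).mpr hi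
  have h1 : i * (negOne * i) = 1 := by
    rw [← hii]
    calc i * (i * i * i) = (i * i) * (i * i) := by group
      _ = 1 := by rw [hii, negOne_mul_self]
  have : i⁻¹ = negOne * i := inv_eq_of_mul_eq_one_right h1
  rw [this]
  group

/-- the Hurwitz unit `(-1 + i + j + i j) / 2` attached to a quaternion pair -/
theorem exists_hurwitz (h2 : (2 : F) ≠ 0) (i j : Matrix.SpecialLinearGroup (Fin 2) F)
    (hi : i.1.trace = 0) (hj : j.1.trace = 0) (hij : (i * j).1.trace = 0) :
    ∃ u : Matrix.SpecialLinearGroup (Fin 2) F, u * i * u⁻¹ = i * j ∧ u * j * u⁻¹ = i ∧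
      u * u * u = 1 ∧ u ≠ 1 := by
  obtain ⟨I, hI⟩ : ∃ I : Matrix (Fin 2) (Fin 2) F, I = i.1 := ⟨_, rfl⟩
  obtain ⟨J, hJ⟩ : ∃ J : Matrix (Fin 2) (Fin 2) F, J = j.1 := ⟨_, rfl⟩
  obtain ⟨K, hK⟩ : ∃ K : Matrix (Fin 2) (Fin 2) F, K = I * J := ⟨_, rfl⟩
  have hII : I * I = -1 := by rw [hI]; exact sq_of_trace_zero i hi
  have hJJ : J * J = -1 := by rw [hJ]; exact sq_of_trace_zero j hj
  have hIJ : I * J = K := hK.symm
  have hKtr : K.trace = 0 := by
    rw [hK, hI, hJ, ← Matrix.SpecialLinearGroup.coe_mul]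
    exact hij
  have hJI : J * I = -K := by
    have h := anticomm_of_trace_zero i.1 j.1 hi hj
    rw [← hI, ← hJ, hIJ, hKtr, zero_smul] at h
    exact eq_neg_of_add_eq_zero_right h
  have hIK : I * K = -J := by
    rw [hK, ← Matrix.mul_assoc, hII, neg_one_mul]
  have hKJ : K * J = -I := by
    rw [hK, Matrix.mul_assoc, hJJ, mul_neg, mul_one]
  have hKI : K * I = J := by
    rw [hK, Matrix.mul_assoc, hJI, mul_neg, hIK, neg_neg]
  have hJK : J * K = I := by
    rw [hK, ← Matrix.mul_assoc, hJI, neg_mul, hKJ, neg_neg]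
  have hKK : K * K = -1 := by
    nth_rewrite 1 [hK]
    rw [Matrix.mul_assoc, hJK, hII]
  obtain ⟨V, hV⟩ : ∃ V : Matrix (Fin 2) (Fin 2) F, V = -1 + I + J + K := ⟨_, rfl⟩
  have hVV : V * V = -(V + V) - (1 + 1 + 1 + 1) := by
    rw [hV]
    simp only [mul_add, add_mul, neg_mul, mul_neg, mul_one, one_mul, neg_neg, hII, hJJ, hKK, hIJ,
      hJI, hIK, hKI, hJK, hKJ]
    abel
  have hVI : V * I = K * V := by
    rw [hV]
    simp only [mul_add, add_mul, neg_mul, mul_neg, mul_one, one_mul, neg_neg, hII, hJJ, hKK, hIJ,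
      hJI, hIK, hKI, hJK, hKJ]
    abel
  have hVJ : V * J = I * V := by
    rw [hV]
    simp only [mul_add, add_mul, neg_mul, mul_neg, mul_one, one_mul, neg_neg, hII, hJJ, hKK, hIJ,
      hJI, hIK, hKI, hJK, hKJ]
    abel
  obtain ⟨c, hc⟩ : ∃ c : F, 2 * c = 1 := ⟨2⁻¹, mul_inv_cancel₀ h2⟩
  obtain ⟨U, hU⟩ : ∃ U : Matrix (Fin 2) (Fin 2) F, U = c • V := ⟨_, rfl⟩
  have hUU : U * U = -U - 1 := by
    rw [hU, Matrix.smul_mul, Matrix.mul_smul, smul_smul, hVV]
    have e1 : (c * c) • (-(V + V) - (1 + 1 + 1 + 1)) =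
        (-(2 * c * c)) • V - (4 * c * c) • (1 : Matrix (Fin 2) (Fin 2) F) := by
      module
    have e2 : -(2 * c * c) = -c := by linear_combination -c * hc
    have e3 : 4 * c * c = 1 := by linear_combination (2 * c + 1) * hc
    rw [e1, e2, e3, one_smul, neg_smul]
  have hUtr : U.trace = -1 := by
    rw [hU, Matrix.trace_smul, hV]
    simp only [Matrix.trace_add, Matrix.trace_neg, Matrix.trace_one, Fintype.card_fin, hKtr]
    rw [hI, hJ, hi, hj]
    simp
    linear_combination hc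
  have hUdet : U.det = 1 := by
    have hcay := cayley2 U
    rw [hUU, hUtr] at hcay
    have h00 := congrFun (congrFun hcay 0) 0
    simp at h00
    linear_combination -h00
  have hUI : U * I = K * U := by
    rw [hU, Matrix.smul_mul, Matrix.mul_smul, hVI]
  have hUJ : U * J = I * U := by
    rw [hU, Matrix.smul_mul, Matrix.mul_smul, hVJ]
  obtain ⟨u, hu⟩ : ∃ u : Matrix.SpecialLinearGroup (Fin 2) F, u.1 = U := ⟨⟨U, hUdet⟩, rfl⟩
  refine ⟨u, ?_, ?_, ?_, ?_⟩
  · have : u * i = i * j * u := by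
      apply Subtype.ext
      simp only [Matrix.SpecialLinearGroup.coe_mul]
      rw [hu, ← hI, ← hJ, hIJ, hUI]
    rw [this]
    group
  · have : u * j = i * u := by
      apply Subtype.ext
      simp only [Matrix.SpecialLinearGroup.coe_mul]
      rw [hu, ← hI, ← hJ, hUJ]
    rw [this]
    group
  · apply Subtype.ext
    simp only [Matrix.SpecialLinearGroup.coe_mul, Matrix.SpecialLinearGroup.coe_one]
    rw [hu, hUU, sub_mul, neg_mul, hUU, one_mul]
    abel
  · intro h1
    have hU1 : U = 1 := by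
      rw [← hu, h1]
      rfl
    have hJI' : J = I := by
      have := hUJ
      rw [hU1, one_mul, mul_one] at this
      exact this
    have hK1 : K = -1 := by rw [hK, hJI', hII]
    rw [hK1] at hKtr
    simp at hKtr
    exact h2 hKtr

/-- existence of a quaternion pair over a finite field of odd order -/
theorem exists_quat_pair [Fintype F] (h2 : (2 : F) ≠ 0) :
    ∃ i j : Matrix.SpecialLinearGroup (Fin 2) F, i.1.trace = 0 ∧ j.1.trace = 0 ∧
      (i * j).1.trace = 0 := by
  obtain ⟨s, z, hsz⟩ := exists_sq_eq_quadratic h2 (-1) 0 (-1) (neg_ne_zero.mpr one_ne_zero)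
  obtain ⟨j, hj⟩ : ∃ j : Matrix.SpecialLinearGroup (Fin 2) F, j.1 = !![s, z; z, -s] := by
    refine ⟨⟨_, ?_⟩, rfl⟩
    rw [Matrix.det_fin_two]
    simp
    linear_combination -hsz
  refine ⟨weylW, j, ?_, ?_, ?_⟩
  · rw [weylW_coe]
    simp [Matrix.trace_fin_two]
  · rw [hj]
    simp [Matrix.trace_fin_two]
  · rw [Matrix.SpecialLinearGroup.coe_mul, weylW_coe, hj]
    simp [Matrix.trace_fin_two, Matrix.mul_apply, Fin.sum_univ_two]

end Cfsg.Agent.Lib.Helper41
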